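import Cfsg.Agent.Lib.AltEightThree.Points

/-!
# Finite facts about the alternating group of degree eight
-/

set_option autoImplicit false
set_option maxRecDepth 20000
set_option synthInstance.maxSize 4000
set_option synthInstance.maxHeartbeats 400000

open Equiv

namespace CfsgLib.AltEightThree

attribute [local instance 2000] List.decidableBAll List.decidableBEx

/-- The alternating group of degree eight. -/
abbrev A8 := alternatingGroup (Fin 8)

/-- An element given by its values. -/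
def mkA (f g : Fin 8 → Fin 8) (h1 : ∀ x, g (f x) = x) (h2 : ∀ x, f (g x) = x)
    (h3 : Perm.sign (⟨f, g, h1, h2⟩ : Perm (Fin 8)) = 1) : A8 :=
  ⟨⟨f, g, h1, h2⟩, Perm.mem_alternatingGroup.mpr h3⟩

def tA : A8 := (mkA ![1, 0, 3, 2, 4, 5, 6, 7] ![1, 0, 3, 2, 4, 5, 6, 7] (by decide +kernel) (by decide +kernel) (by decide +kernel))

def jA : A8 := (mkA ![1, 0, 3, 2, 5, 4, 7, 6] ![1, 0, 3, 2, 5, 4, 7, 6] (by decide +kernel) (by decide +kernel) (by decide +kernel))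

def vA : A8 := (mkA ![2, 3, 0, 1, 4, 5, 6, 7] ![2, 3, 0, 1, 4, 5, 6, 7] (by decide +kernel) (by decide +kernel) (by decide +kernel))

def w0A : A8 := (mkA ![1, 0, 2, 3, 5, 4, 6, 7] ![1, 0, 2, 3, 5, 4, 6, 7] (by decide +kernel) (by decide +kernel) (by decide +kernel))

def yA : A8 := (mkA ![2, 3, 4, 5, 0, 1, 6, 7] ![4, 5, 0, 1, 2, 3, 6, 7] (by decide +kernel) (by decide +kernel) (by decide +kernel))

def swapA : A8 := (mkA ![4, 5, 6, 7, 0, 1, 2, 3] ![4, 5, 6, 7, 0, 1, 2, 3] (by decide +kernel) (by decide +kernel) (by decide +kernel))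

def jSwap : A8 := (mkA ![3, 4, 5, 0, 1, 2, 7, 6] ![3, 4, 5, 0, 1, 2, 7, 6] (by decide +kernel) (by decide +kernel) (by decide +kernel))

def cShift : A8 := (mkA ![4, 5, 6, 0, 1, 2, 3, 7] ![3, 4, 5, 6, 0, 1, 2, 7] (by decide +kernel) (by decide +kernel) (by decide +kernel))

def rhoA : A8 := (mkA ![0, 2, 4, 1, 3, 5, 7, 6] ![0, 3, 1, 4, 2, 5, 7, 6] (by decide +kernel) (by decide +kernel) (by decide +kernel))

def eList : List A8 := [
  (mkA ![0, 1, 2, 3, 4, 5, 6, 7] ![0, 1, 2, 3, 4, 5, 6, 7] (by decide +kernel) (by decide +kernel) (by decide +kernel)),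
  (mkA ![0, 1, 2, 3, 5, 4, 7, 6] ![0, 1, 2, 3, 5, 4, 7, 6] (by decide +kernel) (by decide +kernel) (by decide +kernel)),
  (mkA ![0, 1, 2, 3, 6, 7, 4, 5] ![0, 1, 2, 3, 6, 7, 4, 5] (by decide +kernel) (by decide +kernel) (by decide +kernel)),
  (mkA ![0, 1, 2, 3, 7, 6, 5, 4] ![0, 1, 2, 3, 7, 6, 5, 4] (by decide +kernel) (by decide +kernel) (by decide +kernel)),
  (mkA ![1, 0, 3, 2, 4, 5, 6, 7] ![1, 0, 3, 2, 4, 5, 6, 7] (by decide +kernel) (by decide +kernel) (by decide +kernel)),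
  (mkA ![1, 0, 3, 2, 5, 4, 7, 6] ![1, 0, 3, 2, 5, 4, 7, 6] (by decide +kernel) (by decide +kernel) (by decide +kernel)),
  (mkA ![1, 0, 3, 2, 6, 7, 4, 5] ![1, 0, 3, 2, 6, 7, 4, 5] (by decide +kernel) (by decide +kernel) (by decide +kernel)),
  (mkA ![1, 0, 3, 2, 7, 6, 5, 4] ![1, 0, 3, 2, 7, 6, 5, 4] (by decide +kernel) (by decide +kernel) (by decide +kernel)),
  (mkA ![2, 3, 0, 1, 4, 5, 6, 7] ![2, 3, 0, 1, 4, 5, 6, 7] (by decide +kernel) (by decide +kernel) (by decide +kernel)),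
  (mkA ![2, 3, 0, 1, 5, 4, 7, 6] ![2, 3, 0, 1, 5, 4, 7, 6] (by decide +kernel) (by decide +kernel) (by decide +kernel)),
  (mkA ![2, 3, 0, 1, 6, 7, 4, 5] ![2, 3, 0, 1, 6, 7, 4, 5] (by decide +kernel) (by decide +kernel) (by decide +kernel)),
  (mkA ![2, 3, 0, 1, 7, 6, 5, 4] ![2, 3, 0, 1, 7, 6, 5, 4] (by decide +kernel) (by decide +kernel) (by decide +kernel)),
  (mkA ![3, 2, 1, 0, 4, 5, 6, 7] ![3, 2, 1, 0, 4, 5, 6, 7] (by decide +kernel) (by decide +kernel) (by decide +kernel)),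
  (mkA ![3, 2, 1, 0, 5, 4, 7, 6] ![3, 2, 1, 0, 5, 4, 7, 6] (by decide +kernel) (by decide +kernel) (by decide +kernel)),
  (mkA ![3, 2, 1, 0, 6, 7, 4, 5] ![3, 2, 1, 0, 6, 7, 4, 5] (by decide +kernel) (by decide +kernel) (by decide +kernel)),
  (mkA ![3, 2, 1, 0, 7, 6, 5, 4] ![3, 2, 1, 0, 7, 6, 5, 4] (by decide +kernel) (by decide +kernel) (by decide +kernel))]

def hList : List A8 := [
  (mkA ![0, 1, 2, 3, 4, 5, 6, 7] ![0, 1, 2, 3, 4, 5, 6, 7] (by decide +kernel) (by decide +kernel) (by decide +kernel)),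
  (mkA ![1, 0, 2, 3, 5, 4, 6, 7] ![1, 0, 2, 3, 5, 4, 6, 7] (by decide +kernel) (by decide +kernel) (by decide +kernel)),
  (mkA ![4, 5, 6, 7, 0, 1, 2, 3] ![4, 5, 6, 7, 0, 1, 2, 3] (by decide +kernel) (by decide +kernel) (by decide +kernel)),
  (mkA ![5, 4, 6, 7, 1, 0, 2, 3] ![5, 4, 6, 7, 1, 0, 2, 3] (by decide +kernel) (by decide +kernel) (by decide +kernel))]

def cyList : List A8 := [
  (mkA ![0, 1, 2, 3, 4, 5, 6, 7] ![0, 1, 2, 3, 4, 5, 6, 7] (by decide +kernel) (by decide +kernel) (by decide +kernel)),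
  (mkA ![0, 3, 2, 5, 4, 1, 6, 7] ![0, 5, 2, 1, 4, 3, 6, 7] (by decide +kernel) (by decide +kernel) (by decide +kernel)),
  (mkA ![0, 5, 2, 1, 4, 3, 6, 7] ![0, 3, 2, 5, 4, 1, 6, 7] (by decide +kernel) (by decide +kernel) (by decide +kernel)),
  (mkA ![1, 0, 3, 2, 5, 4, 7, 6] ![1, 0, 3, 2, 5, 4, 7, 6] (by decide +kernel) (by decide +kernel) (by decide +kernel)),
  (mkA ![1, 2, 3, 4, 5, 0, 7, 6] ![5, 0, 1, 2, 3, 4, 7, 6] (by decide +kernel) (by decide +kernel) (by decide +kernel)),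
  (mkA ![1, 4, 3, 0, 5, 2, 7, 6] ![3, 0, 5, 2, 1, 4, 7, 6] (by decide +kernel) (by decide +kernel) (by decide +kernel)),
  (mkA ![2, 1, 4, 3, 0, 5, 6, 7] ![4, 1, 0, 3, 2, 5, 6, 7] (by decide +kernel) (by decide +kernel) (by decide +kernel)),
  (mkA ![2, 3, 4, 5, 0, 1, 6, 7] ![4, 5, 0, 1, 2, 3, 6, 7] (by decide +kernel) (by decide +kernel) (by decide +kernel)),
  (mkA ![2, 5, 4, 1, 0, 3, 6, 7] ![4, 3, 0, 5, 2, 1, 6, 7] (by decide +kernel) (by decide +kernel) (by decide +kernel)),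
  (mkA ![3, 0, 5, 2, 1, 4, 7, 6] ![1, 4, 3, 0, 5, 2, 7, 6] (by decide +kernel) (by decide +kernel) (by decide +kernel)),
  (mkA ![3, 2, 5, 4, 1, 0, 7, 6] ![5, 4, 1, 0, 3, 2, 7, 6] (by decide +kernel) (by decide +kernel) (by decide +kernel)),
  (mkA ![3, 4, 5, 0, 1, 2, 7, 6] ![3, 4, 5, 0, 1, 2, 7, 6] (by decide +kernel) (by decide +kernel) (by decide +kernel)),
  (mkA ![4, 1, 0, 3, 2, 5, 6, 7] ![2, 1, 4, 3, 0, 5, 6, 7] (by decide +kernel) (by decide +kernel) (by decide +kernel)),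
  (mkA ![4, 3, 0, 5, 2, 1, 6, 7] ![2, 5, 4, 1, 0, 3, 6, 7] (by decide +kernel) (by decide +kernel) (by decide +kernel)),
  (mkA ![4, 5, 0, 1, 2, 3, 6, 7] ![2, 3, 4, 5, 0, 1, 6, 7] (by decide +kernel) (by decide +kernel) (by decide +kernel)),
  (mkA ![5, 0, 1, 2, 3, 4, 7, 6] ![1, 2, 3, 4, 5, 0, 7, 6] (by decide +kernel) (by decide +kernel) (by decide +kernel)),
  (mkA ![5, 2, 1, 4, 3, 0, 7, 6] ![5, 2, 1, 4, 3, 0, 7, 6] (by decide +kernel) (by decide +kernel) (by decide +kernel)),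
  (mkA ![5, 4, 1, 0, 3, 2, 7, 6] ![3, 2, 5, 4, 1, 0, 7, 6] (by decide +kernel) (by decide +kernel) (by decide +kernel))]

def aList : List A8 := [
  (mkA ![0, 1, 2, 3, 4, 5, 6, 7] ![0, 1, 2, 3, 4, 5, 6, 7] (by decide +kernel) (by decide +kernel) (by decide +kernel)),
  (mkA ![1, 0, 3, 2, 4, 5, 6, 7] ![1, 0, 3, 2, 4, 5, 6, 7] (by decide +kernel) (by decide +kernel) (by decide +kernel)),
  (mkA ![1, 0, 2, 3, 5, 4, 6, 7] ![1, 0, 2, 3, 5, 4, 6, 7] (by decide +kernel) (by decide +kernel) (by decide +kernel)),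
  (mkA ![1, 0, 2, 3, 4, 5, 7, 6] ![1, 0, 2, 3, 4, 5, 7, 6] (by decide +kernel) (by decide +kernel) (by decide +kernel)),
  (mkA ![0, 1, 3, 2, 5, 4, 6, 7] ![0, 1, 3, 2, 5, 4, 6, 7] (by decide +kernel) (by decide +kernel) (by decide +kernel)),
  (mkA ![0, 1, 3, 2, 4, 5, 7, 6] ![0, 1, 3, 2, 4, 5, 7, 6] (by decide +kernel) (by decide +kernel) (by decide +kernel)),
  (mkA ![0, 1, 2, 3, 5, 4, 7, 6] ![0, 1, 2, 3, 5, 4, 7, 6] (by decide +kernel) (by decide +kernel) (by decide +kernel)),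
  (mkA ![1, 0, 3, 2, 5, 4, 7, 6] ![1, 0, 3, 2, 5, 4, 7, 6] (by decide +kernel) (by decide +kernel) (by decide +kernel))]

def classConj : List A8 := [
  (mkA ![4, 5, 6, 7, 0, 1, 2, 3] ![4, 5, 6, 7, 0, 1, 2, 3] (by decide +kernel) (by decide +kernel) (by decide +kernel)),
  (mkA ![4, 6, 5, 7, 0, 1, 3, 2] ![4, 5, 7, 6, 0, 2, 1, 3] (by decide +kernel) (by decide +kernel) (by decide +kernel)),
  (mkA ![4, 7, 5, 6, 0, 1, 2, 3] ![4, 5, 6, 7, 0, 2, 3, 1] (by decide +kernel) (by decide +kernel) (by decide +kernel)),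
  (mkA ![2, 3, 6, 7, 0, 1, 4, 5] ![4, 5, 0, 1, 6, 7, 2, 3] (by decide +kernel) (by decide +kernel) (by decide +kernel)),
  (mkA ![2, 3, 4, 5, 0, 1, 6, 7] ![4, 5, 0, 1, 2, 3, 6, 7] (by decide +kernel) (by decide +kernel) (by decide +kernel)),
  (mkA ![0, 1, 6, 7, 2, 3, 4, 5] ![0, 1, 4, 5, 6, 7, 2, 3] (by decide +kernel) (by decide +kernel) (by decide +kernel)),
  (mkA ![0, 1, 4, 5, 2, 3, 6, 7] ![0, 1, 4, 5, 2, 3, 6, 7] (by decide +kernel) (by decide +kernel) (by decide +kernel)),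
  (mkA ![0, 1, 2, 3, 4, 5, 6, 7] ![0, 1, 2, 3, 4, 5, 6, 7] (by decide +kernel) (by decide +kernel) (by decide +kernel)),
  (mkA ![0, 2, 1, 3, 4, 5, 7, 6] ![0, 2, 1, 3, 4, 5, 7, 6] (by decide +kernel) (by decide +kernel) (by decide +kernel)),
  (mkA ![0, 2, 1, 3, 4, 6, 5, 7] ![0, 2, 1, 3, 4, 6, 5, 7] (by decide +kernel) (by decide +kernel) (by decide +kernel)),
  (mkA ![0, 2, 1, 3, 4, 7, 6, 5] ![0, 2, 1, 3, 4, 7, 6, 5] (by decide +kernel) (by decide +kernel) (by decide +kernel)),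
  (mkA ![0, 3, 1, 2, 4, 5, 6, 7] ![0, 2, 3, 1, 4, 5, 6, 7] (by decide +kernel) (by decide +kernel) (by decide +kernel)),
  (mkA ![0, 3, 1, 2, 4, 6, 7, 5] ![0, 2, 3, 1, 4, 7, 5, 6] (by decide +kernel) (by decide +kernel) (by decide +kernel)),
  (mkA ![0, 3, 1, 2, 4, 7, 5, 6] ![0, 2, 3, 1, 4, 6, 7, 5] (by decide +kernel) (by decide +kernel) (by decide +kernel)),
  (mkA ![0, 4, 1, 5, 2, 6, 3, 7] ![0, 2, 4, 6, 1, 3, 5, 7] (by decide +kernel) (by decide +kernel) (by decide +kernel)),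
  (mkA ![0, 4, 1, 5, 2, 7, 6, 3] ![0, 2, 4, 7, 1, 3, 6, 5] (by decide +kernel) (by decide +kernel) (by decide +kernel)),
  (mkA ![0, 5, 1, 4, 2, 6, 7, 3] ![0, 2, 4, 7, 3, 1, 5, 6] (by decide +kernel) (by decide +kernel) (by decide +kernel)),
  (mkA ![0, 5, 1, 4, 2, 7, 3, 6] ![0, 2, 4, 6, 3, 1, 7, 5] (by decide +kernel) (by decide +kernel) (by decide +kernel)),
  (mkA ![0, 6, 1, 7, 2, 4, 3, 5] ![0, 2, 4, 6, 5, 7, 1, 3] (by decide +kernel) (by decide +kernel) (by decide +kernel)),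
  (mkA ![0, 6, 1, 7, 2, 5, 4, 3] ![0, 2, 4, 7, 6, 5, 1, 3] (by decide +kernel) (by decide +kernel) (by decide +kernel)),
  (mkA ![0, 7, 1, 6, 2, 4, 5, 3] ![0, 2, 4, 7, 5, 6, 3, 1] (by decide +kernel) (by decide +kernel) (by decide +kernel)),
  (mkA ![0, 7, 1, 6, 2, 5, 3, 4] ![0, 2, 4, 6, 7, 5, 3, 1] (by decide +kernel) (by decide +kernel) (by decide +kernel))]

def fusionConj : List A8 := [
  (mkA ![2, 3, 0, 1, 4, 5, 6, 7] ![2, 3, 0, 1, 4, 5, 6, 7] (by decide +kernel) (by decide +kernel) (by decide +kernel)),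
  (mkA ![2, 3, 0, 1, 6, 7, 4, 5] ![2, 3, 0, 1, 6, 7, 4, 5] (by decide +kernel) (by decide +kernel) (by decide +kernel)),
  (mkA ![0, 1, 2, 3, 4, 5, 6, 7] ![0, 1, 2, 3, 4, 5, 6, 7] (by decide +kernel) (by decide +kernel) (by decide +kernel)),
  (mkA ![0, 1, 2, 3, 6, 7, 4, 5] ![0, 1, 2, 3, 6, 7, 4, 5] (by decide +kernel) (by decide +kernel) (by decide +kernel))]

/-- The Sylow two-subgroup, as a list. -/
def sList : List A8 := eList.flatMap fun e => hList.map (e * ·)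

/-- The fixed point count. -/
def fixCount (x : A8) : ℕ := (Finset.univ.filter fun i : Fin 8 => (x : Perm (Fin 8)) i = i).card

theorem eList_mul : ∀ a ∈ eList, ∀ b ∈ eList, a * b ∈ eList ∧ a * b = b * a ∧ a * a = 1 := by decide +kernel

theorem hList_mul : ∀ a ∈ hList, ∀ b ∈ hList, a * b ∈ hList := by decide +kernel

theorem hList_conj : ∀ h ∈ hList, ∀ a ∈ eList, h * a * h⁻¹ ∈ eList := by decide +kernel

theorem mem_sList {x : A8} : x ∈ sList ↔ ∃ a ∈ eList, ∃ h ∈ hList, a * h = x := by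
  simp [sList, List.mem_flatMap, List.mem_map]

theorem sList_mul : ∀ a ∈ sList, ∀ b ∈ sList, a * b ∈ sList := by
  intro x hx y hy
  obtain ⟨a, ha, h, hh, rfl⟩ := mem_sList.mp hx
  obtain ⟨b, hb, k, hk, rfl⟩ := mem_sList.mp hy
  exact mem_sList.mpr ⟨a * (h * b * h⁻¹), (eList_mul a ha _ (hList_conj h hh b hb)).1, h * k,
    hList_mul h hh k hk, by group⟩

/-- A subgroup from a finite multiplicatively closed list containing the identity. -/
def ofList (l : List A8) (h1 : (1 : A8) ∈ l) (h2 : ∀ a ∈ l, ∀ b ∈ l, a * b ∈ l) : Subgroup A8 :=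
  subgroupOfMulClosed {x | x ∈ l} h1 h2
where
  subgroupOfMulClosed (s : Set A8) (h1 : (1 : A8) ∈ s) (h2 : ∀ a ∈ s, ∀ b ∈ s, a * b ∈ s) : Subgroup A8 :=
    { carrier := s
      one_mem' := h1
      mul_mem' := fun {a b} ha hb => h2 a ha b hb
      inv_mem' := fun {a} ha => by
        have hpow : ∀ n : ℕ, a ^ n ∈ s := fun n => by
          induction n with
          | zero => rw [pow_zero]; exact h1
          | succ n ih => rw [pow_succ]; exact h2 _ ih _ ha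
        have h := hpow (orderOf a - 1)
        rwa [show a ^ (orderOf a - 1) = a⁻¹ from eq_inv_of_mul_eq_one_left (by
          rw [← pow_succ, Nat.sub_add_cancel (orderOf_pos a), pow_orderOf_eq_one])] at h }

/-- The elementary abelian subgroup of order sixteen. -/
def eA : Subgroup A8 := ofList eList (by decide +kernel) fun a ha b hb => (eList_mul a ha b hb).1

/-- A Sylow two-subgroup. -/
def sA : Subgroup A8 := ofList sList (by decide +kernel) sList_mul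

theorem mem_eA {x : A8} : x ∈ eA ↔ x ∈ eList := Iff.rfl

theorem mem_sA {x : A8} : x ∈ sA ↔ x ∈ sList := Iff.rfl

theorem card_eA : Nat.card eA = 16 := by
  rw [Nat.card_congr (Equiv.subtypeEquivRight (q := fun x => x ∈ eList.toFinset)
    (fun x => mem_eA.trans List.mem_toFinset.symm)), Nat.card_eq_fintype_card, Fintype.card_coe]
  decide +kernel

theorem card_sA : Nat.card sA = 64 := by
  rw [Nat.card_congr (Equiv.subtypeEquivRight (q := fun x => x ∈ sList.toFinset)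
    (fun x => mem_sA.trans List.mem_toFinset.symm)), Nat.card_eq_fintype_card, Fintype.card_coe]
  decide +kernel

theorem card_A8 : Nat.card A8 = 20160 := by
  have h : 2 * Nat.card A8 = (8).factorial := by
    rw [two_mul_nat_card_alternatingGroup, Nat.card_perm, Nat.card_fin]
  rw [show (8 : ℕ).factorial = 2 * 20160 from rfl] at h
  omega

theorem e_le_s : ∀ a ∈ eList, a ∈ sList := by decide +kernel

theorem s_involutions : ∀ s ∈ sList, s * s = 1 → s ≠ 1 →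
    (fixCount s = 4 ∧ ∃ c ∈ classConj, c * tA * c⁻¹ = s) ∨
      (fixCount s = 0 ∧ ∃ c ∈ classConj, c * jA * c⁻¹ = s) := by decide +kernel

theorem e_unique : ∀ f ∈ sList, f * f = 1 → f ∉ eList →
    (sList.filter fun s => decide (s * s = 1 ∧ s * f = f * s)).length < 16 := by decide +kernel

theorem s_center : ∀ x ∈ sList, (∀ s ∈ sList, x * s = s * x) → x = 1 ∨ x = jA := by decide +kernel

theorem fix_conj (c x : A8) : fixCount (c * x * c⁻¹) = fixCount x := by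
  refine Finset.card_equiv (c : Perm (Fin 8)).symm fun i => ?_
  rw [Finset.mem_filter, Finset.mem_filter]
  simp only [Finset.mem_univ, true_and]
  show (c : Perm (Fin 8)) ((x : Perm (Fin 8)) ((c : Perm (Fin 8)).symm i)) = i ↔ _
  exact (Equiv.eq_symm_apply _).symm

theorem fix_t : fixCount tA = 4 ∧ fixCount jA = 0 := by decide +kernel

theorem fusion : ∀ w ∈ sList, w * tA = tA * w → w * w = 1 → w ≠ 1 → w ≠ tA → w ≠ vA → w ≠ tA * vA →
    fixCount w = 4 → fixCount (tA * w) = 4 →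
    ∃ c ∈ fusionConj, c * tA = tA * c ∧ c * w * c⁻¹ = w0A := by decide +kernel

theorem a_le_s : ∀ a ∈ aList, a ∈ sList := by decide +kernel

theorem a_mul : ∀ a ∈ aList, ∀ b ∈ aList, a * b ∈ aList ∧ a * b = b * a ∧ a * a = 1 := by decide +kernel

theorem a_conj : ∀ a ∈ aList, yA * a * yA⁻¹ ∈ aList := by decide +kernel

/-- No image of the group `A` with the same classes inside the elementary subgroup. -/
theorem no_triangle : ∀ a ∈ eList, ∀ b ∈ eList, fixCount a = 4 → fixCount b = 4 → fixCount (a * b) = 4 →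
    ∀ c ∈ eList, fixCount c = 4 → fixCount (a * c) = 4 → c = a ∨ c = b ∨ c = a * b := by
  decide +kernel

theorem e_four : ∀ a ∈ eList, ∀ b ∈ eList, fixCount a = 4 → fixCount b = 4 → fixCount (a * b) = 4 →
    (∀ x ∈ [a, b], x = tA ∨ x = vA ∨ x = tA * vA) ∨
      ∀ x ∈ [a, b], x = swapA * tA * swapA⁻¹ ∨ x = swapA * vA * swapA⁻¹ ∨ x = swapA * (tA * vA) * swapA⁻¹ := by
  decide +kernel

theorem cy_facts : cyList.Nodup ∧ cyList.length = 18 ∧ (∀ x ∈ cyList, x * yA = yA * x) ∧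
    ∀ x ∈ cyList, x * jA = jA * x → x = 1 ∨ x = yA ∨ x = yA * yA ∨ x = jA ∨ x = jA * yA ∨ x = jA * (yA * yA) := by
  decide +kernel

theorem y_facts : yA * yA * yA = 1 ∧ yA ≠ 1 ∧ yA * jA = jA * yA ∧
    rhoA * (xA none * ιA cA) * rhoA⁻¹ = yA ∧ vA * (yA * vA * yA⁻¹) ∈ [yA, yA * yA] ∧
    vA * jA = jA * vA ∧ vA * tA = tA * vA ∧ (yA * vA * yA⁻¹) * tA * (yA * vA * yA⁻¹) ∈ aList := by
  decide +kernel

theorem shift_facts : cShift * ιA vOne * cShift⁻¹ = tA ∧ cShift * ιA vTwo * cShift⁻¹ = vA ∧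
    jSwap * xA none * jSwap⁻¹ = ιA cA := by decide +kernel

theorem e_commute : ∀ a ∈ eList, a * tA = tA * a ∧ a * vA = vA * a := by decide +kernel

theorem swap_mem : swapA ∈ sList ∧ swapA * swapA = 1 := by decide +kernel

theorem y_not_norm : ∃ s ∈ sList, yA * s * yA⁻¹ ∉ sList := by decide +kernel

theorem u_facts : (tA * jA) * (tA * jA) = 1 ∧ tA * jA ≠ 1 ∧ tA * jA ∈ sList ∧
    fixCount (tA * jA * vA) = 0 ∧ (tA * jA * vA) * (tA * jA * vA) = 1 ∧ tA * jA * vA ∈ sList ∧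
    tA * jA * tA = jA ∧ vA * vA = 1 ∧ tA * tA = 1 ∧ jA * jA = 1 := by decide +kernel

end CfsgLib.AltEightThree
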