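import Mathlib
import Cfsg.Agent.Lib.Invol.Dihedral

/-!
# The three-local data of the alternating group of degree eight

An element `z` of order three whose normalizer is `(S₃ × S₅)⁺`, parametrized by `Perm (Fin 5)`,
an element `a` of that `A₅` conjugate to `z` under an involution `g`.
-/

set_option autoImplicit false

open Equiv

namespace CfsgLib.AltEightThree

/-- The odd permutations invert `z`. -/
def sgnS (π : Perm (Fin 5)) : Perm (Fin 3) := if Perm.sign π = 1 then 1 else swap 0 1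

theorem sgnS_mul (π ρ : Perm (Fin 5)) : sgnS (π * ρ) = sgnS π * sgnS ρ := by
  simp only [sgnS, Perm.sign_mul]
  rcases Int.units_eq_one_or (Perm.sign π) with h | h <;>
    rcases Int.units_eq_one_or (Perm.sign ρ) with h' | h' <;> simp [h, h']

theorem sign_sgnS (π : Perm (Fin 5)) : Perm.sign (sgnS π) * Perm.sign π = 1 := by
  simp only [sgnS]
  rcases Int.units_eq_one_or (Perm.sign π) with h | h <;> simp [h]

/-- The three-cycle used for `a`. -/
def cA : Perm (Fin 5) := swap 0 1 * swap 1 2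

/-- The local data. -/
structure Setup (G : Type*) [Group G] [Finite G] where
  z : G
  a : G
  g : G
  Ω : Perm (Fin 5) →* G
  hz : z ^ 3 = 1
  conj_z : ∀ π, Ω π * z * (Ω π)⁻¹ = if Perm.sign π = 1 then z else z⁻¹
  uniq : ∀ (i : Fin 3) (π : Perm (Fin 5)), z ^ (i : ℕ) * Ω π = 1 → i = 0 ∧ π = 1
  norm : ∀ x : G, x * z * x⁻¹ = z ∨ x * z * x⁻¹ = z⁻¹ →
    ∃ (i : Fin 3) (π : Perm (Fin 5)), x = z ^ (i : ℕ) * Ω π
  ha : a = Ω cA
  gg : g * g = 1
  gz : g * z * g = a
  cent_za : ∀ x : G, Commute (z * a) x →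
    (∃ i j : Fin 3, x = z ^ (i : ℕ) * a ^ (j : ℕ)) ∨ ∃ i j : Fin 3, x = z ^ (i : ℕ) * a ^ (j : ℕ) * g
  three : ∀ P : Subgroup G, IsPGroup 3 P → Nat.card P ≤ 9

end CfsgLib.AltEightThree
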