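import Cfsg.Agent.Lib.AltEightThree.Global
import Cfsg.Agent.Lib.SelfCentThree.Simple
import Cfsg.Agent.Lib.ZStar.Basic
import Cfsg.Agent.Lib.Hall.Carter

/-!
# The centralizer of a central involution
-/

set_option autoImplicit false
set_option linter.unusedSectionVars false
set_option maxHeartbeats 1000000

open Equiv

namespace CfsgLib.AltEightThree

attribute [local instance 2000] List.decidableBAll List.decidableBEx

theorem s_commute_j : ∀ s ∈ sList, s * jA = jA * s := by
  have : ∀ e ∈ eList, ∀ h ∈ hList, e * h * jA = jA * (e * h) := by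
    intro e he h hh
    have h1 : (∀ e ∈ eList, e * jA = jA * e) ∧ ∀ h ∈ hList, h * jA = jA * h := by
      constructor <;> decide +kernel
    rw [mul_assoc, h1.2 h hh, ← mul_assoc, h1.1 e he, mul_assoc]
  intro s hs
  obtain ⟨e, he, h, hh, rfl⟩ := mem_sList.mp hs
  exact this e he h hh

theorem t_mem_a : tA ∈ aList ∧ tA ∈ sList ∧ jA ∈ aList := by decide +kernel

/-- An odd part of a group whose order is twice an odd number. -/
theorem exists_odd_part {H : Type*} [Group H] [Finite H] {m : ℕ} (hH : Nat.card H = 2 * m) (hm : Odd m) :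
    ∃ W : Subgroup H, W.index = 2 ∧ ∀ x, x ∈ W ↔ Odd (orderOf x) := by
  haveI := Fact.mk Nat.prime_two
  obtain ⟨P⟩ : Nonempty (Sylow 2 H) := inferInstance
  obtain ⟨n, hn⟩ := IsPGroup.iff_card.mp P.2
  have hP : Nat.card (P : Subgroup H) = 2 := by
    have h2 := P.dvd_card_of_dvd_card (hH ▸ dvd_mul_right 2 m)
    have h1 : 2 ^ n ∣ 2 * m := hH ▸ hn ▸ (P : Subgroup H).card_subgroup_dvd_card
    rw [hn] at h2 ⊢
    rcases n with _ | _ | n
    · norm_num at h2
    · rfl
    · exfalso
      have : 4 ∣ 2 * m := (Dvd.intro_left (2 ^ n) (by ring)).trans h1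
      obtain ⟨r, rfl⟩ := hm
      omega
  haveI := isCyclic_of_prime_card hP
  obtain ⟨R, N, hNn, hNc⟩ := ZStar.hasNormalPComplement_of_cyclic P this
  have hR : Nat.card (R : Subgroup H) = 2 :=
    ((Sylow.card_eq_multiplicity R).trans (Sylow.card_eq_multiplicity P).symm).trans hP
  have hidx : N.index = 2 := by rw [hNc.symm.index_eq_card, hR]
  have hN : Odd (Nat.card N) := by
    have h := N.card_mul_index
    rw [hidx, hH] at h
    rwa [show Nat.card N = m by omega]
  refine ⟨N, hidx, fun x => ⟨fun hx => hN.of_dvd_nat (Subgroup.orderOf_dvd_natCard N hx), fun hx => ?_⟩⟩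
  obtain ⟨r, hr⟩ := hx
  have h := Subgroup.mul_self_mem_of_index_two hidx x
  have h2 : x = (x * x) ^ (r + 1) := by
    rw [← pow_two, ← pow_mul, show 2 * (r + 1) = orderOf x + 1 by omega, pow_succ, pow_orderOf_eq_one, one_mul]
  rw [h2]
  exact pow_mem h _

end CfsgLib.AltEightThree

namespace CfsgLib.AltEightThree.Setup

variable {G : Type*} [Group G] [Finite G] (S : Setup G)

/-- The centralizer of the element of order three. -/
theorem cent_y {x : G} (h : Commute x (S.Φ yA)) : ∃ c ∈ cyList, S.Φ c = x := by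
  set r := S.Φ rhoA with hr
  have hy : S.Φ yA = r * (S.z * S.a) * r⁻¹ := by
    rw [← y_facts.2.2.2.1, map_mul, map_mul, map_mul, map_inv, S.Φ_z, S.Φ_a]
  set C := Subgroup.centralizer ({S.Φ yA} : Set G) with hC
  have hin : ∀ c : cyList.toFinset, S.Φ c ∈ C := fun c => Subgroup.mem_centralizer_singleton_iff.mpr (by
    rw [← map_mul, ← map_mul, cy_facts.2.2.1 c (List.mem_toFinset.mp c.2)])
  let F : cyList.toFinset → C := fun c => ⟨S.Φ c, hin c⟩
  have hF : Function.Injective F := fun a b e => Subtype.ext (S.Φ_inj (congrArg Subtype.val e))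
  classical
  let K : Fin 3 × Fin 3 × Fin 2 → C := fun p => if h : r * (S.z ^ (p.1 : ℕ) * S.a ^ (p.2.1 : ℕ) *
    S.g ^ (p.2.2 : ℕ)) * r⁻¹ ∈ C then ⟨_, h⟩ else 1
  have hK : Function.Surjective K := by
    rintro ⟨w, hw⟩
    have hc : Commute (S.z * S.a) (r⁻¹ * w * r) := by
      have hw' : Commute w (S.Φ yA) := Subgroup.mem_centralizer_singleton_iff.mp hw
      have := hw'.symm.map (MulAut.conj r⁻¹).toMonoidHom
      rw [hy] at this
      simpa [mul_assoc] using this
    rcases S.cent_za _ hc with ⟨i, j, e⟩ | ⟨i, j, e⟩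
    · have e' : r * (S.z ^ (i : ℕ) * S.a ^ (j : ℕ) * S.g ^ ((0 : Fin 2) : ℕ)) * r⁻¹ = w := by
        rw [Fin.val_zero, pow_zero, mul_one, ← e]; group
      refine ⟨(i, j, 0), Subtype.ext ?_⟩
      simp only [K]
      rw [dif_pos (e'.symm ▸ hw)]
      exact e'
    · have e' : r * (S.z ^ (i : ℕ) * S.a ^ (j : ℕ) * S.g ^ ((1 : Fin 2) : ℕ)) * r⁻¹ = w := by
        rw [Fin.val_one, pow_one, ← e]; group
      refine ⟨(i, j, 1), Subtype.ext ?_⟩
      simp only [K]
      rw [dif_pos (e'.symm ▸ hw)]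
      exact e'
  have hle := Nat.card_le_card_of_surjective K hK
  simp only [Nat.card_prod, Nat.card_fin] at hle
  have h18 : Nat.card cyList.toFinset = 18 := by
    rw [Nat.card_eq_fintype_card, Fintype.card_coe, List.toFinset_card_of_nodup cy_facts.1, cy_facts.2.1]
  have hbij : Function.Bijective F := (Nat.bijective_iff_injective_and_card F).mpr
    ⟨hF, le_antisymm (Nat.card_le_card_of_injective F hF) (by omega)⟩
  obtain ⟨⟨c, hc⟩, e⟩ := hbij.2 ⟨x, Subgroup.mem_centralizer_singleton_iff.mpr h.eq⟩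
  exact ⟨c, List.mem_toFinset.mp hc, congrArg Subtype.val e⟩

/-- The structure of the centralizer of `(01)(23)(45)(67)`: a part `R` of order 32 and an odd part. -/
theorem exists_odd_normal :
    ∃ O : Subgroup G, Odd (Nat.card O) ∧ (∀ x ∈ O, Commute x (S.Φ jA)) ∧
      (∀ a ∈ aList, ∀ x ∈ O, Commute x (S.Φ a)) ∧
      (∀ x ∈ O, S.Φ yA * x * (S.Φ yA)⁻¹ ∈ O) ∧
      (∀ x ∈ O, ∀ c, Commute c (S.Φ jA) → c * x * c⁻¹ ∈ O) ∧
      (∀ x ∈ O, Commute x (S.Φ yA) → x = 1) ∧ ¬ 3 ∣ Nat.card O ∧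
      ((∀ x ∈ O, x = 1) → ∀ x, Commute x (S.Φ jA) → x ∈ S.G0) := by
  haveI := Fact.mk Nat.prime_two
  haveI h3 := Fact.mk Nat.prime_three
  set Y := Subgroup.centralizer ({S.Φ jA} : Set G) with hY
  have memY : ∀ {c : A8}, c * jA = jA * c → S.Φ c ∈ Y := fun {c} h =>
    Subgroup.mem_centralizer_singleton_iff.mpr (by rw [← map_mul, ← map_mul, h])
  set j : Y := ⟨S.Φ jA, memY rfl⟩ with hj
  set y : Y := ⟨S.Φ yA, memY y_facts.2.2.1⟩ with hy
  have hj1 : S.Φ jA ≠ 1 := fun e => absurd (S.Φ_inj (e.trans (map_one _).symm)) (by decide +kernel)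
  have hjj : j * j = 1 := Subtype.ext (by
    show S.Φ jA * S.Φ jA = 1
    rw [← map_mul, u_facts.2.2.2.2.2.2.2.2.2, map_one])
  have hjo : orderOf j = 2 := orderOf_eq_prime (by rw [pow_two, hjj]) fun e => hj1 (congrArg Subtype.val e)
  set J := Subgroup.zpowers j with hJ
  have hjc : ∀ x : Y, Commute x j := fun x => Subtype.ext (Subgroup.mem_centralizer_singleton_iff.mp x.2)
  haveI : J.Normal := ⟨fun n hn k => by
    obtain ⟨l, rfl⟩ := Subgroup.mem_zpowers_iff.mp hn
    rw [((hjc k).zpow_right l).eq, mul_inv_cancel_right]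
    exact Subgroup.zpow_mem_zpowers j l⟩
  have hJmem : ∀ {x}, x ∈ J → x = 1 ∨ x = j := by
    intro x hx
    obtain ⟨l, rfl⟩ := Subgroup.mem_zpowers_iff.mp hx
    rcases Int.even_or_odd l with ⟨k, rfl⟩ | ⟨k, rfl⟩
    · left; rw [← two_mul, zpow_mul, zpow_two, hjj, one_zpow]
    · right; rw [zpow_add, zpow_one, zpow_mul, zpow_two, hjj, one_zpow, one_mul]
  set π := QuotientGroup.mk' J with hπ
  have hy3 : y ^ 3 = 1 := Subtype.ext (by
    show S.Φ yA ^ 3 = 1
    rw [← map_pow, pow_succ, pow_two, y_facts.1, map_one])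
  have hyo : orderOf y = 3 := orderOf_eq_prime hy3 fun e =>
    y_facts.2.1 (S.Φ_inj ((congrArg Subtype.val e).trans (map_one _).symm))
  have hpy : π y ≠ 1 := fun e => by
    rcases hJmem ((QuotientGroup.eq_one_iff _).mp e) with e | e
    · rw [e, orderOf_one] at hyo; omega
    · rw [e, hjo] at hyo; omega
  have hSC : SCThree.SC (π y) := by
    have ho : orderOf (π y) = 3 := orderOf_eq_prime (by rw [← map_pow, hy3, map_one]) hpy
    refine ⟨Nat.prime_three, ho, le_antisymm (fun q hq => ?_)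
      (Subgroup.zpowers_le.mpr (Subgroup.mem_centralizer_singleton_iff.mpr rfl))⟩
    obtain ⟨x, rfl⟩ := QuotientGroup.mk'_surjective J q
    have hd : y⁻¹ * (x * y * x⁻¹) ∈ J := by
      rw [← QuotientGroup.eq_one_iff]
      show π (y⁻¹ * (x * y * x⁻¹)) = 1
      rw [map_mul, map_mul, map_mul, map_inv, map_inv, (Subgroup.mem_centralizer_singleton_iff.mp hq :
        π x * π y = π y * π x), mul_inv_cancel_right, inv_mul_cancel]
    have hxy : Commute x y := by
      rcases hJmem hd with e | e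
      · exact mul_inv_eq_iff_eq_mul.mp (inv_mul_eq_one.mp e).symm
      · exfalso
        have e' : x * y * x⁻¹ = y * j := (inv_mul_eq_iff_eq_mul.mp e)
        have h6 : (y * j) ^ 3 = 1 := by rw [← e', conj_pow, hy3, mul_one, mul_inv_cancel]
        rw [(hjc y).mul_pow, hy3, one_mul, pow_succ, pow_two, hjj, one_mul] at h6
        exact hj1 (congrArg Subtype.val h6)
    obtain ⟨c, hc, ec⟩ := S.cent_y (congrArg Subtype.val hxy.eq : Commute (x : G) (S.Φ yA))
    have hcj : c * jA = jA * c := S.Φ_inj (by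
      rw [map_mul, map_mul, ec]; exact Subgroup.mem_centralizer_singleton_iff.mp x.2)
    have hcases := cy_facts.2.2.2 c hc hcj
    have hmk : ∀ (d : A8), c = d → ∀ w : Y, (w : G) = S.Φ d → x = w := fun d e w hw =>
      Subtype.ext (by rw [← ec, e, hw])
    have hjz : π j = 1 := (QuotientGroup.eq_one_iff _).mpr (Subgroup.mem_zpowers j)
    rcases hcases with e | e | e | e | e | e
    · rw [hmk _ e 1 (map_one _).symm, map_one]; exact one_mem _
    · rw [hmk _ e y rfl]; exact Subgroup.mem_zpowers _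
    · rw [hmk _ e (y * y) (map_mul _ _ _).symm, map_mul]; exact mul_mem (Subgroup.mem_zpowers _) (Subgroup.mem_zpowers _)
    · rw [hmk _ e j rfl, hjz]; exact one_mem _
    · rw [hmk _ e (j * y) (map_mul _ _ _).symm, map_mul, hjz, one_mul]; exact Subgroup.mem_zpowers _
    · rw [hmk _ e (j * (y * y)) (by rw [map_mul, map_mul]; rfl), map_mul, map_mul, hjz, one_mul]
      exact mul_mem (Subgroup.mem_zpowers _) (Subgroup.mem_zpowers _)
  -- the Sylow two-subgroup
  obtain ⟨P, hP⟩ := S.exists_sylow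
  have hPY : (P : Subgroup G) ≤ Y := by
    rw [hP]; rintro _ ⟨s, hs, rfl⟩; exact memY (s_commute_j s hs)
  set PY : Sylow 2 Y := P.subtype hPY with hPY'
  have hPcard : Nat.card (PY : Subgroup Y) = 64 := by
    rw [hPY', Sylow.coe_subtype, Nat.card_congr (Subgroup.subgroupOfEquivOfLe hPY).toEquiv, hP,
      Subgroup.card_map_of_injective S.Φ_inj, card_sA]
  obtain ⟨m, hm, hYcard⟩ : ∃ m, Odd m ∧ Nat.card Y = 64 * m := by
    refine ⟨(PY : Subgroup Y).index, Nat.not_even_iff_odd.mp fun e =>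
      PY.not_dvd_index (even_iff_two_dvd.mp e), ?_⟩
    rw [← hPcard, Subgroup.card_mul_index]
  have hQcard : Nat.card (Y ⧸ J) = 32 * m := by
    have := J.card_mul_index
    rw [hJ, Nat.card_zpowers, hjo, hYcard, Subgroup.index_eq_card] at this
    rw [hJ]; omega
  rcases SCThree.shape_of_selfCent hSC with h36 | ⟨h60, -, hcomm, hsq⟩ | ⟨-, h168, -⟩
  rotate_left
  · exfalso
    set C := SCThree.core3 (Y ⧸ J)
    have hc2 : IsPGroup 2 C := fun c => ⟨1, Subtype.ext (by
      rw [pow_one, pow_two]; exact hsq c c.2)⟩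
    obtain ⟨k, hk⟩ := IsPGroup.iff_card.mp hc2
    have hc := C.card_mul_index
    rw [hk, h60, hQcard] at hc
    have hmod : Nat.card C % 3 = 1 :=
      SCThree.Inv.card_mod hSC ⟨Subgroup.normalizer_eq_top C ▸ Subgroup.mem_top _, SCThree.not_three_dvd_core3⟩
    rw [hk] at hmod
    obtain ⟨r, rfl⟩ := hm
    rcases Nat.lt_trichotomy k 3 with hk3 | rfl | hk3
    · have : k = 0 ∨ k = 1 ∨ k = 2 := by omega
      rcases this with rfl | rfl | rfl <;> omega
    · norm_num at hmod
    · have h16 : 2 ^ k = 16 * 2 ^ (k - 4) := by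
        rw [show 16 = 2 ^ 4 by rfl, ← pow_add, Nat.add_sub_cancel' hk3]
      rw [h16] at hc
      omega
  · exfalso; rw [hQcard] at h168; omega
  set C := SCThree.core3 (Y ⧸ J) with hC
  set K := C.comap π with hK
  have hKcard : Nat.card K = 2 * Nat.card C := by
    have := K.card_mul_index
    rw [hK, Subgroup.index_comap_of_surjective _ (QuotientGroup.mk'_surjective J), hYcard] at this
    have h2 := C.card_mul_index
    rw [hQcard] at h2
    have hpos : 0 < C.index := Nat.pos_of_ne_zero Subgroup.index_ne_zero_of_finite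
    refine Nat.eq_of_mul_eq_mul_right hpos ?_
    rw [this, mul_assoc, h2]; ring
  have hyC : π y ∈ Subgroup.normalizer (C : Set (Y ⧸ J)) := Subgroup.normalizer_eq_top C ▸ Subgroup.mem_top _
  have hinv : SCThree.Inv (π y) C := ⟨hyC, SCThree.not_three_dvd_core3⟩
  haveI hCnil : Group.IsNilpotent C := hinv.isNilpotent hSC
  have hKy : ∀ {x : Y}, x ∈ K ↔ π x ∈ C := fun {x} => Subgroup.mem_comap
  -- `K` is nilpotent
  haveI hKnil : Group.IsNilpotent K := by
    let f : K →* C := (π.comp K.subtype).codRestrict C (fun k => k.2)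
    refine Subgroup.isNilpotent_of_ker_le_center f (fun k hk => ?_)
    rw [Subgroup.mem_center_iff]
    intro l
    have hkJ : (k : Y) ∈ J := (QuotientGroup.eq_one_iff _).mp (congrArg Subtype.val (MonoidHom.mem_ker.mp hk))
    obtain ⟨i, hi⟩ := Subgroup.mem_zpowers_iff.mp hkJ
    refine Subtype.ext ?_
    show (l : Y) * k = k * l
    rw [← hi]
    exact ((hjc l).zpow_right i).eq
  obtain ⟨R0⟩ : Nonempty (Sylow 2 K) := inferInstance
  haveI hR0n : (R0 : Subgroup K).Normal := inferInstance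
  haveI : (R0 : Subgroup K).Characteristic := Sylow.characteristic_of_normal R0 hR0n
  haveI : ((R0 : Subgroup K).map K.subtype).Normal := inferInstance
  set R := (R0 : Subgroup K).map K.subtype with hR
  have hR2 : IsPGroup 2 R := R0.2.map _
  have hRle : R ≤ (PY : Subgroup Y) := by
    obtain ⟨Q, hQ⟩ := hR2.exists_le_sylow
    obtain ⟨k, hk⟩ := MulAction.exists_smul_eq Y Q PY
    intro r hr
    rw [← hk, Sylow.coe_subgroup_smul]
    exact ⟨k⁻¹ * r * k⁻¹⁻¹, hQ (Subgroup.Normal.conj_mem inferInstance r hr k⁻¹), by simp [mul_assoc]⟩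
  -- index six
  have hidx : C.index = 6 := by
    refine h36.resolve_left fun h3i => ?_
    have hKi : K.index = 3 := by rw [hK, Subgroup.index_comap_of_surjective _ (QuotientGroup.mk'_surjective J), h3i]
    obtain ⟨s, hs, hns⟩ := y_not_norm
    have hPK : (PY : Subgroup Y) ≤ R := by
      have h64 : 64 ∣ Nat.card R := by
        have h1 := K.card_mul_index
        rw [hKi, hYcard] at h1
        rw [hR, Subgroup.card_map_of_injective K.subtype_injective,
          show 64 = 2 ^ 6 from rfl]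
        exact R0.pow_dvd_card_of_pow_dvd_card (Nat.Coprime.dvd_of_dvd_mul_right (by norm_num) ⟨m, h1⟩)
      exact (Subgroup.eq_of_le_of_card_ge hRle (by rw [hPcard]; exact Nat.le_of_dvd Nat.card_pos h64)).symm.le
    set sY : Y := ⟨S.Φ s, memY (s_commute_j s hs)⟩ with hsY'
    have hsP : sY ∈ (PY : Subgroup Y) := by
      rw [hPY', Sylow.coe_subtype, Subgroup.mem_subgroupOf, hP]; exact ⟨s, hs, rfl⟩
    have h1 : y * sY * y⁻¹ ∈ (PY : Subgroup Y) := hRle (Subgroup.Normal.conj_mem inferInstance _ (hPK hsP) y)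
    rw [hPY', Sylow.coe_subtype, Subgroup.mem_subgroupOf, hP] at h1
    obtain ⟨s', hs', e⟩ := h1
    refine hns ?_
    have : yA * s * yA⁻¹ = s' := S.Φ_inj (by
      rw [e, map_mul, map_mul, map_inv]; rfl)
    exact this ▸ hs'
  have hKidx : K.index = 6 := by
    rw [hK, Subgroup.index_comap_of_surjective _ (QuotientGroup.mk'_surjective J), hidx]
  have hKn : Nat.card K * 6 = 64 * m := by rw [← hKidx, K.card_mul_index, hYcard]
  -- the images of `A` lie in `K`
  have haK : ∀ a, (ha : a ∈ aList) → (⟨S.Φ a, memY (s_commute_j a (a_le_s a ha))⟩ : Y) ∈ K := by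
    intro a ha
    set aY : Y := ⟨S.Φ a, memY (s_commute_j a (a_le_s a ha))⟩ with haY
    set b : Y := ⟨S.Φ (yA * a * yA⁻¹), memY (s_commute_j _ (a_le_s _ (a_conj a ha)))⟩ with hb
    have hab : b = y * aY * y⁻¹ := Subtype.ext (by
      show S.Φ (yA * a * yA⁻¹) = S.Φ yA * S.Φ a * (S.Φ yA)⁻¹
      rw [map_mul, map_mul, map_inv])
    by_contra haK
    set Q := (Y ⧸ J) ⧸ C
    have hQ6 : Nat.card Q = 6 := by rw [← Subgroup.index_eq_card, hidx]
    set ρ : Y →* Q := (QuotientGroup.mk' C).comp π with hρ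
    have hρK : ∀ x, ρ x = 1 ↔ x ∈ K := fun x => (QuotientGroup.eq_one_iff _).trans hKy.symm
    have ha2 : ρ aY * ρ aY = 1 := by
      rw [← map_mul, show aY * aY = 1 from Subtype.ext (by
        show S.Φ a * S.Φ a = 1; rw [← map_mul, (a_mul a ha a ha).2.2, map_one]), map_one]
    have hcom : Commute (ρ aY) (ρ b) := by
      refine (Commute.map (Subtype.ext ?_ : Commute aY b) ρ)
      show S.Φ a * S.Φ (yA * a * yA⁻¹) = S.Φ (yA * a * yA⁻¹) * S.Φ a
      rw [← map_mul, ← map_mul, (a_mul a ha _ (a_conj a ha)).2.1]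
    have hb2 : ρ b * ρ b = 1 := by
      rw [hab, map_mul, map_mul, map_inv, show ρ y * ρ aY * (ρ y)⁻¹ * (ρ y * ρ aY * (ρ y)⁻¹) =
        ρ y * (ρ aY * ρ aY) * (ρ y)⁻¹ by group, ha2, mul_one, mul_inv_cancel]
    have hbne : ρ b = ρ aY := by
      by_contra hne
      -- a Klein four group in a group of order six
      set F := Subgroup.closure ({ρ aY, ρ b} : Set Q)
      have hF2 : IsPGroup 2 F := by
        rintro ⟨q, hq⟩
        suffices q * q = 1 ∧ Commute q (ρ aY) ∧ Commute q (ρ b) from ⟨1, Subtype.ext (by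
          rw [SubgroupClass.coe_pow, pow_one, pow_two]; exact this.1)⟩
        have hall : ∀ q ∈ F, ∃ i k : ℕ, q = ρ aY ^ i * ρ b ^ k := by
          intro q hq
          induction hq using Subgroup.closure_induction with
          | mem u hu =>
            rcases hu with rfl | rfl
            · exact ⟨1, 0, by simp⟩
            · exact ⟨0, 1, by simp⟩
          | one => exact ⟨0, 0, by simp⟩
          | mul u v _ _ hu hv =>
            obtain ⟨i, k, rfl⟩ := hu; obtain ⟨i', k', rfl⟩ := hv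
            exact ⟨i + i', k + k', by rw [(hcom.pow_pow i' k).symm.mul_mul_mul_comm, ← pow_add, ← pow_add]⟩
          | inv u _ hu =>
            obtain ⟨i, k, rfl⟩ := hu
            refine ⟨i, k, inv_eq_of_mul_eq_one_right ?_⟩
            rw [(hcom.pow_pow i k).symm.mul_mul_mul_comm, ← (Commute.refl (ρ aY)).mul_pow,
              ← (Commute.refl (ρ b)).mul_pow, ha2, hb2, one_pow, one_pow, one_mul]
        obtain ⟨i, k, rfl⟩ := hall q hq
        refine ⟨?_, ((Commute.refl _).pow_left i).mul_left (hcom.symm.pow_left k),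
          (hcom.pow_left i).mul_left ((Commute.refl _).pow_left k)⟩
        rw [(hcom.pow_pow i k).symm.mul_mul_mul_comm, ← (Commute.refl (ρ aY)).mul_pow,
          ← (Commute.refl (ρ b)).mul_pow, ha2, hb2, one_pow, one_pow, one_mul]
      obtain ⟨n, hn⟩ := IsPGroup.iff_card.mp hF2
      have hd : 2 ^ n ∣ 6 := hn ▸ hQ6 ▸ F.card_subgroup_dvd_card
      have hn1 : n ≤ 1 := by
        by_contra h
        exact absurd ((pow_dvd_pow 2 (by omega : 2 ≤ n)).trans hd) (by norm_num)
      have hge : 3 ≤ Nat.card F := by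
        have h1 : (⟨ρ aY, Subgroup.subset_closure (by simp)⟩ : F) ≠ 1 := fun e =>
          haK ((hρK _).mp (congrArg Subtype.val e))
        have h2 : (⟨ρ b, Subgroup.subset_closure (by simp)⟩ : F) ≠ 1 := fun e => by
          have e' : ρ b = 1 := congrArg Subtype.val e
          rw [hab, map_mul, map_mul, map_inv, conj_eq_one_iff] at e'
          exact haK ((hρK _).mp e')
        have h3 : (⟨ρ b, Subgroup.subset_closure (by simp)⟩ : F) ≠
            ⟨ρ aY, Subgroup.subset_closure (by simp)⟩ := fun e => hne (congrArg Subtype.val e)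
        classical
        haveI := Fintype.ofFinite F
        rw [Nat.card_eq_fintype_card]
        exact Fintype.two_lt_card_iff.mpr ⟨_, _, 1, h3.symm, h1, h2⟩
      have : Nat.card F ≤ 2 := hn ▸ (Nat.pow_le_pow_right (by norm_num) hn1).trans_eq (pow_one 2)
      omega
    -- so `y` would commute with `a` modulo `K`
    have hyK : ρ y ≠ 1 := fun e => by
      have hyK : y ∈ K := (hρK _).mp e
      have : 3 ∣ Nat.card C := by
        have h := Subgroup.orderOf_dvd_natCard C (hKy.mp hyK)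
        rwa [hSC.2.1] at h
      exact SCThree.not_three_dvd_core3 this
    have hcy : Commute (ρ y) (ρ aY) := by
      rw [hab, map_mul, map_mul, map_inv] at hbne
      exact mul_inv_eq_iff_eq_mul.mp hbne
    -- an element of order six in `Q`, a group with a self-centralizing image
    have hQSC : SCThree.SC (QuotientGroup.mk' C (π y)) := hSC.quotient C SCThree.not_three_dvd_core3
    have : ρ aY ∈ Subgroup.zpowers (ρ y) := by
      show _ ∈ Subgroup.zpowers (QuotientGroup.mk' C (π y))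
      rw [← hQSC.2.2]
      exact Subgroup.mem_centralizer_singleton_iff.mpr hcy.symm.eq
    have h3o : orderOf (ρ aY) ∣ 3 := hQSC.2.1 ▸ orderOf_dvd_of_mem_zpowers this
    have h2o : orderOf (ρ aY) ∣ 2 := orderOf_dvd_of_pow_eq_one (by rw [pow_two, ha2])
    exact haK ((hρK _).mp (orderOf_eq_one_iff.mp (Nat.eq_one_of_dvd_coprimes (by norm_num) h2o h3o)))
  -- the odd part
  have hK64 : K.index * Nat.card K = 64 * m := by rw [mul_comm, K.card_mul_index, hYcard]
  have hLex : ∃ L : Subgroup K, L.IsComplement' (R0 : Subgroup K) :=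
    Subgroup.exists_left_complement'_of_coprime R0.card_coprime_index
  obtain ⟨L, hL⟩ := hLex
  have hLodd : Odd (Nat.card L) := by
    rw [← Nat.not_even_iff_odd, ← hL.index_eq_card]
    exact fun e => R0.not_dvd_index (even_iff_two_dvd.mp e)
  have hLR : ∀ l ∈ L, ∀ r ∈ (R0 : Subgroup K), Commute r l := by
    intro l hl r hr
    obtain ⟨k, hk⟩ := IsPGroup.iff_orderOf.mp R0.2 ⟨r, hr⟩
    rw [Subgroup.orderOf_mk] at hk
    exact CfsgLib.Hall.commute_of_coprime_orderOf (dvd_of_eq hk)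
      (Nat.coprime_two_right.mpr (hLodd.of_dvd_nat (Subgroup.orderOf_dvd_natCard L hl)))
  haveI hLn : L.Normal := by
    refine ⟨fun l hl k => ?_⟩
    obtain ⟨⟨⟨l0, hl0⟩, ⟨r, hr⟩⟩, e⟩ := hL.2 k
    rw [← e]
    show l0 * r * l * (l0 * r)⁻¹ ∈ L
    rw [mul_inv_rev, show l0 * r * l * (r⁻¹ * l0⁻¹) = l0 * (r * l * r⁻¹) * l0⁻¹ by group,
      (hLR l hl r hr).eq, mul_inv_cancel_right]
    exact mul_mem (mul_mem hl0 hl) (inv_mem hl0)
  have hLmem : ∀ k : K, k ∈ L ↔ Odd (orderOf k) := fun k => by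
    refine ⟨fun hk => hLodd.of_dvd_nat (Subgroup.orderOf_dvd_natCard L hk), fun hk => ?_⟩
    rw [← QuotientGroup.eq_one_iff, ← orderOf_eq_one_iff]
    have h1 := orderOf_dvd_natCard ((k : K) : K ⧸ L)
    rw [← Subgroup.index_eq_card, hL.symm.index_eq_card] at h1
    obtain ⟨n, hn⟩ := IsPGroup.iff_card.mp R0.2
    rw [hn] at h1
    exact Nat.Coprime.eq_one_of_dvd
      ((Nat.coprime_two_right.mpr (hk.of_dvd_nat (orderOf_map_dvd (QuotientGroup.mk' L) k))).pow_right n) h1
  set O : Subgroup G := L.map (Y.subtype.comp K.subtype) with hO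
  have hOinj : Function.Injective (Y.subtype.comp K.subtype) :=
    Y.subtype_injective.comp K.subtype_injective
  have hOmem : ∀ {x : G}, x ∈ O → ∃ k : K, k ∈ L ∧ ((k : Y) : G) = x := fun {x} ⟨k, hk, e⟩ => ⟨k, hk, e⟩
  have hconj : ∀ x ∈ O, ∀ c, Commute c (S.Φ jA) → c * x * c⁻¹ ∈ O := by
    intro x hx c hc
    obtain ⟨k, hk, rfl⟩ := hOmem hx
    set cY : Y := ⟨c, Subgroup.mem_centralizer_singleton_iff.mpr hc.eq⟩
    have hKn : K.Normal := inferInstance
    refine ⟨⟨cY * k * cY⁻¹, hKn.conj_mem _ k.2 cY⟩, (hLmem _).mpr ?_, rfl⟩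
    rw [Subgroup.orderOf_mk, show cY * (k : Y) * cY⁻¹ = MulAut.conj cY (k : Y) from rfl,
      MulEquiv.orderOf_eq, Subgroup.orderOf_coe]
    exact (hLmem k).mp hk
  refine ⟨O, ?_, ?_, ?_, ?_, hconj, ?_, ?_, ?_⟩
  · rw [hO, Subgroup.card_map_of_injective hOinj]; exact hLodd
  · intro x hx
    obtain ⟨k, -, rfl⟩ := hOmem hx
    exact Subgroup.mem_centralizer_singleton_iff.mp (k : Y).2
  · intro a ha x hx
    obtain ⟨k, hk, rfl⟩ := hOmem hx
    set aK : K := ⟨_, haK a ha⟩
    have ha2 : orderOf aK ∣ 2 ^ 1 := orderOf_dvd_of_pow_eq_one (Subtype.ext (Subtype.ext (by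
      show S.Φ a ^ 2 ^ 1 = 1
      rw [pow_one, ← map_pow, pow_two, (a_mul a ha a ha).2.2, map_one])))
    have := CfsgLib.Hall.commute_of_coprime_orderOf ha2 (Nat.coprime_two_right.mpr ((hLmem k).mp hk))
    exact (congrArg (fun w : K => ((w : Y) : G)) this).symm
  · exact fun x hx => hconj x hx _ (by show _ = _; rw [← map_mul, ← map_mul, y_facts.2.2.1])
  · intro x hx hxy
    obtain ⟨k, hk, rfl⟩ := hOmem hx
    have hc : Commute (π (k : Y)) (π y) := (show Commute (k : Y) y from Subtype.ext hxy.eq).map π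
    have h1 : π (k : Y) = 1 := hinv.eq_one hSC k.2 hc.eq
    rcases hJmem ((QuotientGroup.eq_one_iff _).mp h1) with e | e
    · rw [e]; rfl
    · exfalso
      have := (hLmem k).mp hk
      rw [← Subgroup.orderOf_coe, e, hjo] at this
      exact absurd this (by decide)
  · intro hd
    rw [hO, Subgroup.card_map_of_injective hOinj] at hd
    have h2 : 3 ∣ 2 * Nat.card C := hKcard ▸ hd.trans L.card_subgroup_dvd_card
    rcases Nat.prime_three.dvd_mul.mp h2 with h | h
    · omega
    · exact SCThree.not_three_dvd_core3 h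
  · intro hO1 x hx
    have hLbot : ∀ l ∈ L, l = 1 := fun l hl => hOinj ((hO1 _ ⟨l, hl, rfl⟩).trans (map_one _).symm)
    have hL1 : Nat.card L = 1 := by rw [(Subgroup.eq_bot_iff_forall L).mpr hLbot, Subgroup.card_bot]
    obtain ⟨n, hn⟩ := IsPGroup.iff_card.mp R0.2
    have hKc : Nat.card K = 2 ^ n := by rw [← hn, ← hL.card_mul_card, hL1, one_mul]
    rw [hKidx, hKc] at hK64
    have hm3 : m = 3 := by
      have hd : m ∣ 3 := by
        have h : m ∣ 2 ^ (n + 1) * 3 := ⟨64, by rw [pow_succ]; linarith⟩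
        exact ((Nat.coprime_two_right.mpr hm).pow_right _).dvd_of_dvd_mul_left h
      rcases (Nat.dvd_prime Nat.prime_three).mp hd with rfl | rfl
      · have h' : 3 ∣ 64 * 1 := ⟨2 * 2 ^ n, by omega⟩
        omega
      · rfl
    subst hm3
    have h192 : Nat.card Y ≤ Nat.card (Y ⊓ S.G0 : Subgroup G) := by
      refine Nat.le_of_dvd Nat.card_pos ?_
      rw [hYcard]
      refine Nat.Coprime.mul_dvd_of_dvd_of_dvd (by norm_num) ?_ ?_
      · rw [← card_sA, ← Subgroup.card_map_of_injective S.Φ_inj, ← hP]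
        exact Subgroup.card_dvd_of_le (le_inf hPY (hP ▸ by rintro _ ⟨s, -, rfl⟩; exact S.Φ_mem s))
      · have h := Subgroup.orderOf_dvd_natCard (Y ⊓ S.G0) (Subgroup.mem_inf.mpr ⟨y.2, S.Φ_mem yA⟩)
        rwa [Subgroup.orderOf_coe, hyo] at h
    have := Subgroup.eq_of_le_of_card_ge (inf_le_left : Y ⊓ S.G0 ≤ Y) h192
    exact (this.symm.le.trans inf_le_right) (Subgroup.mem_centralizer_singleton_iff.mpr hx.eq)

end CfsgLib.AltEightThree.Setup
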