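import Cfsg.Agent.Lib.AltEightThree.CentJ
import Cfsg.Agent.Lib.ZStar.Main
import Cfsg.Agent.Lib.M12Recog.Local

/-!
# The centralizer of a noncentral involution
-/

set_option autoImplicit false
set_option linter.unusedSectionVars false
set_option maxHeartbeats 1000000
set_option maxRecDepth 20000
set_option synthInstance.maxSize 4000

open Equiv

namespace CfsgLib.AltEightThree

attribute [local instance 2000] List.decidableBAll List.decidableBEx

theorem v_data : vA ∈ sList ∧ vA ≠ 1 ∧ fixCount vA = 4 ∧ vA ≠ tA ∧ tA * vA ∈ sList ∧ tA * vA ≠ 1 ∧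
    fixCount (tA * vA) = 4 ∧ (tA * vA) * (tA * vA) = 1 ∧ tA ≠ 1 := by decide +kernel

theorem s_cent_t : (sList.filter fun s => decide (s * tA = tA * s)).toFinset.card = 32 ∧
    ¬ ∀ s ∈ sList, tA * s = s * tA := by decide +kernel

theorem w_data : w0A ∈ aList := by decide +kernel

/-- A triangle of the group `A`. -/
theorem a_triangle : ∃ b ∈ aList, ∃ c ∈ aList,
    (∀ d ∈ [tA, b, tA * b, c, tA * c], d ∈ aList ∧ fixCount d = 4 ∧ d ≠ 1) ∧
      c ≠ tA ∧ c ≠ b ∧ c ≠ tA * b := by decide +kernel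

theorem second_invol : ∀ r : A8, r = tA * jA → r * tA = tA * r ∧ tA * r = jA ∧ r * vA = tA * jA * vA ∧
    jA * vA = vA * jA ∧ (yA * vA * yA⁻¹) * jA = jA * (yA * vA * yA⁻¹) := by
  rintro r rfl
  decide +kernel

theorem v_pair : (yA * vA * yA⁻¹) ∈ sList ∨ (yA * vA * yA⁻¹) * (yA * vA * yA⁻¹) = 1 := by
  right; decide +kernel

/-- The alternating group's centralizer of `(01)(23)` has order prime to five and seven. -/
theorem t_cent_pow {c : A8} (h : c * tA = tA * c) : c ^ 576 = 1 := by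
  set p : Fin 8 → Prop := fun x => (tA : Perm (Fin 8)) x = x with hp
  have hc : ∀ x, p ((c : Perm (Fin 8)) x) ↔ p x := fun x => by
    have e : (c : Perm (Fin 8)) ((tA : Perm (Fin 8)) x) = (tA : Perm (Fin 8)) ((c : Perm (Fin 8)) x) := by
      rw [← Perm.mul_apply, ← Subgroup.coe_mul, h]; rfl
    constructor
    · intro hx; exact (c : Perm (Fin 8)).injective (by rw [e]; exact hx)
    · intro hx; show _ = _; rw [← e]; exact congrArg _ hx
  set c1 : Perm {x // p x} := (c : Perm (Fin 8)).subtypePerm hc with hc1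
  set c2 : Perm {x // ¬ p x} := (c : Perm (Fin 8)).subtypePerm (fun x => not_congr (hc x)) with hc2
  have hcard : Nat.card {x // p x} = 4 ∧ Nat.card {x // ¬ p x} = 4 := by
    constructor <;> rw [Nat.card_eq_fintype_card] <;> decide +kernel
  have h1 : c1 ^ 24 = 1 := by
    have := pow_card_eq_one' (x := c1)
    rwa [Nat.card_perm, hcard.1] at this
  have h2 : c2 ^ 24 = 1 := by
    have := pow_card_eq_one' (x := c2)
    rwa [Nat.card_perm, hcard.2] at this
  have h24 : c ^ 24 = 1 := by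
    refine Subtype.ext (Equiv.ext fun x => ?_)
    rw [SubgroupClass.coe_pow]
    by_cases hx : p x
    · have := congrArg (fun e : Perm {x // p x} => (e ⟨x, hx⟩ : Fin 8)) h1
      simpa [hc1, Perm.subtypePerm_pow] using this
    · have := congrArg (fun e : Perm {x // ¬ p x} => (e ⟨x, hx⟩ : Fin 8)) h2
      simpa [hc2, Perm.subtypePerm_pow] using this
  rw [show 576 = 24 * 24 from rfl, pow_mul, h24, one_pow]

end CfsgLib.AltEightThree

namespace CfsgLib.AltEightThree.Setup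

variable {G : Type*} [Group G] [Finite G] (S : Setup G)

theorem fix_eq {c d : A8} (hc : c ∈ sList) (h2 : c * c = 1) (h1 : c ≠ 1) (hd : d ∈ sList) (h2' : d * d = 1)
    (h1' : d ≠ 1) (h4 : fixCount c = 4) (h : IsConj (S.Φ c) (S.Φ d)) : fixCount d = 4 := by
  rcases s_involutions d hd h2' h1' with ⟨h0, -⟩ | ⟨h0, -⟩
  · exact h0
  · exact absurd h (S.t_ne_j h4 hc h2 h1 h0 hd h2' h1')

/-- The conjugates of `(02)(13)` in the centralizer of `(01)(23)`. -/
theorem conj_v {x : G} (hx : Commute x (S.Φ tA)) {w : A8} (hw : w ∈ sList) (hwt : w * tA = tA * w)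
    (e : x * S.Φ vA * x⁻¹ = S.Φ w) : w = vA ∨ w = tA * vA := by
  obtain ⟨hv, hv1, hv4, hvt, htv, htv1, htv4, htv2, ht1⟩ := v_data
  have hw2 : w * w = 1 := S.Φ_inj (by
    rw [map_mul, ← e, show x * S.Φ vA * x⁻¹ * (x * S.Φ vA * x⁻¹) = x * (S.Φ vA * S.Φ vA) * x⁻¹ by group,
      ← map_mul, u_facts.2.2.2.2.2.2.2.1, map_one, mul_one, mul_inv_cancel])
  have hw1 : w ≠ 1 := fun e1 => hv1 (S.Φ_inj (by
    rw [e1, map_one, conj_eq_one_iff] at e; rw [e, map_one]))
  have hxt : x * S.Φ tA * x⁻¹ = S.Φ tA := by rw [hx.eq, mul_inv_cancel_right]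
  have hwne : w ≠ tA := fun e1 => hvt (S.Φ_inj (mul_left_cancel (mul_right_cancel (e.trans (e1 ▸ hxt.symm)))))
  have etw : x * S.Φ (tA * vA) * x⁻¹ = S.Φ (tA * w) := by
    rw [map_mul, map_mul, ← e]
    conv_rhs => rw [← hxt]
    group
  have htw1 : tA * w ≠ 1 := fun e1 => hwne (mul_left_cancel (e1.trans u_facts.2.2.2.2.2.2.2.2.1.symm))
  have htw2 : tA * w * (tA * w) = 1 := by
    rw [show tA * w * (tA * w) = tA * (w * tA) * w by group, hwt, ← mul_assoc, u_facts.2.2.2.2.2.2.2.2.1,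
      one_mul, hw2]
  have f1 := S.fix_eq hv u_facts.2.2.2.2.2.2.2.1 hv1 hw hw2 hw1 hv4 (isConj_iff.mpr ⟨x, e⟩)
  have f2 := S.fix_eq htv htv2 htv1 (sList_mul _ t_mem_a.2.1 _ hw) htw2 htw1 htv4 (isConj_iff.mpr ⟨x, etw⟩)
  by_contra hne
  rw [not_or] at hne
  obtain ⟨c, -, hct, hcw⟩ := fusion w hw hwt hw2 hw1 hwne hne.1 hne.2 f1 f2
  set x' := S.Φ c * x with hx'
  have ht' : x' * S.Φ tA * x'⁻¹ = S.Φ tA := by
    rw [hx', show S.Φ c * x * S.Φ tA * (S.Φ c * x)⁻¹ = S.Φ c * (x * S.Φ tA * x⁻¹) * (S.Φ c)⁻¹ by group, hxt,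
      ← map_inv, ← map_mul, ← map_mul, hct, mul_inv_cancel_right]
  have hv' : x' * S.Φ vA * x'⁻¹ = S.Φ w0A := by
    rw [hx', show S.Φ c * x * S.Φ vA * (S.Φ c * x)⁻¹ = S.Φ c * (x * S.Φ vA * x⁻¹) * (S.Φ c)⁻¹ by group, e,
      ← map_inv, ← map_mul, ← map_mul, hcw]
  -- the group `A` is mapped into the elementary group
  have hmap : ∀ a ∈ aList, ∃ f ∈ eList, S.Φ f = x'⁻¹ * S.Φ a * x' := by
    intro a ha
    have key : ∀ u v : A8, x' * S.Φ u * x'⁻¹ = S.Φ v → a * v = v * a →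
        Commute (x'⁻¹ * S.Φ a * x') (S.Φ u) := by
      intro u v huv hav
      have := (show Commute (S.Φ a) (S.Φ v) by show _ = _; rw [← map_mul, ← map_mul, hav]).map
        (MulAut.conj x'⁻¹).toMonoidHom
      rw [← huv] at this
      simpa [mul_assoc] using this
    refine S.cent_V_two (key _ _ ht' (a_mul a ha _ t_mem_a.1).2.1) (key _ _ hv' (a_mul a ha _ w_data).2.1) ?_
    intro hd
    have h2 : (x'⁻¹ * S.Φ a * x') ^ 2 = 1 := by
      rw [pow_two, show x'⁻¹ * S.Φ a * x' * (x'⁻¹ * S.Φ a * x') = x'⁻¹ * (S.Φ a * S.Φ a) * x' by group,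
        ← map_mul, (a_mul a ha a ha).2.2, map_one, mul_one, inv_mul_cancel]
    exact absurd (hd.trans (orderOf_dvd_of_pow_eq_one h2)) (by decide)
  obtain ⟨b, hb, cc, hcc, hfour, n1, n2, n3⟩ := a_triangle
  choose F hF eF using hmap
  have hFmul : ∀ a a' (ha : a ∈ aList) (ha' : a' ∈ aList) (haa : a * a' ∈ aList),
      F (a * a') haa = F a ha * F a' ha' := fun a a' ha ha' haa => S.Φ_inj (by
    rw [map_mul, eF, eF, eF, map_mul]; group)
  have hF4 : ∀ a (ha : a ∈ aList), fixCount a = 4 → a ≠ 1 → fixCount (F a ha) = 4 := fun a ha h4 h1 =>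
    S.fix_eq (a_le_s a ha) (a_mul a ha a ha).2.2 h1 (e_le_s _ (hF a ha)) (eList_mul _ (hF a ha) _ (hF a ha)).2.2
      (fun e1 => h1 (S.Φ_inj (by
        have := eF a ha
        rw [e1, map_one] at this
        rw [map_one, show S.Φ a = x' * (x'⁻¹ * S.Φ a * x') * x'⁻¹ by group, ← this, mul_one, mul_inv_cancel]))) h4
      (isConj_iff.mpr ⟨x'⁻¹, by rw [eF, inv_inv]⟩)
  have hFinj : ∀ a a' (ha : a ∈ aList) (ha' : a' ∈ aList), F a ha = F a' ha' → a = a' := by
    intro a a' ha ha' e1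
    have := congrArg S.Φ e1
    rw [eF, eF] at this
    exact S.Φ_inj (mul_left_cancel (mul_right_cancel this))
  obtain ⟨t4, b4, tb4, c4, tc4⟩ : _ ∧ _ ∧ _ ∧ _ ∧ _ :=
    ⟨hfour tA (by simp), hfour b (by simp), hfour (tA * b) (by simp), hfour cc (by simp), hfour (tA * cc) (by simp)⟩
  have := no_triangle (F tA t4.1) (hF _ _) (F b b4.1) (hF _ _) (hF4 _ _ t4.2.1 t4.2.2) (hF4 _ _ b4.2.1 b4.2.2)
    (by rw [← hFmul _ _ t4.1 b4.1 tb4.1]; exact hF4 _ _ tb4.2.1 tb4.2.2)
    (F cc c4.1) (hF _ _) (hF4 _ _ c4.2.1 c4.2.2)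
    (by rw [← hFmul _ _ t4.1 c4.1 tc4.1]; exact hF4 _ _ tc4.2.1 tc4.2.2)
  rcases this with e1 | e1 | e1
  · exact n1 (hFinj _ _ _ _ e1)
  · exact n2 (hFinj _ _ _ _ e1)
  · rw [← hFmul _ _ t4.1 b4.1 tb4.1] at e1
    exact n3 (hFinj _ _ _ _ e1)

/-- A Sylow two-subgroup of the centralizer of `(01)(23)`. -/
theorem exists_sylow_t : ∃ P : Sylow 2 (Subgroup.centralizer ({S.Φ tA} : Set G)),
    ∀ p ∈ (P : Subgroup (Subgroup.centralizer ({S.Φ tA} : Set G))),
      ∃ w ∈ sList, w * tA = tA * w ∧ S.Φ w = (p : G) := by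
  haveI := Fact.mk Nat.prime_two
  set X := Subgroup.centralizer ({S.Φ tA} : Set G) with hX
  obtain ⟨PG, hPG⟩ := S.exists_sylow
  set P0 := ((sA ⊓ Subgroup.centralizer {tA}).map S.Φ).subgroupOf X with hP0
  have hP0le : (sA ⊓ Subgroup.centralizer {tA}).map S.Φ ≤ X := by
    rintro _ ⟨s, hs, rfl⟩
    refine Subgroup.mem_centralizer_singleton_iff.mpr ?_
    rw [← map_mul, ← map_mul, Subgroup.mem_centralizer_singleton_iff.mp hs.2]
  have hP0card : Nat.card P0 = 32 := by
    rw [hP0, Nat.card_congr (Subgroup.subgroupOfEquivOfLe hP0le).toEquiv, Subgroup.card_map_of_injective S.Φ_inj,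
      Nat.card_congr (Equiv.subtypeEquivRight (q := fun s => s ∈ (sList.filter fun s => decide (s * tA = tA * s)).toFinset)
        (fun s => by
          rw [List.mem_toFinset, List.mem_filter, decide_eq_true_iff, Subgroup.mem_inf, mem_sA,
            Subgroup.mem_centralizer_singleton_iff])),
      Nat.card_eq_fintype_card, Fintype.card_coe]
    exact s_cent_t.1
  have hp : IsPGroup 2 P0 := IsPGroup.of_card (n := 5) (by rw [hP0card]; rfl)
  obtain ⟨P, hP⟩ := hp.exists_le_sylow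
  refine ⟨P, fun p hp' => ?_⟩
  have hle : Nat.card (P : Subgroup X) ≤ 32 := by
    by_contra hgt
    set T := (P : Subgroup X).map X.subtype with hT
    have hT2 : IsPGroup 2 T := P.2.map _
    obtain ⟨n, hn⟩ := IsPGroup.iff_card.mp hT2
    obtain ⟨Q, hQ⟩ := hT2.exists_le_sylow
    have hQc : Nat.card (Q : Subgroup G) = 64 := by
      rw [Sylow.card_eq_multiplicity Q, ← Sylow.card_eq_multiplicity PG, hPG,
        Subgroup.card_map_of_injective S.Φ_inj, card_sA]
    have hTc : Nat.card T = Nat.card (P : Subgroup X) := Subgroup.card_map_of_injective X.subtype_injective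
    have hn6 : 64 ≤ Nat.card T := by
      rw [hn] at hTc ⊢
      rw [← hTc] at hgt
      have : 5 < n := by
        by_contra h
        exact hgt ((Nat.pow_le_pow_right (by norm_num) (by omega : n ≤ 5)).trans_eq rfl)
      exact (Nat.pow_le_pow_right (by norm_num) this).trans' (le_of_eq rfl)
    have hTQ : T = (Q : Subgroup G) := Subgroup.eq_of_le_of_card_ge hQ (by rw [hQc]; exact hn6)
    obtain ⟨h, hh⟩ := MulAction.exists_smul_eq G Q PG
    set t' := h * S.Φ tA * h⁻¹ with ht'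
    have hcom : ∀ s ∈ sList, Commute (S.Φ s) t' := by
      intro s hs
      have hm : h⁻¹ * S.Φ s * h ∈ (Q : Subgroup G) := by
        have h' : S.Φ s ∈ (PG : Subgroup G) := hPG ▸ ⟨s, hs, rfl⟩
        rw [← hh, Sylow.coe_subgroup_smul] at h'
        obtain ⟨q, hq, e⟩ := h'
        have e' : h * q * h⁻¹ = S.Φ s := e
        rw [← e', show h⁻¹ * (h * q * h⁻¹) * h = q by group]
        exact hq
      rw [← hTQ] at hm
      obtain ⟨q, -, e⟩ := hm
      have hc : Commute (h⁻¹ * S.Φ s * h) (S.Φ tA) := by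
        rw [← e]; exact Subgroup.mem_centralizer_singleton_iff.mp q.2
      have := hc.map (MulAut.conj h).toMonoidHom
      simpa [mul_assoc, ht'] using this
    have htQ : S.Φ tA ∈ (Q : Subgroup G) := by
      rw [← hTQ]
      refine ⟨⟨S.Φ tA, Subgroup.mem_centralizer_singleton_iff.mpr rfl⟩, hP ?_, rfl⟩
      exact Subgroup.mem_subgroupOf.mpr
        ⟨tA, ⟨mem_sA.mpr t_mem_a.2.1, Subgroup.mem_centralizer_singleton_iff.mpr rfl⟩, rfl⟩
    have ht'P : t' ∈ (PG : Subgroup G) := by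
      rw [← hh, Sylow.coe_subgroup_smul]; exact ⟨_, htQ, rfl⟩
    rw [hPG] at ht'P
    obtain ⟨d, hd, ed⟩ := ht'P
    have hcd : ∀ s ∈ sList, d * s = s * d := fun s hs => S.Φ_inj (by
      rw [map_mul, map_mul, ed]; exact (hcom s hs).symm.eq)
    obtain ⟨hv, hv1, hv4, hvt, htv, htv1, htv4, htv2, ht1⟩ := v_data
    rcases s_center d hd hcd with rfl | rfl
    · rw [map_one] at ed; exact ht1 (S.Φ_inj ((conj_eq_one_iff.mp ed.symm).trans (map_one _).symm))
    · exact S.t_ne_j fix_t.1 t_mem_a.2.1 u_facts.2.2.2.2.2.2.2.2.1 ht1 fix_t.2 (a_le_s _ t_mem_a.2.2)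
        u_facts.2.2.2.2.2.2.2.2.2 (fun e => by
          rw [e, map_one] at ed; exact ht1 (S.Φ_inj ((conj_eq_one_iff.mp ed.symm).trans (map_one _).symm)))
        (isConj_iff.mpr ⟨h, ed.symm⟩)
  have heq := Subgroup.eq_of_le_of_card_ge hP (by rw [hP0card]; exact hle)
  rw [← heq] at hp'
  obtain ⟨s, hs, e⟩ := Subgroup.mem_subgroupOf.mp hp'
  exact ⟨s, hs.1, Subgroup.mem_centralizer_singleton_iff.mp hs.2, e⟩

/-- The centralizers of both classes of involutions lie in the image. -/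
theorem cents_le : (∀ x, Commute x (S.Φ tA) → x ∈ S.G0) ∧ ∀ x, Commute x (S.Φ jA) → x ∈ S.G0 := by
  haveI := Fact.mk Nat.prime_two
  haveI h3f := Fact.mk Nat.prime_three
  set X := Subgroup.centralizer ({S.Φ tA} : Set G) with hX
  have memX : ∀ {g : G}, g ∈ X ↔ Commute g (S.Φ tA) := fun {g} => Subgroup.mem_centralizer_singleton_iff
  obtain ⟨P, hPmem⟩ := S.exists_sylow_t
  obtain ⟨hv, hv1, hv4, hvt, htv, htv1, htv4, htv2, ht1⟩ := v_data
  have hvt' : vA * tA = tA * vA := y_facts.2.2.2.2.2.2.1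
  set t : X := ⟨S.Φ tA, memX.mpr (Commute.refl _)⟩ with ht
  set v : X := ⟨S.Φ vA, memX.mpr (by show _ = _; rw [← map_mul, ← map_mul, hvt'])⟩ with hv'
  have htt : t * t = 1 := Subtype.ext (show S.Φ tA * S.Φ tA = 1 by
    rw [← map_mul, u_facts.2.2.2.2.2.2.2.2.1, map_one])
  have hvv : v * v = 1 := Subtype.ext (show S.Φ vA * S.Φ vA = 1 by
    rw [← map_mul, u_facts.2.2.2.2.2.2.2.1, map_one])
  have htne : t ≠ 1 := fun e => ht1 (S.Φ_inj ((congrArg Subtype.val e).trans (map_one _).symm))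
  have hto : orderOf t = 2 := orderOf_eq_prime (by rw [pow_two, htt]) htne
  have htc : ∀ g : X, Commute g t := fun g => Subtype.ext (memX.mp g.2).eq
  set J := Subgroup.zpowers t with hJ
  haveI : J.Normal := ⟨fun n hn k => by
    obtain ⟨l, rfl⟩ := Subgroup.mem_zpowers_iff.mp hn
    rw [((htc k).zpow_right l).eq, mul_inv_cancel_right]
    exact Subgroup.zpow_mem_zpowers t l⟩
  have hJmem : ∀ {g}, g ∈ J → g = 1 ∨ g = t := by
    intro g hg
    obtain ⟨l, rfl⟩ := Subgroup.mem_zpowers_iff.mp hg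
    rcases Int.even_or_odd l with ⟨k, rfl⟩ | ⟨k, rfl⟩
    · left; rw [← two_mul, zpow_mul, zpow_two, htt, one_zpow]
    · right; rw [zpow_add, zpow_one, zpow_mul, zpow_two, htt, one_zpow, one_mul]
  set π := QuotientGroup.mk' J with hπ
  have hπt : π t = 1 := (QuotientGroup.eq_one_iff _).mpr (Subgroup.mem_zpowers t)
  have hπv1 : π v ≠ 1 := fun e => by
    rcases hJmem ((QuotientGroup.eq_one_iff _).mp e) with e | e
    · exact hv1 (S.Φ_inj ((congrArg Subtype.val e).trans (map_one _).symm))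
    · exact hvt (S.Φ_inj (congrArg Subtype.val e))
  have hπv2 : π v * π v = 1 := by rw [← map_mul, hvv, map_one]
  -- conjugates in the Sylow subgroup
  have hfus : ∀ g : X, g * v * g⁻¹ ∈ (P : Subgroup X) → π (g * v * g⁻¹) = π v := by
    intro g hg
    obtain ⟨w, hw, hwt, ew⟩ := hPmem _ hg
    rcases S.conj_v (memX.mp g.2) hw hwt ew.symm with rfl | rfl
    · exact congrArg π (Subtype.ext ew.symm)
    · rw [show g * v * g⁻¹ = t * v from Subtype.ext (ew.symm.trans (map_mul _ _ _)), map_mul, hπt, one_mul]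
  -- the image of `v` is isolated
  have hiso : Cfsg.IsIsolatedInvolution (π v) := by
    refine ⟨orderOf_eq_prime (by rw [pow_two, hπv2]) hπv1, fun q hq => ?_⟩
    obtain ⟨g, rfl⟩ := QuotientGroup.mk'_surjective J q
    rw [← map_inv, ← map_mul, ← map_mul] at hq ⊢
    set w := g * v * g⁻¹ with hw
    have hw2 : π w * π w = 1 := by
      rw [← map_mul, hw, show g * v * g⁻¹ * (g * v * g⁻¹) = g * (v * v) * g⁻¹ by group, hvv, mul_one,
        mul_inv_cancel, map_one]
    set F := Subgroup.closure ({v, w} : Set X)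
    have hF : IsPGroup 2 F := by
      rintro ⟨m, hm⟩
      obtain ⟨i, k, e⟩ : ∃ i k : ℕ, π m = π v ^ i * π w ^ k := by
        induction hm using Subgroup.closure_induction with
        | mem u hu =>
          rcases hu with rfl | rfl
          · exact ⟨1, 0, by simp⟩
          · exact ⟨0, 1, by simp⟩
        | one => exact ⟨0, 0, by simp⟩
        | mul a b _ _ ha hb =>
          obtain ⟨i, k, e⟩ := ha; obtain ⟨i', k', e'⟩ := hb
          exact ⟨i + i', k + k', by rw [map_mul, e, e', (hq.pow_pow i' k).symm.mul_mul_mul_comm, ← pow_add, ← pow_add]⟩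
        | inv a _ ha =>
          obtain ⟨i, k, e⟩ := ha
          refine ⟨i, k, ?_⟩
          rw [map_inv, e]
          refine inv_eq_of_mul_eq_one_right ?_
          rw [(hq.pow_pow i k).symm.mul_mul_mul_comm, ← (Commute.refl (π v)).mul_pow, ← (Commute.refl (π w)).mul_pow,
            hπv2, hw2, one_pow, one_pow, one_mul]
      have hm2 : m * m ∈ J := by
        rw [← QuotientGroup.eq_one_iff]
        show π (m * m) = 1
        rw [map_mul, e, (hq.pow_pow i k).symm.mul_mul_mul_comm, ← (Commute.refl (π v)).mul_pow,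
          ← (Commute.refl (π w)).mul_pow, hπv2, hw2, one_pow, one_pow, one_mul]
      refine ⟨2, Subtype.ext ?_⟩
      show m ^ 2 ^ 2 = 1
      rw [show (2 : ℕ) ^ 2 = 2 * 2 from rfl, pow_mul, pow_two m, pow_two]
      rcases hJmem hm2 with e | e <;> rw [e]
      · exact one_mul 1
      · exact htt
    obtain ⟨Q, hQ⟩ := hF.exists_le_sylow
    obtain ⟨k, hk⟩ := MulAction.exists_smul_eq X Q P
    have hin : ∀ u ∈ F, k * u * k⁻¹ ∈ (P : Subgroup X) := fun u hu => by
      rw [← hk, Sylow.coe_subgroup_smul]; exact ⟨u, hQ hu, rfl⟩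
    have e1 := hfus k (hin v (Subgroup.subset_closure (by simp)))
    have e2 := hfus (k * g) (by
      rw [show k * g * v * (k * g)⁻¹ = k * w * k⁻¹ by rw [hw]; group]
      exact hin w (Subgroup.subset_closure (by simp)))
    rw [show k * g * v * (k * g)⁻¹ = k * w * k⁻¹ by rw [hw]; group, ← e1, map_mul, map_mul, map_mul, map_mul,
      map_inv] at e2
    exact mul_left_cancel (mul_right_cancel e2)
  set C := Cfsg.pPrimeCore 2 (X ⧸ J) with hC
  haveI hCn : C.Normal := Transfer.pPrimeCore_normal 2 _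
  have hCodd : Odd (Nat.card C) := ZStar.odd_card_core
  set H := C.comap π with hH
  have hHcard : Nat.card H = 2 * Nat.card C := by
    have h1 := H.card_mul_index
    rw [hH, Subgroup.index_comap_of_surjective _ (QuotientGroup.mk'_surjective J)] at h1
    have h2 := C.card_mul_index
    have h3 := J.card_mul_index
    rw [hJ, Nat.card_zpowers, hto, Subgroup.index_eq_card, ← hJ] at h3
    have hpos : 0 < C.index := Nat.pos_of_ne_zero Subgroup.index_ne_zero_of_finite
    refine Nat.eq_of_mul_eq_mul_right hpos ?_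
    rw [h1, mul_assoc, h2, h3]
  obtain ⟨W0, hW0i, hW0⟩ := exists_odd_part hHcard hCodd
  set W : Subgroup G := W0.map (X.subtype.comp H.subtype) with hW
  have hWodd : Odd (Nat.card W) := by
    rw [hW, Subgroup.card_map_of_injective (f := X.subtype.comp H.subtype)
      (X.subtype_injective.comp H.subtype_injective)]
    have h := W0.card_mul_index
    rw [hW0i, hHcard] at h
    rwa [show Nat.card W0 = Nat.card C by omega]
  have memW : ∀ {g : G}, g ∈ W ↔ ∃ hg : g ∈ X, π ⟨g, hg⟩ ∈ C ∧ Odd (orderOf g) := by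
    intro g
    constructor
    · rintro ⟨k, hk, rfl⟩
      refine ⟨(k : X).2, k.2, ?_⟩
      show Odd (orderOf ((k : X) : G))
      rw [Subgroup.orderOf_coe, Subgroup.orderOf_coe]
      exact (hW0 k).mp hk
    · rintro ⟨hg, h1, h2⟩
      refine ⟨⟨⟨g, hg⟩, h1⟩, (hW0 _).mpr ?_, rfl⟩
      rw [← Subgroup.orderOf_coe, ← Subgroup.orderOf_coe]
      exact h2
  have hWX : ∀ {w : G}, w ∈ W → Commute w (S.Φ tA) := fun hw => memX.mp (memW.mp hw).1
  have hWconj : ∀ c, Commute c (S.Φ tA) → ∀ w ∈ W, c * w * c⁻¹ ∈ W := by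
    intro c hc w hw
    obtain ⟨h1, h2, h3⟩ := memW.mp hw
    refine memW.mpr ⟨mul_mem (mul_mem (memX.mpr hc) h1) (inv_mem (memX.mpr hc)), ?_, ?_⟩
    · exact hCn.conj_mem _ h2 (π ⟨c, memX.mpr hc⟩)
    · rwa [show c * w * c⁻¹ = MulAut.conj c w from rfl, MulEquiv.orderOf_eq]
  -- every element is in `W` times the image
  have hdec : ∀ g, Commute g (S.Φ tA) → ∃ w ∈ W, w * g ∈ S.G0 := by
    intro g hg
    set gX : X := ⟨g, memX.mpr hg⟩ with hgX
    set v2 := π gX * π v * (π gX)⁻¹ with hv2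
    have hcomm : π v * v2 ∈ C := by
      have h := ZStar.commutatorsInCore_of_isolated hiso (π gX)
      have h' := inv_mem h
      have hinv : (π v)⁻¹ = π v := inv_eq_of_mul_eq_one_right hπv2
      rw [show (π v * π gX * (π v)⁻¹ * (π gX)⁻¹)⁻¹ = π gX * π v * (π gX)⁻¹ * (π v)⁻¹ by group, hinv] at h'
      have h'' := hCn.conj_mem _ h' (π v)
      rwa [show π v * (π gX * π v * (π gX)⁻¹ * π v) * (π v)⁻¹ = π v * (π gX * π v * (π gX)⁻¹) by group] at h''
    obtain ⟨k, hk⟩ := Invol.exists_zpow_conj_of_odd hiso.1 (Invol.conj_orderOf_two hiso.1 (π gX))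
      (hCodd.of_dvd_nat (Subgroup.orderOf_dvd_natCard C hcomm))
    obtain ⟨kX, hkX⟩ := QuotientGroup.mk'_surjective J ((π v * v2) ^ k)
    have hkH : kX ∈ H := by
      show π kX ∈ C
      rw [hπ, hkX]; exact zpow_mem hcomm k
    -- replace `kX` by its odd representative
    obtain ⟨w, hw, hwk⟩ : ∃ w ∈ W, ∃ e : X, e ∈ J ∧ (w : G) = (kX * e : X) := by
      rcases (show (⟨kX, hkH⟩ : H) ∈ W0 ∨ (⟨kX, hkH⟩ : H) ∉ W0 from em _) with hin | hin
      · exact ⟨_, ⟨_, hin, rfl⟩, 1, one_mem _, by simp⟩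
      · have htH : t ∈ H := by show π t ∈ C; rw [hπt]; exact one_mem _
        have htW : (⟨t, htH⟩ : H) ∉ W0 := fun e => by
          have := (hW0 _).mp e
          rw [Subgroup.orderOf_mk, hto] at this
          exact absurd this (by decide)
        have := (Subgroup.mul_mem_iff_of_index_two hW0i).mpr (iff_of_false hin htW)
        exact ⟨_, ⟨_, this, rfl⟩, t, Subgroup.mem_zpowers t, rfl⟩
    obtain ⟨e, he, hwe⟩ := hwk
    have hπw : ∀ hwX : w ∈ X, π ⟨w, hwX⟩ = (π v * v2) ^ k := fun hwX => by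
      rw [show (⟨w, hwX⟩ : X) = kX * e from Subtype.ext hwe, map_mul,
        show π e = 1 from (QuotientGroup.eq_one_iff _).mpr he, mul_one, hπ, hkX]
    obtain ⟨hwX, -, -⟩ := memW.mp hw
    set h : X := gX⁻¹ * ⟨w, hwX⟩ with hh
    have hhv : π (h * v * h⁻¹) = π v := by
      rw [hh, map_mul, map_mul, map_inv, map_mul, map_inv, hπw hwX]
      calc (π gX)⁻¹ * (π v * v2) ^ k * π v * ((π gX)⁻¹ * (π v * v2) ^ k)⁻¹
          = (π gX)⁻¹ * ((π v * v2) ^ k * π v * ((π v * v2) ^ k)⁻¹) * π gX := by group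
        _ = π v := by rw [hk]; group
    have hd : v⁻¹ * (h * v * h⁻¹) ∈ J := by
      rw [← QuotientGroup.eq_one_iff]
      show π (v⁻¹ * (h * v * h⁻¹)) = 1
      rw [map_mul, hhv, map_inv, inv_mul_cancel]
    have hG : (h : G) ∈ S.G0 := by
      have hht : (h : G) * S.Φ tA * (h : G)⁻¹ = S.Φ tA := by rw [(memX.mp h.2).eq, mul_inv_cancel_right]
      have hd' : (h : G) * S.Φ vA * (h : G)⁻¹ = S.Φ vA ∨ (h : G) * S.Φ vA * (h : G)⁻¹ = S.Φ (tA * vA) := by
        rcases hJmem hd with e | e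
        · exact Or.inl (congrArg Subtype.val (inv_mul_eq_one.mp e).symm)
        · right
          rw [← hvt', map_mul]
          exact congrArg Subtype.val (inv_mul_eq_iff_eq_mul.mp e)
      refine S.norm_V_le fun d hd2 => ?_
      simp only [List.mem_cons, List.not_mem_nil, or_false] at hd2
      have hprod : (h : G) * S.Φ (tA * vA) * (h : G)⁻¹ = S.Φ tA * ((h : G) * S.Φ vA * (h : G)⁻¹) := by
        conv_rhs => rw [← hht]
        rw [map_mul]; group
      rcases hd2 with rfl | rfl | rfl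
      · exact ⟨tA, by simp, hht⟩
      · rcases hd' with e | e <;> exact ⟨_, by simp, e⟩
      · rcases hd' with e | e <;> rw [e, ← map_mul] at hprod
        · exact ⟨_, by simp, hprod⟩
        · rw [← mul_assoc, u_facts.2.2.2.2.2.2.2.2.1, one_mul] at hprod
          exact ⟨vA, by simp, hprod⟩
    refine ⟨w⁻¹, inv_mem hw, ?_⟩
    have := inv_mem hG
    simpa [hh, hgX] using this
  -- elements of odd order in the image
  have hsmall : ∀ w ∈ W, w ∈ S.G0 → ¬ 3 ∣ orderOf w → w = 1 := by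
    intro w hw hwG h3
    obtain ⟨c, rfl⟩ := hwG
    have hc : c * tA = tA * c := S.Φ_inj (by rw [map_mul, map_mul]; exact (hWX hw).eq)
    have h576 : S.Φ c ^ 576 = 1 := by rw [← map_pow, t_cent_pow hc, map_one]
    have h2 : Odd (orderOf (S.Φ c)) := (memW.mp hw).2.2
    rw [← orderOf_eq_one_iff]
    refine Nat.Coprime.eq_one_of_dvd ?_ (orderOf_dvd_of_pow_eq_one h576)
    rw [show 576 = 2 ^ 6 * 3 ^ 2 from rfl]
    exact ((Nat.coprime_two_right.mpr h2).pow_right 6).mul_right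
      (((Nat.prime_three.coprime_iff_not_dvd.mpr h3).symm).pow_right 2)
  -- `W` has order prime to three
  have hW3 : ¬ 3 ∣ Nat.card W := by
    intro h3
    obtain ⟨c0, hc0⟩ : ∃ c : G, c = S.Φ cShift := ⟨_, rfl⟩
    have hvc : S.Φ tA = c0 * S.Ω vOne * c0⁻¹ := by
      rw [hc0, ← S.Φ_ι_apply, ← map_inv, ← map_mul, ← map_mul, shift_facts.1]
    set z' := c0 * S.z * c0⁻¹ with hz'
    have hzt : Commute z' (S.Φ tA) := by
      rw [hvc]
      exact (S.commute_even (π := vOne) (by decide)).map (MulAut.conj c0).toMonoidHom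
    obtain ⟨⟨u, hu⟩, huo⟩ := exists_prime_orderOf_dvd_card' (G := W) 3 h3
    rw [Subgroup.orderOf_mk] at huo
    -- a conjugate of `z'` lies in `W`
    have hzW : z' ∈ W := by
      have hu' : Commute (c0⁻¹ * u * c0) (S.Ω vOne) := by
        have := (hWX hu).map (MulAut.conj c0⁻¹).toMonoidHom
        rw [hvc] at this
        simpa [mul_assoc] using this
      obtain ⟨l, hl, he⟩ := S.three_cent_t (by
          rw [show c0⁻¹ * u * c0 = MulAut.conj c0⁻¹ u by simp, ← map_pow, ← huo, pow_orderOf_eq_one, map_one])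
        (fun e => by
          rw [show c0⁻¹ * u * c0 = MulAut.conj c0⁻¹ u by simp, MulEquiv.map_eq_one_iff] at e
          rw [e, orderOf_one] at huo; omega) hu'
      have hlt : Commute (c0 * l * c0⁻¹) (S.Φ tA) := by
        rw [hvc]; exact hl.map (MulAut.conj c0).toMonoidHom
      have hm := hWconj _ hlt u hu
      have e' : c0 * l * c0⁻¹ * u * (c0 * l * c0⁻¹)⁻¹ = c0 * (l * (c0⁻¹ * u * c0) * l⁻¹) * c0⁻¹ := by group
      rw [e'] at hm
      rcases he with e | e <;> rw [e] at hm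
      · exact hm
      · have := inv_mem hm
        rwa [show (c0 * S.z⁻¹ * c0⁻¹)⁻¹ = c0 * S.z * c0⁻¹ by group] at this
    -- the normalizer of `⟨z'⟩` is too small
    have hnorm : ∀ g, Commute g (S.Φ tA) → ∃ π' : dEight, ∃ w ∈ W, g = w * (c0 * S.Ω π' * c0⁻¹) := by
      intro g hg
      have hz3 : z' ^ 3 = 1 := by rw [hz', conj_pow, S.hz, mul_one, mul_inv_cancel]
      set n := Subgroup.centralizer ({S.Φ tA} : Set G)
      have hgz : g⁻¹ * z' * g⁻¹⁻¹ ∈ W := hWconj _ hg.inv_left _ hzW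
      -- Sylow in `W`
      have hzne : z' ≠ 1 := fun e => S.z_ne (conj_eq_one_iff.mp e)
      have mkP : ∀ u : W, u ^ 3 = 1 → IsPGroup 3 (Subgroup.zpowers u) := fun u hu => by
        rintro ⟨_, l, rfl⟩
        refine ⟨1, Subtype.ext ?_⟩
        rw [pow_one, SubgroupClass.coe_pow]
        show (u ^ l) ^ 3 = 1
        rw [← zpow_natCast, ← zpow_mul, mul_comm, zpow_mul, zpow_natCast, hu, one_zpow]
      set u1 : W := ⟨z', hzW⟩
      set u2 : W := ⟨_, hgz⟩
      obtain ⟨A1, hA1⟩ := (mkP u1 (Subtype.ext hz3)).exists_le_sylow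
      obtain ⟨A2, hA2⟩ := (mkP u2 (Subtype.ext (by
        show (g⁻¹ * z' * g⁻¹⁻¹) ^ 3 = 1
        rw [conj_pow, hz3, mul_one, mul_inv_cancel]))).exists_le_sylow
      obtain ⟨o, ho⟩ := MulAction.exists_smul_eq W A2 A1
      have hmem : o * u2 * o⁻¹ ∈ (A1 : Subgroup W) := by
        rw [← ho, Sylow.coe_subgroup_smul]; exact ⟨_, hA2 (Subgroup.mem_zpowers _), rfl⟩
      have hle := S.pgroup_three_cent_t
        (P := ((A1 : Subgroup W).map W.subtype).map (MulAut.conj c0⁻¹).toMonoidHom) ((A1.2.map _).map _)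
        ⟨z', ⟨u1, hA1 (Subgroup.mem_zpowers _), rfl⟩, by simp [hz', mul_assoc]⟩
        (by
          rintro _ ⟨_, ⟨p, -, rfl⟩, rfl⟩
          have := (hWX p.2).map (MulAut.conj c0⁻¹).toMonoidHom
          rw [hvc] at this
          simpa [mul_assoc] using this)
      have hin := hle ⟨_, ⟨_, hmem, rfl⟩, rfl⟩
      set k := c0⁻¹ * ((o : G) * g⁻¹) * c0 with hk
      have hkz : k * S.z * k⁻¹ ∈ Subgroup.zpowers S.z := by
        convert hin using 1
        simp [hk, u2, hz', mul_assoc]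
      obtain ⟨i, π', e⟩ : ∃ (i : Fin 3) (π' : Perm (Fin 5)), k = S.z ^ (i : ℕ) * S.Ω π' := by
        rcases S.zpowers_z_cases hkz with e | e | e
        · exact absurd (conj_eq_one_iff.mp e) S.z_ne
        · exact S.norm _ (Or.inl e)
        · exact S.norm _ (Or.inr e)
      have hkt : Commute k (S.Ω vOne) := by
        have h1 : Commute ((o : G) * g⁻¹) (S.Φ tA) := (hWX o.2).mul_left hg.inv_left
        have := h1.map (MulAut.conj c0⁻¹).toMonoidHom
        rw [hvc] at this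
        simpa [hk, mul_assoc] using this
      have hπt : π' * vOne = vOne * π' := by
        refine S.Ω_inj ?_
        have := ((S.commute_even (π := vOne) (by decide)).pow_left (i : ℕ)).inv_left.mul_left hkt
        rw [e, inv_mul_cancel_left] at this
        rw [map_mul, map_mul]; exact this.eq
      have hπd : π'⁻¹ ∈ dEight := inv_mem (mem_dEight.mpr ⟨hπt, fix_four π' hπt⟩)
      refine ⟨⟨π'⁻¹, hπd⟩, (c0 * S.Ω π'⁻¹ * c0⁻¹) * ((z' ^ (i : ℕ))⁻¹ * (o : G)) * (c0 * S.Ω π'⁻¹ * c0⁻¹)⁻¹, ?_, ?_⟩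
      · refine hWconj _ ?_ _ (mul_mem (inv_mem (pow_mem hzW _)) o.2)
        rw [hvc]
        refine Commute.map (x := S.Ω π'⁻¹) ?_ (MulAut.conj c0).toMonoidHom
        show _ = _
        rw [← map_mul, ← map_mul]
        congr 1
        exact (Commute.inv_left (show Commute π' vOne from hπt)).eq
      · have hko : g = c0 * k⁻¹ * c0⁻¹ * o := by rw [hk]; group
        have hi : z' ^ (i : ℕ) = c0 * S.z ^ (i : ℕ) * c0⁻¹ := by rw [hz', conj_pow]
        rw [hko, e, hi, map_inv]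
        group
    let Ψ : W × dEight → X := fun p => ⟨(p.1 : G) * (c0 * S.Ω p.2 * c0⁻¹), mul_mem (memW.mp p.1.2).1 (memX.mpr (by
      rw [hvc]
      refine Commute.map (x := S.Ω p.2) ?_ (MulAut.conj c0).toMonoidHom
      show _ = _
      rw [← map_mul, ← map_mul, (mem_dEight.mp p.2.2).1]))⟩
    have hΨ : Function.Surjective Ψ := by
      rintro ⟨g, hg⟩
      obtain ⟨π', w, hw, e⟩ := hnorm g (memX.mp hg)
      exact ⟨(⟨w, hw⟩, π'), Subtype.ext e.symm⟩
    have hcard := Nat.card_le_card_of_surjective Ψ hΨ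
    rw [Nat.card_prod, card_dEight] at hcard
    have hWle : W ≤ X := fun w hw => (memW.mp hw).1
    set P32 := ((sA ⊓ Subgroup.centralizer {tA}).map S.Φ)
    have hPle : P32 ≤ X := by
      rintro _ ⟨s, hs, rfl⟩
      refine memX.mpr ?_
      show _ = _
      rw [← map_mul, ← map_mul, Subgroup.mem_centralizer_singleton_iff.mp hs.2]
    have hP32 : Nat.card P32 = 32 := by
      rw [Subgroup.card_map_of_injective S.Φ_inj,
        Nat.card_congr (Equiv.subtypeEquivRight (q := fun s => s ∈ (sList.filter fun s => decide (s * tA = tA * s)).toFinset)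
          (fun s => by
            rw [List.mem_toFinset, List.mem_filter, decide_eq_true_iff, Subgroup.mem_inf, mem_sA,
              Subgroup.mem_centralizer_singleton_iff])),
        Nat.card_eq_fintype_card, Fintype.card_coe]
      exact s_cent_t.1
    have hdvd : Nat.card W * 32 ∣ Nat.card X := by
      refine Nat.Coprime.mul_dvd_of_dvd_of_dvd ?_ (Subgroup.card_dvd_of_le hWle) (hP32 ▸ Subgroup.card_dvd_of_le hPle)
      exact (Nat.coprime_two_right.mpr hWodd).pow_right 5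
    have := Nat.le_of_dvd Nat.card_pos hdvd
    have : 0 < Nat.card W := Nat.card_pos
    omega
  have hW31 : ∀ w ∈ W, ¬ 3 ∣ orderOf w := fun w hw h => hW3 (h.trans (Subgroup.orderOf_dvd_natCard W hw))
  -- `v` inverts `W`
  have hinv_of : ∀ d : A8, d * d = 1 → d * tA = tA * d → (∀ w ∈ W, Commute w (S.Φ d) → w ∈ S.G0) →
      ∀ w ∈ W, S.Φ d * w * S.Φ d = w⁻¹ := by
    intro d hd2 hdt hfix
    have hdd : S.Φ d * S.Φ d = 1 := by rw [← map_mul, hd2, map_one]
    have hdi : (S.Φ d)⁻¹ = S.Φ d := inv_eq_of_mul_eq_one_right hdd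
    refine fun w hw => CfsgLib.M12Recog.inverts_of_fpf hdd (fun n hn => ?_) (fun n hn hc => hsmall n hn (hfix n hn hc) (hW31 n hn)) w hw
    have := hWconj (S.Φ d) (by show _ = _; rw [← map_mul, ← map_mul, hdt]) n hn
    rwa [hdi] at this
  have hvW := hinv_of vA u_facts.2.2.2.2.2.2.2.1 hvt' (fun w hw hc => S.cent_V_le (hWX hw) hc)
  -- the odd part at `j`
  obtain ⟨O, hOodd, hOj, hOA, hOy, hOn, hOfix, hO3, hOfin⟩ := S.exists_odd_normal
  obtain ⟨hrt, hrv, -, hjv, hyvj⟩ := second_invol _ rfl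
  have hOt : ∀ o ∈ O, Commute o (S.Φ tA) := fun o ho => hOA tA t_mem_a.1 o ho
  have hOW : ∀ o ∈ O, o ∈ W := by
    intro o ho
    obtain ⟨w, hw, hwo⟩ := hdec o (hOt o ho)
    obtain ⟨c, hc⟩ := hwo
    have hct : c * tA = tA * c := S.Φ_inj (by
      rw [map_mul, map_mul, hc]; exact ((hWX hw).mul_left (hOt o ho)).eq)
    -- `o` has odd order and its image lies in the core
    have hoX : o ∈ X := memX.mpr (hOt o ho)
    have hoodd : Odd (orderOf o) := hOodd.of_dvd_nat (Subgroup.orderOf_dvd_natCard O ho)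
    refine memW.mpr ⟨hoX, ?_, hoodd⟩
    obtain ⟨hwX, hwC, -⟩ := memW.mp hw
    set ρ : X →* (X ⧸ J) ⧸ C := (QuotientGroup.mk' C).comp π with hρ
    have hρC : ∀ g, ρ g = 1 ↔ π g ∈ C := fun g => QuotientGroup.eq_one_iff _
    rw [← hρC]
    have hρo : ρ ⟨o, hoX⟩ = ρ ⟨S.Φ c, hc ▸ mul_mem hwX hoX⟩ := by
      rw [show (⟨S.Φ c, hc ▸ mul_mem hwX hoX⟩ : X) = ⟨w, hwX⟩ * ⟨o, hoX⟩ from Subtype.ext hc, map_mul,
        (hρC _).mpr hwC, one_mul]
    have h576 : ρ ⟨o, hoX⟩ ^ 576 = 1 := by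
      rw [hρo, ← map_pow, show (⟨S.Φ c, hc ▸ mul_mem hwX hoX⟩ : X) ^ 576 = 1 from Subtype.ext (by
        show S.Φ c ^ 576 = 1
        rw [← map_pow, t_cent_pow hct, map_one]), map_one]
    have h1 : orderOf (ρ ⟨o, hoX⟩) ∣ orderOf o :=
      (orderOf_map_dvd ρ _).trans (dvd_of_eq (Subgroup.orderOf_mk o hoX))
    rw [← orderOf_eq_one_iff]
    refine Nat.Coprime.eq_one_of_dvd ?_ (orderOf_dvd_of_pow_eq_one h576)
    rw [show 576 = 2 ^ 6 * 3 ^ 2 from rfl]
    have h2 : ¬ 3 ∣ orderOf (ρ ⟨o, hoX⟩) := fun h =>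
      hO3 (h.trans (h1.trans (Subgroup.orderOf_dvd_natCard O ho)))
    exact ((Nat.coprime_two_right.mpr (hoodd.of_dvd_nat h1)).pow_right 6).mul_right
      (((Nat.prime_three.coprime_iff_not_dvd.mpr h2).symm).pow_right 2)
  have hO1 : ∀ o ∈ O, o = 1 := by
    intro o ho
    set y := S.Φ yA with hy
    set V := S.Φ vA with hV
    have hVV : V * V = 1 := by rw [hV, ← map_mul, u_facts.2.2.2.2.2.2.2.1, map_one]
    have hyj : Commute y⁻¹ (S.Φ jA) :=
      (show Commute y (S.Φ jA) by show _ = _; rw [← map_mul, ← map_mul, y_facts.2.2.1]).inv_left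
    have ho' : y⁻¹ * o * y ∈ O := by simpa using hOn o ho y⁻¹ hyj
    have h1 := hvW _ (hOW o ho)
    have h2 := hvW _ (hOW _ ho')
    have h3 : y * V * y⁻¹ * o * (y * V * y⁻¹) = o⁻¹ := by
      rw [show y * V * y⁻¹ * o * (y * V * y⁻¹) = y * (V * (y⁻¹ * o * y) * V) * y⁻¹ by group, h2]; group
    have hcomm : Commute (V * (y * V * y⁻¹)) o := by
      show V * (y * V * y⁻¹) * o = o * (V * (y * V * y⁻¹))
      have e1 : (y * V * y⁻¹) * o = o⁻¹ * (y * V * y⁻¹) := by
        calc (y * V * y⁻¹) * o = (y * V * y⁻¹) * o * (y * (V * V) * y⁻¹) := by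
              rw [hVV, mul_one, mul_inv_cancel, mul_one]
          _ = (y * V * y⁻¹ * o * (y * V * y⁻¹)) * (y * V * y⁻¹) := by group
          _ = _ := by rw [h3]
      have e2 : V * o⁻¹ = o * V := by
        have hVi : V⁻¹ = V := inv_eq_of_mul_eq_one_right hVV
        calc V * o⁻¹ = V * (V * o * V) := by rw [h1]
          _ = o * V := by rw [← mul_assoc, ← mul_assoc, hVV, one_mul]
      rw [mul_assoc, e1, ← mul_assoc, e2, mul_assoc]
    have hm := y_facts.2.2.2.2.1
    simp only [List.mem_cons, List.not_mem_nil, or_false] at hm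
    have hVy : V * (y * V * y⁻¹) = S.Φ (vA * (yA * vA * yA⁻¹)) := by
      simp only [map_mul, map_inv, hy, hV]
    rw [hVy] at hcomm
    refine hOfix o ho ?_
    rcases hm with e | e <;> rw [e] at hcomm
    · exact hcomm.symm
    · have h4 := hcomm.mul_left hcomm
      rw [← map_mul, show yA * yA * (yA * yA) = (yA * yA * yA) * yA by group, y_facts.1, one_mul] at h4
      exact h4.symm
  have hjle := hOfin hO1
  refine ⟨fun x hx => ?_, hjle⟩
  -- the odd part of the centralizer is trivial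
  set r := tA * jA with hr
  have hrW := hinv_of r u_facts.1 hrt (fun w hw hc => hjle w (by
    rw [← hrv, map_mul]; exact (hWX hw).mul_right hc))
  obtain ⟨hrvfix, hrv2, hrvs⟩ := u_facts.2.2.2.1, u_facts.2.2.2.2.1, u_facts.2.2.2.2.2.1
  have hW1 : ∀ w ∈ W, w = 1 := by
    intro w hw
    refine hsmall w hw ?_ (hW31 w hw)
    have hVV : S.Φ vA * S.Φ vA = 1 := by rw [← map_mul, u_facts.2.2.2.2.2.2.2.1, map_one]
    have hRR : S.Φ r * S.Φ r = 1 := by rw [← map_mul, u_facts.1, map_one]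
    have hcw : Commute (S.Φ (r * vA)) w := by
      show S.Φ (r * vA) * w = w * S.Φ (r * vA)
      have e1 : S.Φ vA * w = w⁻¹ * S.Φ vA := by
        rw [← hvW w hw, mul_assoc _ _ (S.Φ vA), mul_assoc, hVV, mul_one]
      have e2 : S.Φ r * w⁻¹ = w * S.Φ r := by
        calc S.Φ r * w⁻¹ = S.Φ r * (S.Φ r * w * S.Φ r) := by rw [hrW w hw]
          _ = _ := by rw [← mul_assoc, ← mul_assoc, hRR, one_mul]
      rw [map_mul, mul_assoc, e1, ← mul_assoc, e2, mul_assoc]
    have hne : r * vA ≠ 1 := fun e => by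
      have := u_facts.2.2.2.1
      rw [← hr, e] at this
      exact absurd this (by decide +kernel)
    rcases s_involutions (r * vA) hrvs hrv2 hne with ⟨h4, -⟩ | ⟨-, c, -, hc⟩
    · rw [hrvfix] at h4; omega
    · have : Commute (S.Φ c⁻¹ * w * (S.Φ c⁻¹)⁻¹) (S.Φ jA) := by
        have h := hcw.symm.map (MulAut.conj (S.Φ c⁻¹)).toMonoidHom
        simp only [MulEquiv.coe_toMonoidHom, MulAut.conj_apply] at h
        rw [← hc, ← map_inv S.Φ c⁻¹, ← map_mul, ← map_mul,
          show c⁻¹ * (c * jA * c⁻¹) * c⁻¹⁻¹ = jA by group, map_inv S.Φ c⁻¹] at h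
        exact h
      have h5 := mul_mem (mul_mem (inv_mem (S.Φ_mem c⁻¹)) (hjle _ this)) (S.Φ_mem c⁻¹)
      rwa [show (S.Φ c⁻¹)⁻¹ * (S.Φ c⁻¹ * w * (S.Φ c⁻¹)⁻¹) * S.Φ c⁻¹ = w by group] at h5
  obtain ⟨w, hw, hwx⟩ := hdec x hx
  rwa [hW1 w hw, one_mul] at hwx

end CfsgLib.AltEightThree.Setup
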