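import Cfsg.Agent.Lib.AltEightThree.Basic

/-!
# Producing the local data from the hypotheses of the recognition
-/

set_option autoImplicit false

open Equiv

namespace CfsgLib.AltEightThree

theorem fin3_sub : ∀ i i' : Fin 3, ((i' : ℕ) + ((i + 2 * i' : Fin 3) : ℕ)) % 3 = i := by decide
theorem fin3_eq : ∀ i i' : Fin 3, i + 2 * i' = 0 → i = i' := by decide
theorem fin3_neg : ∀ i : Fin 3, ((i : ℕ) + ((-i : Fin 3) : ℕ)) % 3 = 0 := by decide
theorem fin3_one_sub : ∀ i : Fin 3, ((i : ℕ) + ((1 - i : Fin 3) : ℕ)) % 3 = 1 := by decide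
theorem fin3_cases : ∀ i : Fin 3, i = 0 ∨ i = 1 ∨ i = 2 := by decide
theorem fin3_ne : ∀ i : Fin 3, i ≠ 0 → i = 1 ∨ i = 2 := by decide
theorem fin3_neg_self : ∀ i : Fin 3, -i = i → i = 0 := by decide
theorem fin3_self_neg : ∀ i : Fin 3, i = -i → i = 0 := by decide
theorem cA_pow_inj : ∀ i j : Fin 3, cA ^ (i : ℕ) = cA ^ (j : ℕ) → i = j := by decide +kernel
theorem cA_pow_ne : ∀ l : Fin 3, l ≠ 0 → cA ^ (l : ℕ) = cA ∨ cA ^ (l : ℕ) = cA⁻¹ := by decide +kernel

set_option maxRecDepth 8000 in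
theorem no_normal_three : ∀ τ : Perm (Fin 5), τ ^ 3 = 1 → τ ≠ 1 →
    ¬ ∀ π : Perm (Fin 5), π * τ * π⁻¹ = τ ∨ π * τ * π⁻¹ = τ⁻¹ := by decide +kernel

set_option maxRecDepth 8000 in
theorem three_cycle_conj : ∀ τ : Perm (Fin 5), τ ^ 3 = 1 → τ ≠ 1 →
    ∃ π : Perm (Fin 5), π * τ * π⁻¹ = cA := by decide +kernel

theorem perm3_conj_invert : ∀ σ : Perm (Fin 3), σ ^ 3 = 1 → swap 0 1 * σ * (swap 0 1)⁻¹ = σ⁻¹ := by
  decide

theorem perm3_norm : ∀ σ : Perm (Fin 3), σ ^ 3 = 1 → σ ≠ 1 → ∀ p : Perm (Fin 3),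
    ∃ i : Fin 3, p = σ ^ (i : ℕ) * (if Perm.sign p = 1 then 1 else swap 0 1) := by decide

theorem pow_three_fin : ∀ σ : Perm (Fin 3), σ ^ 3 = 1 → σ ≠ 1 → ∀ i : Fin 3,
    ∀ p : Perm (Fin 3), (p = 1 ∨ p = swap 0 1) → σ ^ (i : ℕ) * p = 1 → i = 0 := by decide

variable {G : Type*} [Group G] [Finite G]

/-- The parametrization of the normalizer of `⟨z⟩`. -/
theorem exists_param (z : G) (hz : z ^ 3 = 1) (hz1 : z ≠ 1)
    (eL : Subgroup.normalizer (Subgroup.zpowers z : Set G) ≃*
      (((Perm.sign).comp (MonoidHom.fst (Perm (Fin 3)) (Perm (Fin 5)))) *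
        ((Perm.sign).comp (MonoidHom.snd (Perm (Fin 3)) (Perm (Fin 5))))).ker) :
    ∃ Ω : Perm (Fin 5) →* G,
      (∀ π, Ω π * z * (Ω π)⁻¹ = if Perm.sign π = 1 then z else z⁻¹) ∧
      (∀ (i : Fin 3) (π : Perm (Fin 5)), z ^ (i : ℕ) * Ω π = 1 → i = 0 ∧ π = 1) ∧
      ∀ x : G, x * z * x⁻¹ = z ∨ x * z * x⁻¹ = z⁻¹ →
        ∃ (i : Fin 3) (π : Perm (Fin 5)), x = z ^ (i : ℕ) * Ω π := by
  set L := Subgroup.normalizer (Subgroup.zpowers z : Set G) with hL
  have hzL : z ∈ L := by
    refine Subgroup.le_normalizer (Subgroup.mem_zpowers z)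
  have hmem : ∀ w, w ∈ Subgroup.zpowers z → w = 1 ∨ w = z ∨ w = z⁻¹ := by
    intro w hw
    obtain ⟨k, rfl⟩ := Subgroup.mem_zpowers_iff.mp hw
    rw [show k = 3 * (k / 3) + k % 3 by omega, zpow_add, zpow_mul,
      show z ^ (3 : ℤ) = 1 by exact_mod_cast hz, one_zpow, one_mul]
    rcases (show k % 3 = 0 ∨ k % 3 = 1 ∨ k % 3 = 2 by omega) with e | e | e <;> rw [e]
    · exact Or.inl (zpow_zero z)
    · exact Or.inr (Or.inl (zpow_one z))
    · refine Or.inr (Or.inr (eq_inv_of_mul_eq_one_left ?_))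
      rw [show (2 : ℤ) = ((2 : ℕ) : ℤ) from rfl, zpow_natCast, ← pow_succ, hz]
  set zL : L := ⟨z, hzL⟩ with hzL'
  set σ := (eL zL).1.1 with hσ
  set τ := (eL zL).1.2 with hτ
  have h3 : (eL zL).1 ^ 3 = 1 := by
    rw [← SubgroupClass.coe_pow, ← map_pow]
    have : zL ^ 3 = 1 := Subtype.ext (by simpa using hz)
    rw [this, map_one]; rfl
  have hσ3 : σ ^ 3 = 1 := by simpa using congrArg Prod.fst h3
  have hτ3 : τ ^ 3 = 1 := by simpa using congrArg Prod.snd h3
  have hconj : ∀ l : L, l * zL * l⁻¹ = zL ∨ l * zL * l⁻¹ = zL⁻¹ := by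
    intro l
    have h1 := (Subgroup.mem_normalizer_iff.mp l.2 z).mp (Subgroup.mem_zpowers z)
    rcases hmem _ h1 with e | e | e
    · exact absurd (conj_eq_one_iff.mp e) hz1
    · exact Or.inl (Subtype.ext e)
    · exact Or.inr (Subtype.ext e)
  have hτ1 : τ = 1 := by
    by_contra hne
    refine no_normal_three τ hτ3 hne fun π => ?_
    have hq : (sgnS π, π) ∈ (((Perm.sign).comp (MonoidHom.fst (Perm (Fin 3)) (Perm (Fin 5)))) *
        ((Perm.sign).comp (MonoidHom.snd (Perm (Fin 3)) (Perm (Fin 5))))).ker := sign_sgnS π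
    rcases hconj (eL.symm ⟨_, hq⟩) with e | e
    · exact Or.inl (by simpa using congrArg (fun l => (eL l).1.2) e)
    · exact Or.inr (by simpa using congrArg (fun l => (eL l).1.2) e)
  have hσ1 : σ ≠ 1 := by
    intro e
    refine hz1 ?_
    have : eL zL = 1 := Subtype.ext (Prod.ext e hτ1)
    simpa [hzL'] using (map_eq_one_iff eL eL.injective).mp this
  let f : Perm (Fin 5) →* (((Perm.sign).comp (MonoidHom.fst (Perm (Fin 3)) (Perm (Fin 5)))) *
        ((Perm.sign).comp (MonoidHom.snd (Perm (Fin 3)) (Perm (Fin 5))))).ker :=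
    MonoidHom.mk' (fun π => ⟨(sgnS π, π), sign_sgnS π⟩) fun π ρ => Subtype.ext (Prod.ext (sgnS_mul π ρ) rfl)
  refine ⟨L.subtype.comp (eL.symm.toMonoidHom.comp f), fun π => ?_, fun i π h => ?_, fun x hx => ?_⟩
  · have key : f π * eL zL * (f π)⁻¹ = if Perm.sign π = 1 then eL zL else (eL zL)⁻¹ := by
      refine Subtype.ext (Prod.ext ?_ ?_)
      · show sgnS π * σ * (sgnS π)⁻¹ = _
        by_cases h : Perm.sign π = 1
        · simp [h, sgnS, ← hσ]
        · simp only [h, if_false, sgnS]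
          rw [perm3_conj_invert σ hσ3]; rfl
      · show π * τ * π⁻¹ = _
        rw [hτ1, mul_one, mul_inv_cancel]
        split_ifs <;> simp [← hτ, hτ1]
    have := congrArg (fun l => ((eL.symm l : L) : G)) key
    simp only [map_mul, map_inv, Subgroup.coe_mul, Subgroup.coe_inv, MulEquiv.symm_apply_apply] at this
    refine this.trans ?_
    split_ifs <;> simp [hzL']
  · have h' : zL ^ (i : ℕ) * eL.symm (f π) = 1 := Subtype.ext (by simpa [hzL'] using h)
    have h2 := congrArg (fun l => (eL l).1) h'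
    simp only [map_mul, map_pow, MulEquiv.apply_symm_apply, map_one, Subgroup.coe_mul,
      SubgroupClass.coe_pow, OneMemClass.coe_one] at h2
    have e2 : π = 1 := by
      have := congrArg Prod.snd h2
      simpa [f, ← hτ, hτ1] using this
    have e1 : σ ^ (i : ℕ) * sgnS π = 1 := by simpa [f, ← hσ] using congrArg Prod.fst h2
    refine ⟨pow_three_fin σ hσ3 hσ1 i _ ?_ e1, e2⟩
    simp only [sgnS]; split_ifs <;> simp
  · have hxL : x ∈ L := by
      rw [hL, Subgroup.mem_normalizer_iff]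
      intro w
      have key : ∀ y : G, (y * z * y⁻¹ = z ∨ y * z * y⁻¹ = z⁻¹) →
          ∀ v ∈ Subgroup.zpowers z, y * v * y⁻¹ ∈ Subgroup.zpowers z := by
        intro y hy v hv
        obtain ⟨k, rfl⟩ := Subgroup.mem_zpowers_iff.mp hv
        rw [← conj_zpow]
        rcases hy with e | e <;> rw [e]
        · exact zpow_mem (Subgroup.mem_zpowers z) k
        · exact zpow_mem (inv_mem (Subgroup.mem_zpowers z)) k
      constructor
      · exact key x hx w
      · intro hw
        have hx' : x⁻¹ * z * x⁻¹⁻¹ = z ∨ x⁻¹ * z * x⁻¹⁻¹ = z⁻¹ := by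
          rcases hx with e | e
          · left; conv_lhs => rw [← e]
            group
          · right; rw [eq_comm, inv_eq_iff_eq_inv] at e
            conv_lhs => rw [e]
            group
        have := key x⁻¹ hx' _ hw
        group at this
        simpa using this
    obtain ⟨i, hi⟩ := perm3_norm σ hσ3 hσ1 (eL ⟨x, hxL⟩).1.1
    refine ⟨i, (eL ⟨x, hxL⟩).1.2, ?_⟩
    have hs : sgnS (eL ⟨x, hxL⟩).1.2 = if Perm.sign (eL ⟨x, hxL⟩).1.1 = 1 then 1 else swap 0 1 := by
      have := (eL ⟨x, hxL⟩).2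
      rw [MonoidHom.mem_ker] at this
      simp only [MonoidHom.mul_apply, MonoidHom.coe_comp, Function.comp_apply, MonoidHom.coe_fst,
        MonoidHom.coe_snd] at this
      simp only [sgnS]
      rcases Int.units_eq_one_or (Perm.sign (eL ⟨x, hxL⟩).1.2) with e | e <;>
        rw [e] at this ⊢ <;>
        rcases Int.units_eq_one_or (Perm.sign (eL ⟨x, hxL⟩).1.1) with e' | e' <;>
        rw [e'] at this ⊢ <;> simp at this ⊢
    have : (⟨x, hxL⟩ : L) = zL ^ (i : ℕ) * eL.symm (f (eL ⟨x, hxL⟩).1.2) := by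
      apply eL.injective
      rw [map_mul, map_pow, MulEquiv.apply_symm_apply]
      refine Subtype.ext (Prod.ext ?_ ?_)
      · simp only [Subgroup.coe_mul, SubgroupClass.coe_pow, Prod.fst_mul, Prod.pow_fst, ← hσ]
        show _ = σ ^ (i : ℕ) * sgnS _
        rw [hs]; exact hi
      · simp only [Subgroup.coe_mul, SubgroupClass.coe_pow, Prod.snd_mul, Prod.pow_snd, ← hτ, hτ1,
          one_pow, one_mul]
        rfl
    simpa [hzL'] using congrArg Subtype.val this


set_option maxRecDepth 8000 in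
theorem norm_cA : ∀ π : Perm (Fin 5), π * cA * π⁻¹ = cA ∨ π * cA * π⁻¹ = cA⁻¹ →
    (π * cA * π⁻¹ = cA ∧ (Perm.sign π = 1 → π = 1 ∨ π = cA ∨ π = cA⁻¹)) ∨
    (π * cA * π⁻¹ = cA⁻¹ ∧ (Perm.sign π = 1 ∨ Perm.sign π ≠ 1)) := by decide +kernel

set_option maxRecDepth 8000 in
theorem card_norm_cA : (Finset.univ.filter fun π : Perm (Fin 5) =>
    π * cA * π⁻¹ = cA ∨ π * cA * π⁻¹ = cA⁻¹).card = 12 := by decide +kernel

/-- The local data, from the hypotheses of the recognition. -/
theorem exists_setup (P : Sylow 3 G) (D : Subgroup G) (hDP : D = P) (y z : G)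
    (hgen : Subgroup.closure {y, z} = D) (hcard : Nat.card D = 9) (hexp : ∀ a ∈ D, a ^ 3 = 1)
    (hC : Subgroup.centralizer (D : Set G) = D) (hcomm : IsMulCommutative D)
    (hNcard : Nat.card ↥(Subgroup.normalizer (D : Set G)) = 72)
    (hycard : Nat.card (Subgroup.centralizer ({y} : Set G)) = 18)
    (eC : Subgroup.centralizer ({z} : Set G) ≃* Multiplicative (ZMod 3) × alternatingGroup (Fin 5))
    (eL : Subgroup.normalizer (Subgroup.zpowers z : Set G) ≃*
      (((Perm.sign).comp (MonoidHom.fst (Perm (Fin 3)) (Perm (Fin 5)))) *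
        ((Perm.sign).comp (MonoidHom.snd (Perm (Fin 3)) (Perm (Fin 5))))).ker) :
    Nonempty (Setup G) := by
  classical
  have hzD : z ∈ D := hgen ▸ Subgroup.subset_closure (by simp)
  have hyD : y ∈ D := hgen ▸ Subgroup.subset_closure (by simp)
  have hcD : ∀ p ∈ D, ∀ q ∈ D, p * q = q * p := fun p hp q hq =>
    congrArg Subtype.val (mul_comm' (⟨p, hp⟩ : D) ⟨q, hq⟩)
  have hz := hexp z hzD
  have hC180 : Nat.card (Subgroup.centralizer ({z} : Set G)) = 180 := by
    rw [Nat.card_congr eC.toEquiv, Nat.card_prod, nat_card_alternatingGroup, Nat.card_fin]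
    simp [Nat.factorial]
  have hz1 : z ≠ 1 := by
    rintro rfl
    have hle : Nat.card G = 180 := by
      rw [← hC180, show Subgroup.centralizer ({(1 : G)} : Set G) = ⊤ from eq_top_iff.mpr fun x _ =>
        Subgroup.mem_centralizer_singleton_iff.mpr ((mul_one x).trans (one_mul x).symm),
        Subgroup.card_top]
    have hD : D = Subgroup.zpowers y := by
      rw [← hgen, Subgroup.zpowers_eq_closure]
      refine le_antisymm ((Subgroup.closure_le _).mpr ?_) (Subgroup.closure_mono (by simp))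
      rintro w (rfl | rfl)
      · exact Subgroup.subset_closure rfl
      · exact one_mem _
    rw [hD, Nat.card_zpowers] at hcard
    have := Nat.le_of_dvd (by norm_num) (orderOf_dvd_of_pow_eq_one (hexp y hyD))
    omega
  obtain ⟨Ω₀, hconj₀, huniq₀, hnorm₀⟩ := exists_param z hz hz1 eL
  -- the part of `D` in the alternating group
  obtain ⟨d, hd, hdz⟩ : ∃ d ∈ D, d ∉ Subgroup.zpowers z := by
    by_contra hall
    push Not at hall
    have := Nat.le_of_dvd (by rw [Nat.card_zpowers]; exact orderOf_pos z)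
      (Subgroup.card_dvd_of_le hall)
    rw [hcard, Nat.card_zpowers] at this
    have := Nat.le_of_dvd (by norm_num) (orderOf_dvd_of_pow_eq_one hz)
    omega
  obtain ⟨i, τ, hdτ⟩ := hnorm₀ d (Or.inl (by rw [hcD d hd z hzD, mul_inv_cancel_right]))
  have hΩτ : Ω₀ τ ∈ D := by
    have : Ω₀ τ = (z ^ (i : ℕ))⁻¹ * d := by rw [hdτ, inv_mul_cancel_left]
    rw [this]; exact mul_mem (inv_mem (pow_mem hzD _)) hd
  have hτ1 : τ ≠ 1 := by
    rintro rfl
    exact hdz (by rw [hdτ, map_one, mul_one]; exact pow_mem (Subgroup.mem_zpowers z) _)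
  have hτ3 : τ ^ 3 = 1 := (huniq₀ 0 (τ ^ 3) (by simp [map_pow, hexp _ hΩτ])).2
  obtain ⟨π₀, hπ₀⟩ := three_cycle_conj τ hτ3 hτ1
  set Ω : Perm (Fin 5) →* G := Ω₀.comp (MulAut.conj π₀⁻¹).toMonoidHom with hΩdef
  have hΩap : ∀ π, Ω π = Ω₀ (π₀⁻¹ * π * π₀) := fun π => by simp [hΩdef]
  have hconj : ∀ π, Ω π * z * (Ω π)⁻¹ = if Perm.sign π = 1 then z else z⁻¹ := fun π => by
    rw [hΩap, hconj₀]
    have : Perm.sign (π₀⁻¹ * π * π₀) = Perm.sign π := by
      rw [Perm.sign_mul, Perm.sign_mul, Perm.sign_inv, mul_comm, ← mul_assoc, Int.units_mul_self, one_mul]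
    rw [this]
  have huniq : ∀ (i : Fin 3) (π : Perm (Fin 5)), z ^ (i : ℕ) * Ω π = 1 → i = 0 ∧ π = 1 := by
    intro i π h
    rw [hΩap] at h
    obtain ⟨h1, h2⟩ := huniq₀ i _ h
    refine ⟨h1, ?_⟩
    rw [mul_assoc, inv_mul_eq_one] at h2
    exact mul_eq_right.mp h2.symm
  have hnorm : ∀ x : G, x * z * x⁻¹ = z ∨ x * z * x⁻¹ = z⁻¹ →
      ∃ (i : Fin 3) (π : Perm (Fin 5)), x = z ^ (i : ℕ) * Ω π := by
    intro x hx
    obtain ⟨i, π, e⟩ := hnorm₀ x hx
    exact ⟨i, π₀ * π * π₀⁻¹, by rw [hΩap, e]; group⟩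
  set a := Ω cA with ha
  have haD : a ∈ D := by
    have : a = Ω₀ τ := by rw [ha, hΩap, ← hπ₀]; group
    exact this ▸ hΩτ
  have ha3 : a ^ 3 = 1 := hexp a haD
  have hza : z * a = a * z := hcD z hzD a haD
  -- the elements of `D`
  have hinj : ∀ i j i' j' : Fin 3, z ^ (i : ℕ) * a ^ (j : ℕ) = z ^ (i' : ℕ) * a ^ (j' : ℕ) →
      i = i' ∧ j = j' := by
    intro i j i' j' h
    rw [ha, ← map_pow, ← map_pow] at h
    have h2 : z ^ ((i + (2 * i') : Fin 3) : ℕ) * Ω (cA ^ (j : ℕ) * (cA ^ (j' : ℕ))⁻¹) = 1 := by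
      rw [map_mul, map_inv, ← mul_assoc]
      have e3 : z ^ ((i + (2 * i') : Fin 3) : ℕ) = (z ^ (i' : ℕ))⁻¹ * z ^ (i : ℕ) := by
        refine eq_inv_mul_of_mul_eq ?_
        rw [← pow_add, pow_eq_pow_mod _ hz]
        congr 1
        exact fin3_sub i i'
      rw [e3, mul_assoc ((z ^ (i' : ℕ))⁻¹), h, inv_mul_cancel_left, mul_inv_cancel]
    obtain ⟨h3, h4⟩ := huniq _ _ h2
    constructor
    · exact fin3_eq i i' h3
    · rw [mul_inv_eq_one] at h4
      exact cA_pow_inj j j' h4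
  have hDset : ∀ x ∈ D, ∃ i j : Fin 3, x = z ^ (i : ℕ) * a ^ (j : ℕ) := by
    let F : Fin 3 × Fin 3 → D := fun p =>
      ⟨z ^ (p.1 : ℕ) * a ^ (p.2 : ℕ), mul_mem (pow_mem hzD _) (pow_mem haD _)⟩
    have hF : Function.Injective F := fun p q h =>
      Prod.ext (hinj _ _ _ _ (congrArg Subtype.val h)).1 (hinj _ _ _ _ (congrArg Subtype.val h)).2
    have hb := (Nat.bijective_iff_injective_and_card F).mpr ⟨hF, by simp [hcard]⟩
    intro x hx
    obtain ⟨p, hp⟩ := hb.2 ⟨x, hx⟩
    exact ⟨p.1, p.2, (congrArg Subtype.val hp).symm⟩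
  -- a reflection and its action on `D`
  set r := Ω (swap 3 4) with hr
  have hrz : r * z * r⁻¹ = z⁻¹ := (hconj _).trans (if_neg (by decide))
  have hra : r * a * r⁻¹ = a := by
    rw [hr, ha, ← map_inv, ← map_mul, ← map_mul]; congr 1; decide +kernel
  have hrD : ∀ (i j : Fin 3), r * (z ^ (i : ℕ) * a ^ (j : ℕ)) * r⁻¹ = z ^ ((-i : Fin 3) : ℕ) * a ^ (j : ℕ) := by
    intro i j
    have e : r * (z ^ (i : ℕ) * a ^ (j : ℕ)) * r⁻¹ = (r * z * r⁻¹) ^ (i : ℕ) * (r * a * r⁻¹) ^ (j : ℕ) := by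
      rw [conj_pow, conj_pow]; group
    rw [e, hrz, hra]
    congr 1
    rw [inv_pow]
    refine inv_eq_of_mul_eq_one_right ?_
    rw [← pow_add, pow_eq_pow_mod _ hz]
    rw [fin3_neg, pow_zero]
  -- the normalizer of `D` and its subgroup fixing the line of `z`
  set N := Subgroup.normalizer (D : Set G) with hN
  set Nz := N ⊓ Subgroup.normalizer (Subgroup.zpowers z : Set G) with hNz
  have hline : ∀ x : G, x ∈ Subgroup.normalizer (Subgroup.zpowers z : Set G) ↔
      x * z * x⁻¹ = z ∨ x * z * x⁻¹ = z⁻¹ := by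
    intro x
    constructor
    · intro hx
      obtain ⟨k, hk⟩ := Subgroup.mem_zpowers_iff.mp
        ((Subgroup.mem_normalizer_iff.mp hx z).mp (Subgroup.mem_zpowers z))
      rw [← hk]
      rw [show k = 3 * (k / 3) + k % 3 by omega, zpow_add, zpow_mul,
        show z ^ (3 : ℤ) = 1 by exact_mod_cast hz, one_zpow, one_mul] at hk ⊢
      rcases (show k % 3 = 0 ∨ k % 3 = 1 ∨ k % 3 = 2 by omega) with e | e | e <;> rw [e] at hk ⊢
      · rw [zpow_zero, eq_comm, conj_eq_one_iff] at hk; exact absurd hk hz1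
      · exact Or.inl (zpow_one z)
      · refine Or.inr (eq_inv_of_mul_eq_one_left ?_)
        rw [show (2 : ℤ) = ((2 : ℕ) : ℤ) from rfl, zpow_natCast, ← pow_succ, hz]
    · intro hx
      rw [Subgroup.mem_normalizer_iff_map_conj_eq]
      rw [MonoidHom.map_zpowers]
      show Subgroup.zpowers (x * z * x⁻¹) = _
      rcases hx with e | e <;> rw [e]
      exact Subgroup.zpowers_inv
  have hNzcard : Nat.card Nz = 36 := by
    let S := {p : Fin 3 × Perm (Fin 5) // p.2 * cA * p.2⁻¹ = cA ∨ p.2 * cA * p.2⁻¹ = cA⁻¹}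
    have hmemN : ∀ p : Fin 3 × Perm (Fin 5), (p.2 * cA * p.2⁻¹ = cA ∨ p.2 * cA * p.2⁻¹ = cA⁻¹) →
        z ^ (p.1 : ℕ) * Ω p.2 ∈ Nz := by
      intro p hp
      refine ⟨mul_mem (pow_mem (Subgroup.le_normalizer hzD) _) ?_, mul_mem (pow_mem
        (Subgroup.le_normalizer (Subgroup.mem_zpowers z)) _) ((hline _).mpr ?_)⟩
      · show Ω p.2 ∈ N
        rw [hN, Subgroup.mem_normalizer_iff_map_conj_eq]
        refine Subgroup.eq_of_le_of_card_ge ?_ (le_of_eq
          (Subgroup.card_map_of_injective (MulAut.conj (Ω p.2)).injective).symm)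
        rintro _ ⟨x, hx, rfl⟩
        obtain ⟨i, j, rfl⟩ := hDset x hx
        show Ω p.2 * (z ^ (i : ℕ) * a ^ (j : ℕ)) * (Ω p.2)⁻¹ ∈ D
        rw [show Ω p.2 * (z ^ (i : ℕ) * a ^ (j : ℕ)) * (Ω p.2)⁻¹ = (Ω p.2 * z * (Ω p.2)⁻¹) ^ (i : ℕ) *
          (Ω p.2 * a * (Ω p.2)⁻¹) ^ (j : ℕ) by rw [conj_pow, conj_pow]; group, hconj]
        refine mul_mem (pow_mem (by split_ifs <;> simp [hzD]) _) (pow_mem ?_ _)
        rw [ha, ← map_inv, ← map_mul, ← map_mul]
        rcases hp with e | e <;> rw [e]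
        · exact haD
        · rw [map_inv]; exact inv_mem haD
      · rw [hconj]; split_ifs <;> simp
    let F : S → Nz := fun p => ⟨z ^ (p.1.1 : ℕ) * Ω p.1.2, hmemN p.1 p.2⟩
    have hF : Function.Bijective F := by
      constructor
      · rintro ⟨⟨i, π⟩, hp⟩ ⟨⟨i', π'⟩, hp'⟩ h
        have h1 : z ^ (i : ℕ) * Ω π = z ^ (i' : ℕ) * Ω π' := congrArg Subtype.val h
        have h2 : z ^ ((i + 2 * i' : Fin 3) : ℕ) * Ω (π * π'⁻¹) = 1 := by
          rw [map_mul, map_inv, ← mul_assoc]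
          have e3 : z ^ ((i + (2 * i') : Fin 3) : ℕ) = (z ^ (i' : ℕ))⁻¹ * z ^ (i : ℕ) := by
            refine eq_inv_mul_of_mul_eq ?_
            rw [← pow_add, pow_eq_pow_mod _ hz]
            congr 1
            exact fin3_sub i i'
          rw [e3, mul_assoc ((z ^ (i' : ℕ))⁻¹), h1, inv_mul_cancel_left, mul_inv_cancel]
        obtain ⟨h3, h4⟩ := huniq _ _ h2
        have : i = i' := fin3_eq i i' h3
        simp [this, mul_inv_eq_one.mp h4]
      · rintro ⟨x, hx⟩
        obtain ⟨i, π, rfl⟩ := hnorm x ((hline x).mp hx.2)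
        refine ⟨⟨(i, π), ?_⟩, rfl⟩
        have hπ : Ω π ∈ N := (mul_mem_cancel_left (pow_mem (Subgroup.le_normalizer hzD) _)).mp hx.1
        have h1 := (Subgroup.mem_normalizer_iff.mp hπ a).mp haD
        obtain ⟨k, l, hkl⟩ := hDset _ h1
        rw [ha, ← map_pow, ← map_inv, ← map_mul, ← map_mul] at hkl
        have h2 : z ^ (k : ℕ) * Ω (cA ^ (l : ℕ) * (π * cA * π⁻¹)⁻¹) = 1 := by
          rw [map_mul, map_inv, ← mul_assoc, ← hkl, mul_inv_cancel]
        have e := mul_inv_eq_one.mp (huniq _ _ h2).2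
        show π * cA * π⁻¹ = cA ∨ π * cA * π⁻¹ = cA⁻¹
        rw [← e]
        have hl : l ≠ 0 := by
          rintro rfl
          rw [Fin.val_zero, pow_zero, eq_comm, conj_eq_one_iff] at e
          exact absurd e (by decide)
        exact cA_pow_ne l hl
    rw [← Nat.card_congr (Equiv.ofBijective F hF), Nat.card_eq_fintype_card, Fintype.card_subtype]
    have : (Finset.univ.filter fun p : Fin 3 × Perm (Fin 5) => p.2 * cA * p.2⁻¹ = cA ∨ p.2 * cA * p.2⁻¹ = cA⁻¹) =
        (Finset.univ : Finset (Fin 3)) ×ˢ (Finset.univ.filter fun π : Perm (Fin 5) => π * cA * π⁻¹ = cA ∨ π * cA * π⁻¹ = cA⁻¹) := by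
      ext p; simp
    rw [this, Finset.card_product, card_norm_cA]
    rfl
  have hidx : (Nz.subgroupOf N).index = 2 := by
    have h := Subgroup.card_mul_index (Nz.subgroupOf N)
    rw [Nat.card_congr (Subgroup.subgroupOfEquivOfLe (inf_le_left : Nz ≤ N)).toEquiv, hNzcard,
      hNcard] at h
    omega
  haveI := Subgroup.normal_of_index_eq_two hidx
  -- an element outside maps `z` into the line of `a`
  obtain ⟨n, hnN, hnz⟩ : ∃ n ∈ N, n ∉ Nz := by
    by_contra hall
    push Not at hall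
    have := Nat.card_le_card_of_injective (Subgroup.inclusion (show N ≤ Nz from hall))
      (Subgroup.inclusion_injective _)
    omega
  have hrN : r ∈ Nz := by
    refine ⟨?_, (hline r).mpr (Or.inr hrz)⟩
    show r ∈ N
    rw [hN, Subgroup.mem_normalizer_iff_map_conj_eq]
    refine Subgroup.eq_of_le_of_card_ge ?_ (le_of_eq
      (Subgroup.card_map_of_injective (MulAut.conj r).injective).symm)
    rintro _ ⟨x, hx, rfl⟩
    obtain ⟨i, j, rfl⟩ := hDset x hx
    show r * _ * r⁻¹ ∈ D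
    rw [hrD]; exact mul_mem (pow_mem hzD _) (pow_mem haD _)
  obtain ⟨i₁, j₁, hn1⟩ := hDset _ ((Subgroup.mem_normalizer_iff.mp hnN z).mp hzD)
  have hconjline : n⁻¹ * r * n ∈ Subgroup.normalizer (Subgroup.zpowers z : Set G) := by
    have := Subgroup.Normal.conj_mem inferInstance (⟨r, hrN.1⟩ : N)
      (Subgroup.mem_subgroupOf.mpr hrN) (⟨n, hnN⟩⁻¹ : N)
    simpa using (Subgroup.mem_subgroupOf.mp this).2
  have hfix : r * (n * z * n⁻¹) * r⁻¹ = n * z * n⁻¹ ∨ r * (n * z * n⁻¹) * r⁻¹ = (n * z * n⁻¹)⁻¹ := by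
    rcases (hline _).mp hconjline with e | e
    · left
      calc r * (n * z * n⁻¹) * r⁻¹ = n * ((n⁻¹ * r * n) * z * (n⁻¹ * r * n)⁻¹) * n⁻¹ := by group
        _ = _ := by rw [e]
    · right
      calc r * (n * z * n⁻¹) * r⁻¹ = n * ((n⁻¹ * r * n) * z * (n⁻¹ * r * n)⁻¹) * n⁻¹ := by group
        _ = _ := by rw [e]; group
  have hinvD : ∀ i j : Fin 3, (z ^ (i : ℕ) * a ^ (j : ℕ))⁻¹ =
      z ^ ((-i : Fin 3) : ℕ) * a ^ ((-j : Fin 3) : ℕ) := by
    intro i j
    refine inv_eq_of_mul_eq_one_right ?_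
    have hc : Commute z a := hza
    rw [(hc.pow_pow ((-i : Fin 3) : ℕ) (j : ℕ)).symm.mul_mul_mul_comm, ← pow_add, ← pow_add,
      pow_eq_pow_mod _ hz, pow_eq_pow_mod _ ha3]
    rw [fin3_neg, fin3_neg, pow_zero, pow_zero, one_mul]
  have hcase : i₁ = 0 ∨ j₁ = 0 := by
    rw [hn1, hrD] at hfix
    rcases hfix with e | e
    · exact Or.inl (fin3_neg_self _ (hinj _ _ _ _ e).1)
    · right; rw [hinvD] at e
      exact fin3_self_neg _ (hinj _ _ _ _ e).2
  have hj₁ : i₁ = 0 := by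
    refine hcase.resolve_right fun hj => hnz ⟨hnN, (hline n).mpr ?_⟩
    rw [hn1, hj, Fin.val_zero, pow_zero, mul_one]
    have hi : i₁ ≠ 0 := by
      rintro rfl
      rw [hj, Fin.val_zero, pow_zero, pow_zero, one_mul, conj_eq_one_iff] at hn1
      exact hz1 hn1
    rcases fin3_ne i₁ hi with rfl | rfl
    · exact Or.inl (pow_one z)
    · refine Or.inr (eq_inv_of_mul_eq_one_left ?_)
      show z ^ 2 * z = 1
      rw [← pow_succ, hz]
  subst hj₁
  rw [Fin.val_zero, pow_zero, one_mul] at hn1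
  have hcC : ∀ x w : G, Nat.card (Subgroup.centralizer ({x * w * x⁻¹} : Set G)) =
      Nat.card (Subgroup.centralizer ({w} : Set G)) := by
    intro x w
    have : Subgroup.centralizer ({x * w * x⁻¹} : Set G) =
        (Subgroup.centralizer ({w} : Set G)).map (MulAut.conj x).toMonoidHom := by
      ext v
      rw [Subgroup.mem_centralizer_singleton_iff]
      constructor
      · intro hv
        refine ⟨x⁻¹ * v * x, Subgroup.mem_centralizer_singleton_iff.mpr ?_, by simp; group⟩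
        calc x⁻¹ * v * x * w = x⁻¹ * (v * (x * w * x⁻¹)) * x := by group
          _ = _ := by rw [hv]; group
      · rintro ⟨u, hu, rfl⟩
        show x * u * x⁻¹ * (x * w * x⁻¹) = x * w * x⁻¹ * (x * u * x⁻¹)
        calc x * u * x⁻¹ * (x * w * x⁻¹) = x * (u * w) * x⁻¹ := by group
          _ = x * (w * u) * x⁻¹ := by rw [Subgroup.mem_centralizer_singleton_iff.mp hu]
          _ = _ := by group
    rw [this, Subgroup.card_map_of_injective (MulAut.conj x).injective]
  have hCinv : ∀ w : G, Subgroup.centralizer ({w⁻¹} : Set G) = Subgroup.centralizer ({w} : Set G) := by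
    intro w; ext v
    simp only [Subgroup.mem_centralizer_singleton_iff]
    exact ⟨fun h => (Commute.inv_right_iff.mp (show Commute v w⁻¹ from h)).eq,
      fun h => (Commute.inv_right (show Commute v w from h)).eq⟩
  have hCa : Nat.card (Subgroup.centralizer ({a} : Set G)) = 180 := by
    have h1 := hcC n z
    rw [hn1, hC180] at h1
    have hj : j₁ = 1 ∨ j₁ = 2 := by
      have : j₁ ≠ 0 := by
        rintro rfl
        rw [Fin.val_zero, pow_zero, conj_eq_one_iff] at hn1
        exact hz1 hn1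
      exact fin3_ne j₁ this
    rcases hj with rfl | rfl
    · simpa using h1
    · rw [show a ^ ((2 : Fin 3) : ℕ) = a⁻¹ from eq_inv_of_mul_eq_one_left
        (by show a ^ 2 * a = 1; rw [← pow_succ, ha3]), hCinv] at h1
      exact h1
  -- `y` lies on a diagonal
  have hCza : Nat.card (Subgroup.centralizer ({z * a} : Set G)) = 18 := by
    obtain ⟨i, j, hy⟩ := hDset y hyD
    have hij : i ≠ 0 ∧ j ≠ 0 := by
      constructor <;> rintro rfl <;> rw [Fin.val_zero, pow_zero] at hy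
      · rw [one_mul] at hy
        rcases fin3_cases j with rfl | rfl | rfl
        · rw [hy, Fin.val_zero, pow_zero, ← Subgroup.centralizer_closure,
            show Subgroup.closure ({1} : Set G) = ⊥ by rw [Subgroup.closure_singleton_one]] at hycard
          have : (Subgroup.centralizer ((⊥ : Subgroup G) : Set G)) = ⊤ := eq_top_iff.mpr fun x _ =>
            Subgroup.mem_centralizer_iff.mpr fun v hv => by
              rw [Subgroup.coe_bot, Set.mem_singleton_iff] at hv; rw [hv, one_mul, mul_one]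
          rw [this, Subgroup.card_top] at hycard
          have := Subgroup.card_le_card_group (Subgroup.centralizer ({a} : Set G))
          omega
        · rw [hy, show ((1 : Fin 3) : ℕ) = 1 from rfl, pow_one, hCa] at hycard; omega
        · rw [hy, show a ^ ((2 : Fin 3) : ℕ) = a⁻¹ from eq_inv_of_mul_eq_one_left
            (by show a ^ 2 * a = 1; rw [← pow_succ, ha3]), hCinv, hCa] at hycard
          omega
      · rw [mul_one] at hy
        rcases fin3_cases i with rfl | rfl | rfl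
        · rw [Fin.val_zero, pow_zero] at hy
          rw [hy] at hycard
          have := Subgroup.card_le_card_group (Subgroup.centralizer ({a} : Set G))
          rw [show Subgroup.centralizer ({(1 : G)} : Set G) = ⊤ from eq_top_iff.mpr fun x _ =>
            Subgroup.mem_centralizer_singleton_iff.mpr ((mul_one x).trans (one_mul x).symm),
            Subgroup.card_top] at hycard
          omega
        · rw [hy, show ((1 : Fin 3) : ℕ) = 1 from rfl, pow_one, hC180] at hycard; omega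
        · rw [hy, show z ^ ((2 : Fin 3) : ℕ) = z⁻¹ from eq_inv_of_mul_eq_one_left
            (by show z ^ 2 * z = 1; rw [← pow_succ, hz]), hCinv, hC180] at hycard
          omega
    have hy' : y = z * a ∨ y = (z * a)⁻¹ ∨ y = r * (z * a) * r⁻¹ ∨ y = (r * (z * a) * r⁻¹)⁻¹ := by
      have e1 := hinvD 1 1
      have e2 := hrD 1 1
      have e3 := hinvD (-1) 1
      simp only [show ((1 : Fin 3) : ℕ) = 1 from rfl, pow_one] at e1 e2 e3
      rw [e1, e2, e3]
      have key : ∀ (i j : Fin 3), i ≠ 0 → j ≠ 0 → (i = 1 ∧ j = 1) ∨ (i = -1 ∧ j = -1) ∨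
          (i = -1 ∧ j = 1) ∨ (i = - -1 ∧ j = -1) := by decide
      rcases key i j hij.1 hij.2 with ⟨rfl, rfl⟩ | ⟨rfl, rfl⟩ | ⟨rfl, rfl⟩ | ⟨rfl, rfl⟩
      · left; simpa using hy
      · exact Or.inr (Or.inl hy)
      · exact Or.inr (Or.inr (Or.inl (by simpa using hy)))
      · exact Or.inr (Or.inr (Or.inr hy))
    rcases hy' with e | e | e | e <;> rw [e] at hycard
    · exact hycard
    · rwa [hCinv] at hycard
    · rwa [hcC] at hycard
    · rwa [hCinv, hcC] at hycard
  set Cy := Subgroup.centralizer ({z * a} : Set G) with hCy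
  have hDC : D ≤ Cy := fun x hx =>
    Subgroup.mem_centralizer_singleton_iff.mpr (hcD x hx _ (mul_mem hzD haD))
  have hDidx : (D.subgroupOf Cy).index = 2 := by
    have h := Subgroup.card_mul_index (D.subgroupOf Cy)
    rw [Nat.card_congr (Subgroup.subgroupOfEquivOfLe hDC).toEquiv, hcard, hCza] at h
    omega
  haveI := Subgroup.normal_of_index_eq_two hDidx
  haveI : Fact (Nat.Prime 2) := ⟨Nat.prime_two⟩
  obtain ⟨g₀, hg₀⟩ := exists_prime_orderOf_dvd_card' (G := Cy) 2 (by rw [hCza]; norm_num)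
  set g : G := (g₀ : G) with hgdef
  have hg2 : orderOf g = 2 := by rw [hgdef, Subgroup.orderOf_coe]; exact hg₀
  have hgg : g * g = 1 := CfsgLib.Invol.mul_self_of_orderOf_two hg2
  have hgi : g⁻¹ = g := inv_eq_of_mul_eq_one_left hgg
  have hgD : g ∉ D := fun h => by
    have := orderOf_dvd_of_pow_eq_one (hexp g h)
    rw [hg2] at this
    norm_num at this
  have hgN : g ∈ N := by
    rw [hN, Subgroup.mem_normalizer_iff_map_conj_eq]
    refine Subgroup.eq_of_le_of_card_ge ?_ (le_of_eq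
      (Subgroup.card_map_of_injective (MulAut.conj g).injective).symm)
    rintro _ ⟨x, hx, rfl⟩
    have := Subgroup.Normal.conj_mem inferInstance (⟨x, hDC hx⟩ : Cy)
      (Subgroup.mem_subgroupOf.mpr hx) g₀
    exact Subgroup.mem_subgroupOf.mp this
  have hgza : g * (z * a) = z * a * g := Subgroup.mem_centralizer_singleton_iff.mp g₀.2
  obtain ⟨k, l, hgk⟩ := hDset _ ((Subgroup.mem_normalizer_iff.mp hgN z).mp hzD)
  have hga : g * a * g⁻¹ = z ^ ((1 - k : Fin 3) : ℕ) * a ^ ((1 - l : Fin 3) : ℕ) := by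
    have h1 : g * z * g⁻¹ * (g * a * g⁻¹) = z * a := by
      rw [show g * z * g⁻¹ * (g * a * g⁻¹) = g * (z * a) * g⁻¹ by group, hgza, mul_inv_cancel_right]
    rw [hgk] at h1
    refine mul_left_cancel (h1.trans ?_)
    have hc : Commute z a := hza
    rw [(hc.pow_pow ((1 - k : Fin 3) : ℕ) (l : ℕ)).symm.mul_mul_mul_comm, ← pow_add, ← pow_add,
      pow_eq_pow_mod _ hz, pow_eq_pow_mod _ ha3,
      fin3_one_sub, fin3_one_sub, pow_one, pow_one]
  have hgz : g * z * g = a := by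
    have hmov : g ∉ Nz := by
      intro h
      rcases (hline g).mp h.2 with e | e
      · refine hgD ?_
        rw [← hC]
        refine Subgroup.mem_centralizer_iff.mpr fun x hx => ?_
        obtain ⟨i, j, rfl⟩ := hDset x hx
        have c1 : Commute g z := mul_inv_eq_iff_eq_mul.mp e
        have c2 : Commute g a := by
          have c3 : Commute g (z * a) := hgza
          have := c1.inv_right.mul_right c3
          rwa [inv_mul_cancel_left] at this
        exact ((c1.pow_right _).mul_right (c2.pow_right _)).eq.symm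
      · have h1 : g * a * g⁻¹ = z ^ ((2 : Fin 3) : ℕ) * a := by
          have h6 : g * z * g⁻¹ * (g * a * g⁻¹) = z * a := by
            rw [show g * z * g⁻¹ * (g * a * g⁻¹) = g * (z * a) * g⁻¹ by group, hgza,
              mul_inv_cancel_right]
          rw [e] at h6
          refine (inv_mul_eq_iff_eq_mul.mp h6).trans ?_
          rw [← mul_assoc, ← pow_two]
          rfl
        obtain ⟨i, π, hπ⟩ := hnorm g ((hline g).mp h.2)
        have hcom : Commute (z ^ (i : ℕ)) (Ω (π * cA * π⁻¹)) := by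
          refine Commute.pow_left (mul_inv_eq_iff_eq_mul.mp ?_).symm _
          rw [hconj, if_pos]
          rw [Perm.sign_mul, Perm.sign_mul, Perm.sign_inv, show Perm.sign cA = 1 by decide, mul_one,
            Int.units_mul_self]
        have h2 : g * a * g⁻¹ = Ω (π * cA * π⁻¹) := by
          rw [hπ, ha, show z ^ (i : ℕ) * Ω π * Ω cA * (z ^ (i : ℕ) * Ω π)⁻¹ =
            z ^ (i : ℕ) * (Ω π * Ω cA * (Ω π)⁻¹) * (z ^ (i : ℕ))⁻¹ by group, ← map_inv, ← map_mul,
            ← map_mul, hcom.eq, mul_inv_cancel_right]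
        rw [h2] at h1
        have h3 : z ^ ((2 : Fin 3) : ℕ) * Ω (cA * (π * cA * π⁻¹)⁻¹) = 1 := by
          rw [map_mul, map_inv, ← mul_assoc, ← ha, ← h1, mul_inv_cancel]
        exact absurd (huniq _ _ h3).1 (by decide)
    have hn' : n⁻¹ * g ∈ Nz := by
      have := (Subgroup.mul_mem_iff_of_index_two hidx (a := (⟨n, hnN⟩⁻¹ : N)) (b := ⟨g, hgN⟩)).mpr
        (by simp only [Subgroup.mem_subgroupOf, Subgroup.coe_inv, inv_mem_iff]
            exact iff_of_false hnz hmov)
      simpa using Subgroup.mem_subgroupOf.mp this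
    have hk0 : k = 0 := by
      have h1 : g * z * g⁻¹ = n * ((n⁻¹ * g) * z * (n⁻¹ * g)⁻¹) * n⁻¹ := by group
      rw [hgk] at h1
      rcases (hline _).mp hn'.2 with e | e <;> rw [e] at h1
      · rw [hn1] at h1
        exact (hinj k l 0 j₁ (by rw [h1, Fin.val_zero, pow_zero, one_mul])).1
      · rw [show n * z⁻¹ * n⁻¹ = (n * z * n⁻¹)⁻¹ by group, hn1] at h1
        exact (hinj k l 0 (-j₁) (by rw [h1]; simpa using hinvD 0 j₁)).1
    subst hk0
    rw [Fin.val_zero, pow_zero, one_mul] at hgk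
    have hl : l = 1 := by
      rcases fin3_cases l with rfl | rfl | rfl
      · rw [Fin.val_zero, pow_zero, conj_eq_one_iff] at hgk; exact absurd hgk hz1
      · rfl
      · have hb : g * (g * z * g⁻¹) * g⁻¹ = z := by
          rw [hgi]
          calc g * (g * z * g) * g = (g * g) * z * (g * g) := by group
            _ = z := by rw [hgg, one_mul, mul_one]
        rw [hgk, ← conj_pow, hga] at hb
        have hc : Commute z a := hza
        change (z ^ 1 * a ^ 2) ^ 2 = z at hb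
        rw [(hc.pow_pow 1 2).mul_pow, ← pow_mul, ← pow_mul,
          show a ^ (2 * 2) = a ^ 1 by rw [pow_eq_pow_mod _ ha3]] at hb
        have hb' : z ^ ((2 : Fin 3) : ℕ) * a ^ ((1 : Fin 3) : ℕ) =
            z ^ ((1 : Fin 3) : ℕ) * a ^ ((0 : Fin 3) : ℕ) := by
          show z ^ (1 * 2) * a ^ 1 = z ^ 1 * a ^ 0
          rw [hb, pow_one, pow_zero, mul_one]
        exact absurd (hinj _ _ _ _ hb').1 (by decide)
    subst hl
    rw [hgi] at hgk
    rw [hgk]; exact pow_one a
  refine ⟨⟨z, a, g, Ω, hz, hconj, huniq, hnorm, rfl, hgg, hgz, fun x hx => ?_, fun Q hQ => ?_⟩⟩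
  · have hxC : x ∈ Cy := Subgroup.mem_centralizer_singleton_iff.mpr hx.eq.symm
    by_cases hxD : x ∈ D
    · exact Or.inl (hDset x hxD)
    · have h1 := (Subgroup.mul_mem_iff_of_index_two hDidx (a := (⟨x, hxC⟩ : Cy)) (b := g₀)).mpr
        (by simp only [Subgroup.mem_subgroupOf]; exact iff_of_false hxD hgD)
      obtain ⟨i, j, e⟩ := hDset _ (Subgroup.mem_subgroupOf.mp h1)
      refine Or.inr ⟨i, j, ?_⟩
      rw [← e]; show x = x * g * g
      rw [mul_assoc, hgg, mul_one]
  · obtain ⟨P', hP'⟩ := hQ.exists_le_sylow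
    refine (Nat.le_of_dvd Nat.card_pos (Subgroup.card_dvd_of_le hP')).trans ?_
    rw [Nat.card_congr (P'.equiv P).toEquiv, ← hDP, hcard]

end CfsgLib.AltEightThree
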