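import Cfsg.Agent.Lib.AltEightThree.CentT

/-!
# The image is the whole group
-/

set_option autoImplicit false
set_option linter.unusedSectionVars false

open Equiv

namespace CfsgLib.AltEightThree.Setup

variable {G : Type*} [Group G] [Finite G] (S : Setup G)

theorem cent_invol_le {c : A8} (h2 : c * c = 1) (h1 : c ≠ 1) {x : G} (hx : Commute x (S.Φ c)) :
    x ∈ S.G0 := by
  haveI := Fact.mk Nat.prime_two
  have hidx : ¬ 2 ∣ sA.index := by
    have := sA.card_mul_index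
    rw [card_sA, card_A8] at this
    intro h; omega
  have hsp : IsPGroup 2 sA := IsPGroup.of_card (n := 6) (by rw [card_sA]; rfl)
  have hcp : IsPGroup 2 (Subgroup.zpowers c) := IsPGroup.of_card (n := 1) (by
    rw [Nat.card_zpowers, orderOf_eq_prime (by rw [pow_two, h2]) h1, pow_one])
  obtain ⟨Q, hQ⟩ := hcp.exists_le_sylow
  obtain ⟨k, hk⟩ := MulAction.exists_smul_eq A8 Q (hsp.toSylow hidx)
  have hmem : k * c * k⁻¹ ∈ sA := by
    show k * c * k⁻¹ ∈ ((hsp.toSylow hidx : Sylow 2 A8) : Subgroup A8)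
    rw [← hk, Sylow.coe_subgroup_smul]
    exact ⟨c, hQ (Subgroup.mem_zpowers c), rfl⟩
  have h2' : k * c * k⁻¹ * (k * c * k⁻¹) = 1 := by
    rw [show k * c * k⁻¹ * (k * c * k⁻¹) = k * (c * c) * k⁻¹ by group, h2, mul_one, mul_inv_cancel]
  have h1' : k * c * k⁻¹ ≠ 1 := fun e => h1 (conj_eq_one_iff.mp e)
  obtain ⟨d, e, hd⟩ : ∃ d e, (e = tA ∨ e = jA) ∧ d * e * d⁻¹ = k * c * k⁻¹ := by
    rcases s_involutions _ hmem h2' h1' with ⟨-, d, -, hd⟩ | ⟨-, d, -, hd⟩
    · exact ⟨d, tA, Or.inl rfl, hd⟩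
    · exact ⟨d, jA, Or.inr rfl, hd⟩
  set m := S.Φ (d⁻¹ * k) with hm
  have hc : Commute (m * x * m⁻¹) (S.Φ e) := by
    have h := hx.map (MulAut.conj m).toMonoidHom
    simp only [MulEquiv.coe_toMonoidHom, MulAut.conj_apply] at h
    rw [hm, ← map_inv S.Φ, ← map_mul, ← map_mul,
      show d⁻¹ * k * c * (d⁻¹ * k)⁻¹ = e by
        rw [show d⁻¹ * k * c * (d⁻¹ * k)⁻¹ = d⁻¹ * (k * c * k⁻¹) * d by group, ← hd.2]; group,
      map_inv S.Φ, ← hm] at h
    exact h
  have hG : m * x * m⁻¹ ∈ S.G0 := by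
    rcases hd.1 with rfl | rfl
    · exact S.cents_le.1 _ hc
    · exact S.cents_le.2 _ hc
  have := mul_mem (mul_mem (inv_mem (S.Φ_mem (d⁻¹ * k))) hG) (S.Φ_mem (d⁻¹ * k))
  rwa [← hm, show m⁻¹ * (m * x * m⁻¹) * m = x by group] at this

theorem conj_j_mem (h : G) : h * S.Φ jA * h⁻¹ ∈ S.G0 := by
  by_contra hs
  set s := h * S.Φ jA * h⁻¹ with hsd
  set t := S.Φ tA with ht
  obtain ⟨-, hv1, -, -, -, -, -, -, ht1⟩ := v_data
  have hj1 : jA ≠ 1 := fun e => absurd e (by decide +kernel)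
  have hss : s * s = 1 := by
    rw [hsd, show h * S.Φ jA * h⁻¹ * (h * S.Φ jA * h⁻¹) = h * (S.Φ jA * S.Φ jA) * h⁻¹ by group, ← map_mul,
      u_facts.2.2.2.2.2.2.2.2.2, map_one, mul_one, mul_inv_cancel]
  have htt : t * t = 1 := by rw [ht, ← map_mul, u_facts.2.2.2.2.2.2.2.2.1, map_one]
  have ht2 : orderOf t = 2 := orderOf_eq_prime (by rw [pow_two, htt])
    fun e => ht1 (S.Φ_inj (e.trans (map_one _).symm))
  have hs2 : orderOf s = 2 := orderOf_eq_prime (by rw [pow_two, hss])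
    fun e => hj1 (S.Φ_inj ((conj_eq_one_iff.mp e).trans (map_one _).symm))
  rcases Nat.even_or_odd (orderOf (t * s)) with he | ho
  · obtain ⟨n, hn⟩ := he
    have hpos := orderOf_pos (t * s)
    set c := (t * s) ^ n with hc
    have hc2 : c * c = 1 := by rw [hc, ← pow_add, ← hn, pow_orderOf_eq_one]
    have hci : c⁻¹ = c := inv_eq_of_mul_eq_one_right hc2
    have hc1 : c ≠ 1 := fun e => by
      have := Nat.le_of_dvd (by omega) (orderOf_dvd_of_pow_eq_one e)
      omega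
    have hti : t⁻¹ = t := inv_eq_of_mul_eq_one_right htt
    have hsi : s⁻¹ = s := inv_eq_of_mul_eq_one_right hss
    have hct : Commute c t := by
      refine (mul_inv_eq_iff_eq_mul.mp ?_).symm
      rw [hc, ← conj_pow, show t * (t * s) * t⁻¹ = (t * t) * s * t⁻¹ by group, htt, one_mul, hti,
        show s * t = (t * s)⁻¹ by rw [mul_inv_rev, hti, hsi], inv_pow, ← hc, hci]
    have hcs : Commute s c := by
      refine mul_inv_eq_iff_eq_mul.mp ?_
      rw [hc, ← conj_pow, show s * (t * s) * s⁻¹ = s * t by group,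
        show s * t = (t * s)⁻¹ by rw [mul_inv_rev, hti, hsi], inv_pow, ← hc, hci]
    obtain ⟨c', hc'⟩ := S.cents_le.1 c hct
    exact hs (S.cent_invol_le (c := c') (S.Φ_inj (by rw [map_mul, hc', hc2, map_one]))
      (fun e => hc1 (by rw [← hc', e, map_one])) (hc' ▸ hcs))
  · obtain ⟨k, hk⟩ := Invol.exists_zpow_conj_of_odd ht2 hs2 ho
    exact S.t_ne_j fix_t.1 t_mem_a.2.1 u_facts.2.2.2.2.2.2.2.2.1 ht1 fix_t.2 (a_le_s _ t_mem_a.2.2)
      u_facts.2.2.2.2.2.2.2.2.2 hj1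
      ((isConj_iff.mpr ⟨_, hk⟩).trans (isConj_iff.mpr ⟨h, rfl⟩).symm)

theorem range_eq_top : S.G0 = ⊤ := by
  haveI := Fact.mk Nat.prime_three
  set N := Subgroup.normalClosure ({S.Φ jA} : Set G) with hN
  have hle : N ≤ S.G0 := by
    rw [hN, Subgroup.normalClosure]
    refine (Subgroup.closure_le _).mpr fun x hx => ?_
    obtain ⟨a, ha, hxa⟩ := Group.mem_conjugatesOfSet_iff.mp hx
    rw [Set.mem_singleton_iff.mp ha] at hxa
    obtain ⟨h, rfl⟩ := isConj_iff.mp hxa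
    exact S.conj_j_mem h
  haveI : IsSimpleGroup A8 := alternatingGroup.isSimpleGroup (by simp)
  have hcomap : N.comap S.Φ = ⊤ := by
    rcases ((Subgroup.normalClosure_normal (s := ({S.Φ jA} : Set G))).comap S.Φ).eq_bot_or_eq_top with h | h
    · exfalso
      have : jA ∈ N.comap S.Φ := Subgroup.subset_normalClosure rfl
      rw [h, Subgroup.mem_bot] at this
      exact absurd this (by decide +kernel)
    · exact h
  have hG0 : S.G0 = N := le_antisymm (by rintro _ ⟨c, rfl⟩; exact (hcomap ▸ Subgroup.mem_top c : c ∈ N.comap S.Φ)) hle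
  haveI hn : S.G0.Normal := hG0 ▸ Subgroup.normalClosure_normal
  -- the Frattini argument
  set D := Subgroup.closure ({S.z, S.a} : Set G) with hD
  have hDG : D ≤ S.G0 := (Subgroup.closure_le _).mpr (by
    intro x hx
    rcases hx with rfl | rfl
    · exact S.z_mem
    · exact S.a_mem)
  let f : Fin 3 × Fin 3 → D := fun p => ⟨S.z ^ (p.1 : ℕ) * S.a ^ (p.2 : ℕ),
    mul_mem (pow_mem (Subgroup.subset_closure (by simp)) _) (pow_mem (Subgroup.subset_closure (by simp)) _)⟩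
  have hfinj : Function.Injective f := by
    intro p q e
    have e2 : S.z ^ (p.1 : ℕ) * S.a ^ (p.2 : ℕ) = S.z ^ (q.1 : ℕ) * S.a ^ (q.2 : ℕ) := congrArg Subtype.val e
    rw [S.ha, ← map_pow, ← map_pow] at e2
    have h1 : S.z ^ ((p.1 + 2 * q.1 : Fin 3) : ℕ) * S.Ω (cA ^ (p.2 : ℕ) * (cA ^ (q.2 : ℕ))⁻¹) = 1 := by
      have h2 : S.z ^ (q.1 : ℕ) * S.z ^ ((p.1 + 2 * q.1 : Fin 3) : ℕ) = S.z ^ (p.1 : ℕ) := by
        rw [← pow_add]; exact S.pow_z_eq (fin3_sub p.1 q.1)
      refine mul_left_cancel (a := S.z ^ (q.1 : ℕ)) ?_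
      rw [← mul_assoc, h2, map_mul, map_inv, mul_one, ← mul_assoc, e2, mul_inv_cancel_right]
    obtain ⟨h2, h3⟩ := S.uniq _ _ h1
    exact Prod.ext (fin3_eq _ _ h2) (cA_pow_inj _ _ (mul_inv_eq_one.mp h3))
  have h9 : 9 ≤ Nat.card D := by
    simpa using Nat.card_le_card_of_injective f hfinj
  have hexp : ∀ x ∈ D, x ^ 3 = 1 := by
    have hall : ∀ x ∈ D, ∃ i j : ℕ, x = S.z ^ i * S.a ^ j := by
      intro x hx
      induction hx using Subgroup.closure_induction with
      | mem u hu =>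
        rcases hu with rfl | rfl
        · exact ⟨1, 0, by simp⟩
        · exact ⟨0, 1, by simp⟩
      | one => exact ⟨0, 0, by simp⟩
      | mul u v _ _ hu hv =>
        obtain ⟨i, j, rfl⟩ := hu; obtain ⟨k, l, rfl⟩ := hv
        exact ⟨i + k, j + l, by rw [(S.za_comm.pow_pow k j).symm.mul_mul_mul_comm, ← pow_add, ← pow_add]⟩
      | inv u _ hu =>
        obtain ⟨i, j, rfl⟩ := hu
        refine ⟨2 * i, 2 * j, inv_eq_of_mul_eq_one_right ?_⟩
        rw [(S.za_comm.pow_pow (2 * i) j).symm.mul_mul_mul_comm, ← pow_add, ← pow_add,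
          show i + 2 * i = 3 * i by ring, show j + 2 * j = 3 * j by ring, pow_mul, pow_mul, S.hz, S.a_cube,
          one_pow, one_pow, one_mul]
    intro x hx
    obtain ⟨i, j, rfl⟩ := hall x hx
    rw [(S.za_comm.pow_pow _ _).mul_pow, ← pow_mul, ← pow_mul, mul_comm i, mul_comm j, pow_mul, pow_mul,
      S.hz, S.a_cube, one_pow, one_pow, one_mul]
  set D' := D.subgroupOf S.G0 with hD'
  have hD'p : IsPGroup 3 D' := fun x => ⟨1, Subtype.ext (Subtype.ext (by
    simpa using hexp _ (Subgroup.mem_subgroupOf.mp x.2)))⟩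
  obtain ⟨P, hP⟩ := hD'p.exists_le_sylow
  have hPD : (P : Subgroup S.G0) = D' := (Subgroup.eq_of_le_of_card_ge hP (by
    have := S.three _ (P.2.map S.G0.subtype)
    rw [Subgroup.card_map_of_injective S.G0.subtype_injective] at this
    rw [hD', Nat.card_congr (Subgroup.subgroupOfEquivOfLe hDG).toEquiv]
    omega)).symm
  rw [eq_top_iff]
  intro x _
  haveI : Finite S.G0 := inferInstance
  have hx : x ∈ (⊤ : Subgroup G) := Subgroup.mem_top x
  rw [← Sylow.normalizer_sup_eq_top P] at hx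
  have hsup : Subgroup.normalizer (((P : Subgroup S.G0).map S.G0.subtype) : Set G) ≤ S.G0 := by
    intro n hn'
    refine S.normalizer_D_le fun d hd => ?_
    have hDeq : (P : Subgroup S.G0).map S.G0.subtype = D := by
      rw [hPD, hD', Subgroup.map_subgroupOf_eq_of_le hDG]
    rw [hDeq] at hn'
    exact (Subgroup.mem_normalizer_iff.mp hn' d).mp hd
  exact sup_le hsup le_rfl hx

include S in
theorem nonempty_mulEquiv : Nonempty (G ≃* alternatingGroup (Fin 8)) :=
  ⟨(MulEquiv.ofBijective S.Φ ⟨S.Φ_inj, MonoidHom.range_eq_top.mp S.range_eq_top⟩).symm⟩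

end CfsgLib.AltEightThree.Setup
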