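import Cfsg.Agent.Lib.AltEightThree.Basic

/-!
# Finite facts about permutations of five points
-/

set_option autoImplicit false
set_option maxRecDepth 8000
set_option synthInstance.maxSize 2000
set_option synthInstance.maxHeartbeats 200000

open Equiv

namespace CfsgLib.AltEightThree

/-- The Klein four group of the alternating group fixing `p`. -/
abbrev InV (p : Fin 5) (π : Perm (Fin 5)) : Prop := π * π = 1 ∧ π p = p ∧ Perm.sign π = 1

/-- Representatives: an even involution fixing `p` and a second one. -/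
def vOne : Perm (Fin 5) := swap 0 1 * swap 2 3

def vTwo : Perm (Fin 5) := swap 0 2 * swap 1 3

def vThree : Perm (Fin 5) := swap 0 3 * swap 1 2

/-- Order exactly three. -/
abbrev orderOfThree (π : Perm (Fin 5)) : Prop := π ^ 3 = 1 ∧ π ≠ 1

theorem inV_four : ∀ π : Perm (Fin 5), InV 4 π ↔ π = 1 ∨ π = vOne ∨ π = vTwo ∨ π = vThree := by
  decide +kernel

theorem inV_four_mul : ∀ π ρ : Perm (Fin 5), InV 4 π → InV 4 ρ → InV 4 (π * ρ) ∧ π * ρ = ρ * π := by
  decide +kernel

theorem inV_three_mul : ∀ π ρ : Perm (Fin 5), InV 3 π → InV 3 ρ → InV 3 (π * ρ) ∧ π * ρ = ρ * π := by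
  decide +kernel

theorem centralizes_V_even : ∀ π : Perm (Fin 5), Perm.sign π = 1 → π * vOne = vOne * π →
    π * vTwo = vTwo * π → InV 4 π := by decide +kernel

theorem centralizes_V_odd : ∀ π : Perm (Fin 5), π * vOne = vOne * π →
    π * vTwo = vTwo * π → Perm.sign π = 1 := by decide +kernel

theorem cA_conj_inV : ∀ p : Fin 5, (p = 3 ∨ p = 4) → ∀ π : Perm (Fin 5), InV p π →
    InV p (cA * π * cA⁻¹) := by decide +kernel

/-- An even permutation outside the two invariant Klein groups leads to order three. -/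
theorem word_three : ∀ σ : Perm (Fin 5), Perm.sign σ = 1 → ¬ InV 3 σ → ¬ InV 4 σ →
    orderOfThree (σ * (cA * σ * cA⁻¹) * σ * (cA * σ * cA⁻¹)⁻¹) ∨
    orderOfThree (σ * (cA * σ * cA⁻¹) * σ * (cA⁻¹ * σ * cA)) := by
  decide +kernel

theorem mix_outside : ∀ σ τ : Perm (Fin 5), InV 3 σ → InV 4 τ → σ ≠ 1 → τ ≠ 1 →
    ¬ InV 3 (σ * τ) ∧ ¬ InV 4 (σ * τ) := by decide +kernel

/-- The three nontrivial elements form one orbit. -/
theorem orbit_inV : ∀ p : Fin 5, (p = 3 ∨ p = 4) → ∀ σ π : Perm (Fin 5), InV p σ → σ ≠ 1 → InV p π →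
    π ≠ 1 → π = σ ∨ π = cA * σ * cA⁻¹ ∨ π = cA⁻¹ * σ * cA := by decide +kernel

theorem only_one_fixed : ∀ π : Perm (Fin 5), Perm.sign π = 1 → π * cA = cA * π → π ^ 3 = 1 := by
  decide +kernel

end CfsgLib.AltEightThree
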