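import Cfsg.Agent.Lib.AltEightThree.AltFacts

/-!
# The image of the alternating group and its local subgroups
-/

set_option autoImplicit false
set_option linter.unusedSectionVars false
set_option maxHeartbeats 1000000

open Equiv

namespace CfsgLib.AltEightThree.Setup

variable {G : Type*} [Group G] [Finite G] (S : Setup G)

/-- The image. -/
noncomputable abbrev G0 : Subgroup G := S.Φ.range

theorem mem_G0 {x : G} : x ∈ S.G0 ↔ ∃ c, S.Φ c = x := MonoidHom.mem_range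

theorem Φ_mem (c : A8) : S.Φ c ∈ S.G0 := ⟨c, rfl⟩

theorem z_mem : S.z ∈ S.G0 := ⟨xA none, S.Φ_xA none⟩

theorem Ω_mem (π : Perm (Fin 5)) : S.Ω π ∈ S.G0 := ⟨ιA π, S.Φ_ι_apply π⟩

theorem a_mem : S.a ∈ S.G0 := S.ha ▸ S.Ω_mem cA

theorem norm_z_le {x : G} (h : x * S.z * x⁻¹ = S.z ∨ x * S.z * x⁻¹ = S.z⁻¹) : x ∈ S.G0 := by
  obtain ⟨i, π, rfl⟩ := S.norm x h
  exact mul_mem (pow_mem S.z_mem _) (S.Ω_mem π)

theorem cent_z_le {x : G} (h : Commute x S.z) : x ∈ S.G0 :=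
  S.norm_z_le (Or.inl (by rw [h.eq, mul_inv_cancel_right]))

theorem Φ_z : S.Φ (xA none) = S.z := S.Φ_xA none

theorem Φ_a : S.Φ (ιA cA) = S.a := (S.Φ_ι_apply cA).trans S.ha.symm

theorem g_mem : S.g ∈ S.G0 := by
  have h : S.Φ jSwap * S.z * (S.Φ jSwap)⁻¹ = S.a := by
    rw [← S.Φ_z, ← map_inv, ← map_mul, ← map_mul, shift_facts.2.2, S.Φ_a]
  have hk := S.cent_z_le (x := S.g * S.Φ jSwap) (by
    refine mul_inv_eq_iff_eq_mul.mp ?_
    rw [mul_inv_rev, show S.g * S.Φ jSwap * S.z * ((S.Φ jSwap)⁻¹ * S.g⁻¹)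
      = S.g * (S.Φ jSwap * S.z * (S.Φ jSwap)⁻¹) * S.g⁻¹ by group, h, S.g_inv, S.gag])
  have := mul_mem hk (inv_mem (S.Φ_mem jSwap))
  rwa [mul_inv_cancel_right] at this

theorem τ_mem {x : G} (h : x ∈ S.G0) : S.τ x ∈ S.G0 := by
  rw [S.τ_apply]; exact mul_mem (mul_mem S.g_mem h) S.g_mem

theorem cent_a_le {x : G} (h : Commute x S.a) : x ∈ S.G0 := by
  have := S.τ_mem (S.cent_z_le (S.τ_a ▸ h.map S.τ.toMonoidHom : Commute (S.τ x) S.z))
  rwa [S.τ_τ] at this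

theorem cent_za_le {x : G} (h : Commute (S.z * S.a) x) : x ∈ S.G0 := by
  rcases S.cent_za x h with ⟨i, j, rfl⟩ | ⟨i, j, rfl⟩
  · exact mul_mem (pow_mem S.z_mem _) (pow_mem S.a_mem _)
  · exact mul_mem (mul_mem (pow_mem S.z_mem _) (pow_mem S.a_mem _)) S.g_mem

theorem refl_za : S.Ω (swap 3 4) * (S.z⁻¹ * S.a) * (S.Ω (swap 3 4))⁻¹ = S.z * S.a := by
  rw [show S.Ω (swap 3 4) * (S.z⁻¹ * S.a) * (S.Ω (swap 3 4))⁻¹
      = (S.Ω (swap 3 4) * S.z * (S.Ω (swap 3 4))⁻¹)⁻¹ * (S.Ω (swap 3 4) * S.a * (S.Ω (swap 3 4))⁻¹) by group,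
    (S.conj_z _).trans (if_neg (by decide)), inv_inv, S.ha, ← map_inv, ← map_mul, ← map_mul]
  congr 2
  decide +kernel

theorem cent_zia_le {x : G} (h : Commute (S.z⁻¹ * S.a) x) : x ∈ S.G0 := by
  set r := S.Ω (swap 3 4)
  have h2 : Commute (S.z * S.a) (r * x * r⁻¹) := by
    have := h.map (MulAut.conj r).toMonoidHom
    simp only [MulEquiv.coe_toMonoidHom, MulAut.conj_apply] at this
    rwa [S.refl_za] at this
  have := mul_mem (mul_mem (inv_mem (S.Ω_mem (swap 3 4))) (S.cent_za_le h2)) (S.Ω_mem (swap 3 4))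
  rwa [show r⁻¹ * (r * x * r⁻¹) * r = x by group] at this

theorem sq_za : (S.z * S.a) ^ 2 = (S.z * S.a)⁻¹ := eq_inv_of_mul_eq_one_left (by
  rw [← pow_succ, S.za_comm.mul_pow, S.hz, S.a_cube, one_mul])

theorem normalizer_D_le {x : G} (hx : ∀ d ∈ Subgroup.closure ({S.z, S.a} : Set G),
    x * d * x⁻¹ ∈ Subgroup.closure ({S.z, S.a} : Set G)) : x ∈ S.G0 := by
  have hmem : ∀ w ∈ Subgroup.closure ({S.z, S.a} : Set G), ∃ i j : Fin 3, w = S.z ^ (i : ℕ) * S.a ^ (j : ℕ) := by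
    intro w hw
    induction hw using Subgroup.closure_induction with
    | mem u hu =>
      rcases hu with rfl | rfl
      · exact ⟨1, 0, by simp⟩
      · exact ⟨0, 1, by simp⟩
    | one => exact ⟨0, 0, by simp⟩
    | mul u v _ _ hu hv =>
      obtain ⟨i, j, rfl⟩ := hu; obtain ⟨k, l, rfl⟩ := hv
      refine ⟨⟨((i : ℕ) + k) % 3, Nat.mod_lt _ (by norm_num)⟩, ⟨((j : ℕ) + l) % 3, Nat.mod_lt _ (by norm_num)⟩, ?_⟩
      rw [(S.za_comm.pow_pow (k : ℕ) (j : ℕ)).symm.mul_mul_mul_comm, ← pow_add, ← pow_add,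
        pow_eq_pow_mod _ S.hz, pow_eq_pow_mod _ S.a_cube]
    | inv u _ hu =>
      obtain ⟨i, j, rfl⟩ := hu
      refine ⟨-i, -j, ?_⟩
      refine inv_eq_of_mul_eq_one_right ?_
      rw [(S.za_comm.pow_pow ((-i : Fin 3) : ℕ) (j : ℕ)).symm.mul_mul_mul_comm, ← pow_add, ← pow_add,
        pow_eq_pow_mod _ S.hz, pow_eq_pow_mod _ S.a_cube]
      rw [fin3_neg i, fin3_neg j, pow_zero, pow_zero, one_mul]
  obtain ⟨i, j, e⟩ := hmem _ (hx S.z (Subgroup.subset_closure (Or.inl rfl)))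
  have hsq : ∀ u : G, u ^ 3 = 1 → u ^ 2 = u⁻¹ := fun u hu => eq_inv_of_mul_eq_one_left (by rw [← pow_succ, hu])
  have inv3 : ∀ u : G, x * S.z * x⁻¹ = u → x * S.z⁻¹ * x⁻¹ = u⁻¹ := fun u hu => by rw [← hu]; group
  have bad : ∀ u : G, (x * S.z * x⁻¹ = u ∨ x * S.z * x⁻¹ = u⁻¹) → u = S.z * S.a → False := by
    rintro u (hu | hu) rfl
    · exact (S.za_not_conj x⁻¹).1 (by rw [← hu]; group)
    · refine (S.za_not_conj x⁻¹).2 ?_
      rw [← inv_inv (S.z * S.a), ← hu]; group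
  have bad' : ∀ u : G, (x * S.z * x⁻¹ = u ∨ x * S.z * x⁻¹ = u⁻¹) → u = S.z⁻¹ * S.a → False := by
    rintro u hu rfl
    have key : ∀ k : G, S.Ω (swap 3 4) * x * S.z * (S.Ω (swap 3 4) * x)⁻¹ = k →
        k ≠ S.z * S.a ∧ k ≠ (S.z * S.a)⁻¹ := fun k hk => by
      refine ⟨fun e => ?_, fun e => ?_⟩
      · exact (S.za_not_conj (S.Ω (swap 3 4) * x)⁻¹).1 (by rw [← e, ← hk]; group)
      · refine (S.za_not_conj (S.Ω (swap 3 4) * x)⁻¹).2 ?_
        rw [← inv_inv (S.z * S.a), ← e, ← hk]; group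
    have hexp : S.Ω (swap 3 4) * x * S.z * (S.Ω (swap 3 4) * x)⁻¹ =
        S.Ω (swap 3 4) * (x * S.z * x⁻¹) * (S.Ω (swap 3 4))⁻¹ := by group
    rcases hu with hu | hu
    · exact (key _ (hexp.trans (by rw [hu]))).1 S.refl_za
    · refine (key _ (hexp.trans (by rw [hu]))).2 ?_
      rw [← S.refl_za]; group
  have hcases : ∀ k : Fin 3, k = 0 ∨ k = 1 ∨ k = 2 := fin3_cases
  rcases hcases i with rfl | rfl | rfl <;> rcases hcases j with rfl | rfl | rfl <;>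
    simp only [Fin.val_zero, Fin.val_one, Fin.val_two, pow_zero, pow_one, one_mul, mul_one] at e
  · exact absurd (conj_eq_one_iff.mp e) S.z_ne
  · have h := S.norm_z_le (x := S.g * x) (Or.inl (by
      rw [show S.g * x * S.z * (S.g * x)⁻¹ = S.g * (x * S.z * x⁻¹) * S.g⁻¹ by group, e, S.g_inv, S.gag]))
    have := mul_mem S.g_mem h
    rwa [← mul_assoc, S.gg, one_mul] at this
  · rw [hsq _ S.a_cube] at e
    have h := S.norm_z_le (x := S.g * x) (Or.inr (by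
      rw [show S.g * x * S.z * (S.g * x)⁻¹ = S.g * (x * S.z * x⁻¹) * S.g⁻¹ by group, e, S.g_inv,
        ← S.gag, mul_inv_rev, mul_inv_rev, S.g_inv]; group))
    have := mul_mem S.g_mem h
    rwa [← mul_assoc, S.gg, one_mul] at this
  · exact S.norm_z_le (Or.inl e)
  · exact (bad _ (Or.inl e) rfl).elim
  · refine (bad' _ (Or.inr ?_) rfl).elim
    rw [e, hsq _ S.a_cube, mul_inv_rev, inv_inv]; exact (S.za_comm.inv_right).eq
  · exact S.norm_z_le (Or.inr (e.trans (hsq _ S.hz)))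
  · refine (bad' _ (Or.inl ?_) rfl).elim
    rw [e, hsq _ S.hz]
  · refine (bad _ (Or.inr ?_) rfl).elim
    rw [e, ← S.za_comm.mul_pow, S.sq_za]

/-- Centralizers of elements of order three of the image lie in the image. -/
theorem cent_three_le {c : A8} (hc : c ^ 3 = 1) (hc1 : c ≠ 1) {x : G} (hx : Commute x (S.Φ c)) :
    x ∈ S.G0 := by
  haveI := Fact.mk Nat.prime_three
  set f : Fin 3 × Fin 3 → A8 := fun p => xA none ^ (p.1 : ℕ) * ιA cA ^ (p.2 : ℕ) with hf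
  have hinj : Function.Injective f := by
    intro p q e
    have e2 := congrArg S.Φ e
    simp only [hf, map_mul, map_pow, S.Φ_z, S.Φ_a] at e2
    rw [S.ha, ← map_pow, ← map_pow] at e2
    have h1 : S.z ^ ((p.1 + 2 * q.1 : Fin 3) : ℕ) * S.Ω (cA ^ (p.2 : ℕ) * (cA ^ (q.2 : ℕ))⁻¹) = 1 := by
      have hsub := fin3_sub p.1 q.1
      have h2 : S.z ^ (q.1 : ℕ) * S.z ^ ((p.1 + 2 * q.1 : Fin 3) : ℕ) = S.z ^ (p.1 : ℕ) := by
        rw [← pow_add]; exact S.pow_z_eq hsub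
      refine mul_left_cancel (a := S.z ^ (q.1 : ℕ)) ?_
      rw [← mul_assoc, h2, map_mul, map_inv, mul_one, ← mul_assoc, e2, mul_inv_cancel_right]
    obtain ⟨h2, h3⟩ := S.uniq _ _ h1
    exact Prod.ext (fin3_eq _ _ h2) (cA_pow_inj _ _ (mul_inv_eq_one.mp h3))
  set D := Subgroup.closure ({xA none, ιA cA} : Set A8) with hD
  have hcomm : Commute (xA none) (ιA cA) := S.Φ_inj (by
    rw [map_mul, map_mul, S.Φ_z, S.Φ_a]; exact S.za_comm.eq)
  have hza : xA none ^ 3 = 1 ∧ ιA cA ^ 3 = 1 := by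
    constructor <;> refine S.Φ_inj ?_ <;> simp only [map_pow, map_one, S.Φ_z, S.Φ_a, S.hz, S.a_cube]
  have hmem : ∀ d, d ∈ D ↔ ∃ p, f p = d := by
    intro d
    constructor
    · intro hd
      induction hd using Subgroup.closure_induction with
      | mem u hu =>
        rcases hu with rfl | rfl
        · exact ⟨(1, 0), by simp [hf]⟩
        · exact ⟨(0, 1), by simp [hf]⟩
      | one => exact ⟨(0, 0), by simp [hf]⟩
      | mul u v _ _ hu hv =>
        obtain ⟨⟨i, j⟩, rfl⟩ := hu; obtain ⟨⟨k, l⟩, rfl⟩ := hv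
        refine ⟨(⟨((i : ℕ) + k) % 3, Nat.mod_lt _ (by norm_num)⟩, ⟨((j : ℕ) + l) % 3, Nat.mod_lt _ (by norm_num)⟩), ?_⟩
        simp only [hf]
        rw [(hcomm.pow_pow (k : ℕ) (j : ℕ)).symm.mul_mul_mul_comm, ← pow_add, ← pow_add,
          pow_eq_pow_mod ((i : ℕ) + k) hza.1, pow_eq_pow_mod ((j : ℕ) + l) hza.2]
      | inv u _ hu =>
        obtain ⟨⟨i, j⟩, rfl⟩ := hu
        refine ⟨(-i, -j), ?_⟩
        refine eq_inv_of_mul_eq_one_right ?_
        simp only [hf]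
        rw [(hcomm.pow_pow ((-i : Fin 3) : ℕ) (j : ℕ)).symm.mul_mul_mul_comm, ← pow_add, ← pow_add,
          pow_eq_pow_mod _ hza.1, pow_eq_pow_mod _ hza.2, fin3_neg i, fin3_neg j, pow_zero, pow_zero, one_mul]
    · rintro ⟨p, rfl⟩
      show xA none ^ (p.1 : ℕ) * ιA cA ^ (p.2 : ℕ) ∈ D
      have g1 : xA none ∈ D := Subgroup.subset_closure (by simp)
      have g2 : ιA cA ∈ D := Subgroup.subset_closure (by simp)
      exact mul_mem (pow_mem g1 _) (pow_mem g2 _)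
  have hcardD : Nat.card D = 9 := by
    rw [← Nat.card_congr (Equiv.ofBijective (fun p => (⟨f p, (hmem _).mpr ⟨p, rfl⟩⟩ : D))
      ⟨fun p q e => hinj (congrArg Subtype.val e), fun d => by
        obtain ⟨p, hp⟩ := (hmem _).mp d.2; exact ⟨p, Subtype.ext hp⟩⟩)]
    simp
  have hidx : ¬ 3 ∣ D.index := by
    have := D.card_mul_index
    rw [hcardD, card_A8] at this
    intro h; omega
  have hDp : IsPGroup 3 D := IsPGroup.of_card (n := 2) hcardD
  set P := hDp.toSylow hidx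
  have hcp : IsPGroup 3 (Subgroup.zpowers c) := IsPGroup.of_card (n := 1) (by
    rw [Nat.card_zpowers, orderOf_eq_prime hc hc1, pow_one])
  obtain ⟨Q, hQ⟩ := hcp.exists_le_sylow
  obtain ⟨k, hk⟩ := MulAction.exists_smul_eq A8 Q P
  have hmemP : k * c * k⁻¹ ∈ D := by
    show k * c * k⁻¹ ∈ (P : Subgroup A8)
    rw [← hk, Sylow.coe_subgroup_smul]
    exact ⟨c, hQ (Subgroup.mem_zpowers c), rfl⟩
  obtain ⟨⟨i, j⟩, e⟩ := (hmem _).mp hmemP
  set y := S.Φ k * x * (S.Φ k)⁻¹ with hy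
  have hc' : Commute y (S.z ^ (i : ℕ) * S.a ^ (j : ℕ)) := by
    have := hx.map (MulAut.conj (S.Φ k)).toMonoidHom
    simp only [MulEquiv.coe_toMonoidHom, MulAut.conj_apply] at this
    rw [← map_inv, ← map_mul, ← map_mul, ← e] at this
    simpa [hf, hy, map_mul, map_pow, S.Φ_z, S.Φ_a] using this
  have hyG : y ∈ S.G0 := by
    have hsq : ∀ u : G, u ^ 3 = 1 → u ^ 2 = u⁻¹ := fun u hu => eq_inv_of_mul_eq_one_left (by rw [← pow_succ, hu])
    rcases fin3_cases i with rfl | rfl | rfl <;> rcases fin3_cases j with rfl | rfl | rfl <;>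
      simp only [Fin.val_zero, Fin.val_one, Fin.val_two, pow_zero, pow_one, one_mul, mul_one] at hc'
    · exfalso
      simp only [hf, Fin.val_zero, pow_zero, mul_one] at e
      exact hc1 (conj_eq_one_iff.mp e.symm)
    · exact S.cent_a_le hc'
    · rw [hsq _ S.a_cube] at hc'; exact S.cent_a_le (by simpa using hc'.inv_right)
    · exact S.cent_z_le hc'
    · exact S.cent_za_le hc'.symm
    · rw [hsq _ S.a_cube] at hc'
      refine S.cent_zia_le ?_
      have := hc'.inv_right.symm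
      rwa [mul_inv_rev, inv_inv, ← (S.za_comm.inv_left).eq] at this
    · rw [hsq _ S.hz] at hc'; exact S.cent_z_le (by simpa using hc'.inv_right)
    · rw [hsq _ S.hz] at hc'; exact S.cent_zia_le hc'.symm
    · rw [← S.za_comm.mul_pow, S.sq_za] at hc'
      exact S.cent_za_le (by simpa using hc'.inv_right.symm)
  have := mul_mem (mul_mem (inv_mem (S.Φ_mem k)) hyG) (S.Φ_mem k)
  rwa [hy, show (S.Φ k)⁻¹ * (S.Φ k * x * (S.Φ k)⁻¹) * S.Φ k = x by group] at this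

theorem Φ_t : IsConj (S.Ω vOne) (S.Φ tA) :=
  isConj_iff.mpr ⟨S.Φ cShift, by
    rw [← S.Φ_ι_apply, ← map_inv, ← map_mul, ← map_mul, shift_facts.1]⟩

theorem t_ne_j {c : A8} (h : fixCount c = 4) (hc : c ∈ sList) (h2 : c * c = 1) (h1 : c ≠ 1) {d : A8}
    (h' : fixCount d = 0) (hd : d ∈ sList) (h2' : d * d = 1) (h1' : d ≠ 1) : ¬ IsConj (S.Φ c) (S.Φ d) := by
  intro e
  have hct : IsConj (S.Φ c) (S.Φ tA) := by
    rcases s_involutions c hc h2 h1 with ⟨-, k, -, rfl⟩ | ⟨h0, -⟩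
    · exact (isConj_iff.mpr ⟨S.Φ k, by rw [← map_inv, ← map_mul, ← map_mul]⟩).symm
    · omega
  have hdj : IsConj (S.Φ d) (S.Φ jA) := by
    rcases s_involutions d hd h2' h1' with ⟨h0, -⟩ | ⟨-, k, -, rfl⟩
    · omega
    · exact (isConj_iff.mpr ⟨S.Φ k, by rw [← map_inv, ← map_mul, ← map_mul]⟩).symm
  obtain ⟨h, hh⟩ := isConj_iff.mp ((S.Φ_t.trans hct.symm).trans (e.trans hdj)).symm
  have hy : Commute (h * S.Φ yA * h⁻¹) (S.Ω vOne) := by
    have h0 : Commute (S.Φ yA) (S.Φ jA) := by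
      show _ = _
      rw [← map_mul, ← map_mul, y_facts.2.2.1]
    have := h0.map (MulAut.conj h).toMonoidHom
    simp only [MulEquiv.coe_toMonoidHom, MulAut.conj_apply] at this
    rwa [hh] at this
  have hy3 : (h * S.Φ yA * h⁻¹) ^ 3 = 1 := by
    rw [conj_pow, ← map_pow, pow_succ, pow_two, y_facts.1, map_one, mul_one, mul_inv_cancel]
  have hy1 : h * S.Φ yA * h⁻¹ ≠ 1 := fun e1 =>
    y_facts.2.1 (S.Φ_inj ((conj_eq_one_iff.mp e1).trans (map_one _).symm))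
  obtain ⟨l, -, hl⟩ := S.three_cent_t hy3 hy1 hy
  have hyza : S.Φ yA = S.Φ rhoA * (S.z * S.a) * (S.Φ rhoA)⁻¹ := by
    rw [← y_facts.2.2.2.1, map_mul, map_mul, map_mul, map_inv, S.Φ_z, S.Φ_a]
  rw [hyza, show l * (h * (S.Φ rhoA * (S.z * S.a) * (S.Φ rhoA)⁻¹) * h⁻¹) * l⁻¹
    = l * h * S.Φ rhoA * (S.z * S.a) * (l * h * S.Φ rhoA)⁻¹ by group] at hl
  exact hl.elim (S.za_not_conj _).1 (S.za_not_conj _).2

/-- The centralizer of the Klein four group lies in the image. -/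
theorem X_le : S.X ≤ S.G0 := by
  obtain ⟨q, -, hU⟩ := S.exists_q
  have hW : S.W ≤ S.G0 := fun w hw => by
    obtain ⟨v, ⟨σ, -, rfl⟩, u, hu, rfl⟩ := S.exists_mul hw
    obtain ⟨ρ, -, rfl⟩ := (hU _).mp hu
    exact mul_mem (S.Ω_mem _) (S.τ_mem (S.Ω_mem _))
  have hWX : S.W ≤ S.X := fun w hw => (S.mem_W.mp hw).1
  have h1 : Nat.card S.W ∣ Nat.card (S.X ⊓ S.G0 : Subgroup G) := Subgroup.card_dvd_of_le (le_inf hWX hW)
  have h2 : 3 ∣ Nat.card (S.X ⊓ S.G0 : Subgroup G) :=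
    (orderOf_eq_prime S.hz S.z_ne) ▸
      Subgroup.orderOf_dvd_natCard _ (Subgroup.mem_inf.mpr ⟨S.z_mem_X, S.z_mem⟩)
  have h3 : Nat.card S.X ∣ Nat.card (S.X ⊓ S.G0 : Subgroup G) := S.card_W ▸
    Nat.Coprime.mul_dvd_of_dvd_of_dvd (Nat.prime_three.coprime_iff_not_dvd.mpr S.three_W).symm h1 h2
  have h4 := Subgroup.eq_of_le_of_card_ge (inf_le_left : S.X ⊓ S.G0 ≤ S.X) (Nat.le_of_dvd Nat.card_pos h3)
  exact h4.symm.le.trans inf_le_right

theorem cent_V_le {x : G} (h1 : Commute x (S.Φ tA)) (h2 : Commute x (S.Φ vA)) : x ∈ S.G0 := by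
  set c := S.Φ cShift
  have e : ∀ (π : Perm (Fin 5)) (d : A8), cShift * ιA π * cShift⁻¹ = d → c⁻¹ * S.Φ d * c = S.Ω π :=
    fun π d hd => by
      rw [← hd, map_mul, map_mul, map_inv, S.Φ_ι_apply]; simp only [c]; group
  have hX : c⁻¹ * x * c ∈ S.X := by
    refine S.mem_X.mpr ⟨?_, ?_⟩
    · rw [← e _ _ shift_facts.1]
      have := h1.map (MulAut.conj c⁻¹).toMonoidHom
      simpa using this
    · rw [← e _ _ shift_facts.2.1]
      have := h2.map (MulAut.conj c⁻¹).toMonoidHom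
      simpa using this
  have := mul_mem (mul_mem (S.Φ_mem cShift) (S.X_le hX)) (inv_mem (S.Φ_mem cShift))
  rwa [show c * (c⁻¹ * x * c) * c⁻¹ = x by group] at this

/-- The two-elements centralizing the Klein four group. -/
theorem cent_V_two {x : G} (h1 : Commute x (S.Φ tA)) (h2 : Commute x (S.Φ vA)) (h3 : ¬ 3 ∣ orderOf x) :
    ∃ a ∈ eList, S.Φ a = x := by
  obtain ⟨q, hq, hU⟩ := S.exists_q
  set c := S.Φ cShift with hc
  have e : ∀ (π : Perm (Fin 5)) (d : A8), cShift * ιA π * cShift⁻¹ = d → c⁻¹ * S.Φ d * c = S.Ω π :=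
    fun π d hd => by
      rw [← hd, map_mul, map_mul, map_inv, S.Φ_ι_apply]; simp only [c]; group
  have hin : ∀ y : G, Commute y (S.Φ tA) → Commute y (S.Φ vA) → ¬ 3 ∣ orderOf y → c⁻¹ * y * c ∈ S.W := by
    intro y hy1 hy2 hy3
    refine S.mem_W.mpr ⟨S.mem_X.mpr ⟨?_, ?_⟩, ?_⟩
    · rw [← e _ _ shift_facts.1]
      have := hy1.map (MulAut.conj c⁻¹).toMonoidHom
      simpa using this
    · rw [← e _ _ shift_facts.2.1]
      have := hy2.map (MulAut.conj c⁻¹).toMonoidHom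
      simpa using this
    · rw [show c⁻¹ * y * c = MulAut.conj c⁻¹ y by simp, MulEquiv.orderOf_eq]; exact hy3
  let F : eA → S.W := fun a => ⟨c⁻¹ * S.Φ a * c, hin _ (by show _ = _; rw [← map_mul, ← map_mul, (e_commute a a.2).1])
    (by show _ = _; rw [← map_mul, ← map_mul, (e_commute a a.2).2]) (fun hd => by
      have h2 : S.Φ a ^ 2 = 1 := by rw [← map_pow, pow_two, (eList_mul a a.2 a a.2).2.2, map_one]
      exact absurd (hd.trans (orderOf_dvd_of_pow_eq_one h2)) (by decide))⟩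
  have hFinj : Function.Injective F := fun a b e => by
    have e' : c⁻¹ * S.Φ a * c = c⁻¹ * S.Φ b * c := congrArg Subtype.val e
    exact Subtype.ext (S.Φ_inj (mul_left_cancel (mul_right_cancel e')))
  have hcard : Nat.card S.W ≤ 16 := by
    let K : {σ : Perm (Fin 5) // InV 4 σ} × {σ : Perm (Fin 5) // InV q σ} → S.W := fun p =>
      ⟨S.Ω p.1.1 * S.τ (S.Ω p.2.1), mul_mem (S.V4_le_W ⟨_, p.1.2, rfl⟩) (S.mem_U.mp ((hU _).mpr ⟨_, p.2.2, rfl⟩)).1⟩
    have hK : Function.Surjective K := by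
      rintro ⟨w, hw⟩
      obtain ⟨v, ⟨σ, hσ, rfl⟩, u, hu, rfl⟩ := S.exists_mul hw
      obtain ⟨ρ, hρ, rfl⟩ := (hU _).mp hu
      exact ⟨(⟨σ, hσ⟩, ⟨ρ, hρ⟩), rfl⟩
    refine (Nat.card_le_card_of_surjective K hK).trans ?_
    rcases hq with rfl | rfl <;> rw [Nat.card_eq_fintype_card] <;> decide +kernel
  have hbij : Function.Bijective F := (Nat.bijective_iff_injective_and_card F).mpr
    ⟨hFinj, le_antisymm (Nat.card_le_card_of_injective F hFinj) (by rw [card_eA]; exact hcard)⟩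
  obtain ⟨a, ha⟩ := hbij.2 ⟨_, hin x h1 h2 h3⟩
  refine ⟨a, a.2, ?_⟩
  exact mul_left_cancel (mul_right_cancel (congrArg Subtype.val ha))

theorem W_three {x : G} (hx : x ∈ S.X) : ∃ k : ℕ, x * S.z ^ k ∈ S.W := by
  have hWX : S.W ≤ S.X := fun w hw => (S.mem_W.mp hw).1
  haveI : (S.W.subgroupOf S.X).Normal := ⟨fun w hw k => by
    rw [Subgroup.mem_subgroupOf] at hw ⊢
    refine S.mem_W.mpr ⟨(k * w * k⁻¹).2, ?_⟩
    show ¬ 3 ∣ orderOf ((k : G) * (w : G) * (k : G)⁻¹)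
    rw [← MulAut.conj_apply, MulEquiv.orderOf_eq]
    exact (S.mem_W.mp hw).2⟩
  have hidx : (S.W.subgroupOf S.X).index = 3 := by
    have h := (S.W.subgroupOf S.X).card_mul_index
    rw [Nat.card_congr (Subgroup.subgroupOfEquivOfLe hWX).toEquiv, ← S.card_W] at h
    exact Nat.eq_of_mul_eq_mul_left Nat.card_pos h
  haveI := Fact.mk Nat.prime_three
  have hQ : Nat.card (S.X ⧸ S.W.subgroupOf S.X) = 3 := by rw [← Subgroup.index_eq_card, hidx]
  have hzne : QuotientGroup.mk' (S.W.subgroupOf S.X) ⟨S.z, S.z_mem_X⟩ ≠ 1 := fun e => by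
    have := (QuotientGroup.eq_one_iff _).mp e
    rw [Subgroup.mem_subgroupOf] at this
    exact (S.mem_W.mp this).2 (by rw [orderOf_eq_prime S.hz S.z_ne])
  obtain ⟨k, hk⟩ := Submonoid.mem_powers_iff _ _ |>.mp
    (mem_powers_of_prime_card (g' := (QuotientGroup.mk' (S.W.subgroupOf S.X) ⟨x, hx⟩)⁻¹) hQ hzne)
  refine ⟨k, ?_⟩
  have : QuotientGroup.mk' (S.W.subgroupOf S.X) (⟨x, hx⟩ * ⟨S.z, S.z_mem_X⟩ ^ k) = 1 := by
    rw [map_mul, map_pow, hk, mul_inv_cancel]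
  exact Subgroup.mem_subgroupOf.mp ((QuotientGroup.eq_one_iff _).mp this)

/-- The normalizer of the Klein four group lies in the image. -/
theorem norm_V_le {x : G}
    (h : ∀ d ∈ [tA, vA, tA * vA], ∃ d' ∈ [tA, vA, tA * vA], x * S.Φ d * x⁻¹ = S.Φ d') : x ∈ S.G0 := by
  haveI := Fact.mk Nat.prime_three
  set c := S.Φ cShift
  set x' := c⁻¹ * x * c with hx'
  have e : ∀ d ∈ [vOne, vTwo, vOne * vTwo], c⁻¹ * S.Φ (cShift * ιA d * cShift⁻¹) * c = S.Ω d := fun d _ => by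
    rw [map_mul, map_mul, map_inv, S.Φ_ι_apply]; simp only [c]; group
  have hX : ∀ y ∈ S.X, x'⁻¹ * y * x' ∈ S.X := by
    intro y hy
    have hall : ∀ d ∈ [tA, vA, tA * vA], Commute (c * y * c⁻¹) (S.Φ d) := by
      intro d hd
      have hy1 := hy
      obtain ⟨h1, h2⟩ := S.mem_X.mp hy1
      have h1' : Commute (c * y * c⁻¹) (S.Φ tA) := by
        have := h1.map (MulAut.conj c).toMonoidHom
        simp only [MulEquiv.coe_toMonoidHom, MulAut.conj_apply] at this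
        rwa [← S.Φ_ι_apply, ← map_inv, ← map_mul, ← map_mul, shift_facts.1, map_inv] at this
      have h2' : Commute (c * y * c⁻¹) (S.Φ vA) := by
        have := h2.map (MulAut.conj c).toMonoidHom
        simp only [MulEquiv.coe_toMonoidHom, MulAut.conj_apply] at this
        rwa [← S.Φ_ι_apply, ← map_inv, ← map_mul, ← map_mul, shift_facts.2.1, map_inv] at this
      simp only [List.mem_cons, List.mem_singleton, List.not_mem_nil, or_false] at hd
      rcases hd with rfl | rfl | rfl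
      · exact h1'
      · exact h2'
      · rw [map_mul]; exact h1'.mul_right h2'
    have hgo : ∀ d ∈ [tA, vA, tA * vA], Commute (x⁻¹ * (c * y * c⁻¹) * x) (S.Φ d) := by
      intro d hd
      obtain ⟨d', hd', e'⟩ := h d hd
      have := (hall d' hd').map (MulAut.conj x⁻¹).toMonoidHom
      rw [← e'] at this
      simpa [mul_assoc] using this
    refine S.mem_X.mpr ⟨?_, ?_⟩
    · have := (hgo tA (by simp)).map (MulAut.conj c⁻¹).toMonoidHom
      rw [← e vOne (by simp), shift_facts.1]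
      simpa [hx', mul_assoc] using this
    · have := (hgo vA (by simp)).map (MulAut.conj c⁻¹).toMonoidHom
      rw [← e vTwo (by simp), shift_facts.2.1]
      simpa [hx', mul_assoc] using this
  have hz' := hX _ S.z_mem_X
  -- Sylow in the centralizer
  set z1 : S.X := ⟨S.z, S.z_mem_X⟩
  set z2 : S.X := ⟨_, hz'⟩
  have hP : ∀ u : S.X, orderOf u = 3 → ∃ P : Sylow 3 S.X, (P : Subgroup S.X) = Subgroup.zpowers u := by
    intro u hu
    have hp : IsPGroup 3 (Subgroup.zpowers u) :=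
      IsPGroup.of_card (n := 1) (by rw [Nat.card_zpowers, hu, pow_one])
    refine ⟨hp.toSylow ?_, rfl⟩
    have h := (Subgroup.zpowers u).card_mul_index
    rw [Nat.card_zpowers, hu, ← S.card_W] at h
    rw [show (Subgroup.zpowers u).index = Nat.card S.W by omega]
    exact S.three_W
  have ho1 : orderOf z1 = 3 := by rw [← Subgroup.orderOf_coe]; exact orderOf_eq_prime S.hz S.z_ne
  have ho2 : orderOf z2 = 3 := by
    rw [← Subgroup.orderOf_coe]
    show orderOf (x'⁻¹ * S.z * x') = 3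
    rw [show x'⁻¹ * S.z * x' = MulAut.conj x'⁻¹ S.z by simp, MulEquiv.orderOf_eq,
      orderOf_eq_prime S.hz S.z_ne]
  obtain ⟨P1, hP1⟩ := hP z1 ho1
  obtain ⟨P2, hP2⟩ := hP z2 ho2
  obtain ⟨k, hk⟩ := MulAction.exists_smul_eq S.X P2 P1
  have hm : k * z2 * k⁻¹ ∈ Subgroup.zpowers z1 := by
    rw [← hP1, ← hk, Sylow.coe_subgroup_smul]
    exact ⟨z2, hP2 ▸ Subgroup.mem_zpowers z2, rfl⟩
  obtain ⟨l, hl⟩ := Subgroup.mem_zpowers_iff.mp hm
  have hl' : ((k : G) * x'⁻¹) * S.z * ((k : G) * x'⁻¹)⁻¹ ∈ Subgroup.zpowers S.z :=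
    Subgroup.mem_zpowers_iff.mpr ⟨l, by
      rw [show ((k : G) * x'⁻¹) * S.z * ((k : G) * x'⁻¹)⁻¹ = (k : G) * (x'⁻¹ * S.z * x') * (k : G)⁻¹ by group]
      have := congrArg Subtype.val hl
      simpa [z1, z2] using this⟩
  have hg : (k : G) * x'⁻¹ ∈ S.G0 := by
    rcases S.zpowers_z_cases hl' with e | e | e
    · exact absurd (conj_eq_one_iff.mp e) S.z_ne
    · exact S.norm_z_le (Or.inl e)
    · exact S.norm_z_le (Or.inr e)
  have h5 := inv_mem (mul_mem (inv_mem (S.X_le k.2)) hg)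
  rw [inv_mul_cancel_left, inv_inv] at h5
  have := mul_mem (mul_mem (S.Φ_mem cShift) h5) (inv_mem (S.Φ_mem cShift))
  rwa [hx', show c * (c⁻¹ * x * c) * c⁻¹ = x by group] at this

theorem norm_E_le {x : G} (h : ∀ a ∈ eList, ∃ b ∈ eList, x * S.Φ a * x⁻¹ = S.Φ b) : x ∈ S.G0 := by
  have hmem : tA ∈ eList ∧ vA ∈ eList ∧ fixCount (tA * vA) = 4 ∧ fixCount vA = 4 ∧ tA ≠ 1 ∧ vA ≠ 1 ∧
    tA * vA ≠ 1 := by decide +kernel
  obtain ⟨ht, hv, htv4, hv4, ht1, hv1, htv1⟩ := hmem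
  obtain ⟨t', ht', et⟩ := h tA ht
  obtain ⟨v', hv', ev⟩ := h vA hv
  have etv : x * S.Φ (tA * vA) * x⁻¹ = S.Φ (t' * v') := by
    rw [map_mul, map_mul, ← et, ← ev]; group
  have key : ∀ a a', a ∈ eList → a' ∈ eList → fixCount a = 4 → a ≠ 1 → x * S.Φ a * x⁻¹ = S.Φ a' →
      fixCount a' = 4 := by
    intro a a' ha ha' h4 h1 e
    have h1' : a' ≠ 1 := fun e1 => h1 (S.Φ_inj (by
      rw [e1, map_one, conj_eq_one_iff] at e; rw [e, map_one]))
    rcases s_involutions a' (e_le_s _ ha') (eList_mul _ ha' _ ha').2.2 h1' with ⟨h0, -⟩ | ⟨h0, -⟩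
    · exact h0
    · exact absurd (isConj_iff.mpr ⟨x, e⟩) (S.t_ne_j h4 (e_le_s _ ha) (eList_mul _ ha _ ha).2.2 h1 h0
        (e_le_s _ ha') (eList_mul _ ha' _ ha').2.2 h1')
  have f1 := key _ _ ht ht' fix_t.1 ht1 et
  have f2 := key _ _ hv hv' hv4 hv1 ev
  have f3 := key _ _ (eList_mul _ ht _ hv).1 (eList_mul _ ht' _ hv').1 htv4 htv1 etv
  have main : ∀ d : A8, (∀ w ∈ [t', v'], w = d * tA * d⁻¹ ∨ w = d * vA * d⁻¹ ∨ w = d * (tA * vA) * d⁻¹) →
      (S.Φ d)⁻¹ * x ∈ S.G0 := by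
    intro d hd
    refine S.norm_V_le fun w hw => ?_
    have conv : ∀ (w w' : A8), x * S.Φ w * x⁻¹ = S.Φ w' → ∀ u, w' = d * u * d⁻¹ →
        (S.Φ d)⁻¹ * x * S.Φ w * ((S.Φ d)⁻¹ * x)⁻¹ = S.Φ u := by
      intro w w' e u eu
      rw [show (S.Φ d)⁻¹ * x * S.Φ w * ((S.Φ d)⁻¹ * x)⁻¹ = (S.Φ d)⁻¹ * (x * S.Φ w * x⁻¹) * S.Φ d by group, e, eu,
        map_mul, map_mul, map_inv]
      group
    have hin : ∀ w', w' = d * tA * d⁻¹ ∨ w' = d * vA * d⁻¹ ∨ w' = d * (tA * vA) * d⁻¹ → ∀ w,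
        x * S.Φ w * x⁻¹ = S.Φ w' → ∃ u ∈ [tA, vA, tA * vA], (S.Φ d)⁻¹ * x * S.Φ w * ((S.Φ d)⁻¹ * x)⁻¹ = S.Φ u := by
      rintro w' (hw' | hw' | hw') w e <;> exact ⟨_, by simp, conv _ _ e _ hw'⟩
    simp only [List.mem_cons, List.mem_singleton, List.not_mem_nil, or_false] at hw
    rcases hw with rfl | rfl | rfl
    · exact hin _ (hd t' (by simp)) _ et
    · exact hin _ (hd v' (by simp)) _ ev
    · have h4 := hd t' (by simp)
      have h5 := hd v' (by simp)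
      have htv : tA * (tA * vA) = vA ∧ vA * tA = tA * vA ∧ vA * (tA * vA) = tA ∧ tA * vA * tA = vA ∧
          tA * vA * vA = tA ∧ tA * tA = 1 ∧ vA * vA = 1 ∧ tA * vA * (tA * vA) = 1 := by decide +kernel
      obtain ⟨e1, e2, e3, e4, e5, e6, e7, e8⟩ := htv
      have hprod : ∀ a b, t' = d * a * d⁻¹ → v' = d * b * d⁻¹ → t' * v' = d * (a * b) * d⁻¹ := by
        rintro a b rfl rfl; group
      have hne : t' ≠ v' := fun e => by
        have h2 := etv
        rw [e, (eList_mul _ hv' _ hv').2.2, map_one, conj_eq_one_iff] at h2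
        exact htv1 (S.Φ_inj (h2.trans (map_one _).symm))
      rcases h4 with h4 | h4 | h4 <;> rcases h5 with h5 | h5 | h5
      all_goals first
        | exact absurd (h4.trans h5.symm) hne
        | (have hp := hprod _ _ h4 h5
           try simp only [e1, e2, e3, e4, e5] at hp
           exact hin _ (by simp only [hp, true_or, or_true]) _ etv)
  rcases e_four t' ht' v' hv' f1 f2 f3 with hh | hh
  · have := main 1 (fun w hw => by simpa using hh w hw)
    simpa using this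
  · have := mul_mem (S.Φ_mem swapA) (main swapA hh)
    rwa [mul_inv_cancel_left] at this

/-- The Sylow two-subgroup of the image is one of the whole group. -/
theorem exists_sylow : ∃ P : Sylow 2 G, (P : Subgroup G) = sA.map S.Φ := by
  haveI := Fact.mk Nat.prime_two
  have hp : IsPGroup 2 (sA.map S.Φ) :=
    (IsPGroup.of_card (n := 6) (by rw [card_sA]; rfl)).map _
  obtain ⟨P, hP⟩ := hp.exists_le_sylow
  refine ⟨P, ?_⟩
  set T := sA.map S.Φ with hT
  by_contra hne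
  have hlt : T.subgroupOf (P : Subgroup G) < ⊤ := lt_top_iff_ne_top.mpr fun e =>
    hne (le_antisymm (Subgroup.subgroupOf_eq_top.mp e) hP)
  haveI := P.2.isNilpotent
  obtain ⟨⟨x, hxP⟩, hxN, hxT⟩ := SetLike.exists_of_lt (Group.normalizerCondition_of_isNilpotent _ hlt)
  have hnorm : ∀ s ∈ T, x * s * x⁻¹ ∈ T := fun s hs =>
    Subgroup.mem_subgroupOf.mp ((Subgroup.mem_normalizer_iff.mp hxN ⟨s, hP hs⟩).mp (Subgroup.mem_subgroupOf.mpr hs))
  have hxG : x ∈ S.G0 := by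
    refine S.norm_E_le fun a ha => ?_
    obtain ⟨f, hf, ef⟩ := hnorm _ ⟨a, mem_sA.mpr (e_le_s a ha), rfl⟩
    refine ⟨f, ?_, ef.symm⟩
    by_contra hfE
    have hf2 : f * f = 1 := S.Φ_inj (by
      rw [map_mul, ef, show x * S.Φ a * x⁻¹ * (x * S.Φ a * x⁻¹) = x * (S.Φ a * S.Φ a) * x⁻¹ by group, ← map_mul,
        (eList_mul a ha a ha).2.2, map_one, mul_one, mul_inv_cancel])
    have hlen := e_unique f hf hf2 hfE
    set L := sList.filter fun s => decide (s * s = 1 ∧ s * f = f * s) with hL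
    have hex : ∀ b : eA, ∃ s, s ∈ L.toFinset ∧ S.Φ s = x * S.Φ b * x⁻¹ := by
      intro b
      obtain ⟨s, hs, es⟩ := hnorm _ ⟨b, mem_sA.mpr (e_le_s b b.2), rfl⟩
      refine ⟨s, List.mem_toFinset.mpr (List.mem_filter.mpr ⟨hs, decide_eq_true ⟨?_, ?_⟩⟩), es⟩
      · refine S.Φ_inj ?_
        rw [map_mul, es, show x * S.Φ b * x⁻¹ * (x * S.Φ b * x⁻¹) = x * (S.Φ b * S.Φ b) * x⁻¹ by group,
          ← map_mul, (eList_mul b b.2 b b.2).2.2, map_one, mul_one, mul_inv_cancel]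
      · refine S.Φ_inj ?_
        rw [map_mul, map_mul, es, ef, show x * S.Φ b * x⁻¹ * (x * S.Φ a * x⁻¹) = x * (S.Φ b * S.Φ a) * x⁻¹ by group,
          ← map_mul, (eList_mul b b.2 a ha).2.1, map_mul]
        group
    choose F hF eF using hex
    have hFi : Function.Injective (fun b => (⟨F b, hF b⟩ : L.toFinset)) := fun b b' e => by
      have e' : F b = F b' := congrArg Subtype.val e
      have := (eF b).symm.trans ((congrArg S.Φ e').trans (eF b'))
      exact Subtype.ext (S.Φ_inj (mul_left_cancel (mul_right_cancel this)))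
    have hc := Nat.card_le_card_of_injective _ hFi
    rw [card_eA, Nat.card_eq_fintype_card, Fintype.card_coe] at hc
    have := L.toFinset_card_le
    omega
  have hM : T ≤ (P : Subgroup G) ⊓ S.G0 := le_inf hP (by rintro _ ⟨s, -, rfl⟩; exact S.Φ_mem s)
  have hMcard : Nat.card ((P : Subgroup G) ⊓ S.G0 : Subgroup G) ≤ Nat.card T := by
    obtain ⟨k, hk⟩ := IsPGroup.iff_card.mp (P.2.to_le (inf_le_left : (P : Subgroup G) ⊓ S.G0 ≤ P))
    have h1 : 2 ^ k ∣ 20160 := by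
      rw [← hk, ← card_A8, ← Nat.card_congr (MonoidHom.ofInjective S.Φ_inj).toEquiv.symm]
      exact Subgroup.card_dvd_of_le inf_le_right
    rw [hk, hT, Subgroup.card_map_of_injective S.Φ_inj, card_sA]
    have : k ≤ 6 := by
      by_contra hk6
      exact absurd ((pow_dvd_pow 2 (by omega : 7 ≤ k)).trans h1) (by decide)
    exact (Nat.pow_le_pow_right (by norm_num) this).trans_eq rfl
  have := Subgroup.eq_of_le_of_card_ge hM hMcard
  exact hxT (Subgroup.mem_subgroupOf.mpr (this.symm.le (Subgroup.mem_inf.mpr ⟨hxP, hxG⟩)))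

end CfsgLib.AltEightThree.Setup
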