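import Cfsg.Agent.Lib.AltEightThree.Signalizer

/-!
# The complement in the centralizer of the Klein four group
-/

set_option autoImplicit false
set_option linter.unusedSectionVars false

open Equiv

namespace CfsgLib.AltEightThree

set_option maxRecDepth 8000 in
theorem conj_inV_four : ∀ π : Perm (Fin 5), π 4 = 4 → ∀ σ : Perm (Fin 5), InV 4 σ →
    InV 4 (π * σ * π⁻¹) := by decide +kernel

theorem inV_sq_cube : ∀ σ : Perm (Fin 5), σ * σ = 1 → σ ^ 3 = 1 → σ = 1 := fun σ h h' => by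
  rwa [pow_succ, pow_two, h, one_mul] at h'

end CfsgLib.AltEightThree

namespace CfsgLib.AltEightThree.Setup

variable {G : Type*} [Group G] [Finite G] (S : Setup G)

/-- The Klein four group fixing the last point. -/
def V4 : Subgroup G where
  carrier := {x | ∃ σ, InV 4 σ ∧ x = S.Ω σ}
  one_mem' := ⟨1, by decide, (map_one _).symm⟩
  mul_mem' := by
    rintro _ _ ⟨σ, hσ, rfl⟩ ⟨ρ, hρ, rfl⟩
    exact ⟨_, (inV_four_mul σ ρ hσ hρ).1, (map_mul _ _ _).symm⟩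
  inv_mem' := by
    rintro _ ⟨σ, hσ, rfl⟩
    exact ⟨σ, hσ, by rw [← map_inv, inv_eq_of_mul_eq_one_right hσ.1]⟩

theorem mem_V4 {x : G} : x ∈ S.V4 ↔ ∃ σ, InV 4 σ ∧ x = S.Ω σ := Iff.rfl

/-- The centralizer of the Klein four group. -/
def X : Subgroup G := Subgroup.centralizer ({S.Ω vOne, S.Ω vTwo} : Set G)

theorem mem_X {x : G} : x ∈ S.X ↔ Commute x (S.Ω vOne) ∧ Commute x (S.Ω vTwo) := by
  simp only [X, Subgroup.mem_centralizer_iff, Set.mem_insert_iff, Set.mem_singleton_iff,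
    forall_eq_or_imp, forall_eq]
  exact ⟨fun h => ⟨h.1.symm, h.2.symm⟩, fun h => ⟨h.1.eq.symm, h.2.eq.symm⟩⟩

theorem X_commute {x : G} (hx : x ∈ S.X) {σ : Perm (Fin 5)} (hσ : InV 4 σ) : Commute x (S.Ω σ) := by
  obtain ⟨h1, h2⟩ := S.mem_X.mp hx
  rcases (inV_four σ).mp hσ with rfl | rfl | rfl | rfl
  · rw [map_one]; exact Commute.one_right _
  · exact h1
  · exact h2
  · rw [show vThree = vOne * vTwo by decide +kernel, map_mul]; exact h1.mul_right h2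

theorem z_mem_X : S.z ∈ S.X := S.mem_X.mpr ⟨S.commute_even (by decide), S.commute_even (by decide)⟩

theorem commute_of_X {x : G} (hx : x ∈ S.X) {i : Fin 3} {π : Perm (Fin 5)}
    (e : x = S.z ^ (i : ℕ) * S.Ω π) : π * vOne = vOne * π ∧ π * vTwo = vTwo * π := by
  have h : S.Ω π ∈ S.X := by
    have := mul_mem (inv_mem (pow_mem S.z_mem_X (i : ℕ))) hx
    rwa [e, inv_mul_cancel_left] at this
  obtain ⟨h1, h2⟩ := S.mem_X.mp h
  exact ⟨S.Ω_inj (by rw [map_mul, map_mul]; exact h1.eq), S.Ω_inj (by rw [map_mul, map_mul]; exact h2.eq)⟩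

theorem cent_X_z {x : G} (hx : x ∈ S.X) (h : Commute x S.z) :
    ∃ (i : Fin 3) (σ : Perm (Fin 5)), InV 4 σ ∧ x = S.z ^ (i : ℕ) * S.Ω σ := by
  obtain ⟨i, σ, hs, e⟩ := S.cent_z h
  obtain ⟨h1, h2⟩ := S.commute_of_X hx e
  exact ⟨i, σ, centralizes_V_even σ hs h1 h2, e⟩

theorem norm_X_z {x : G} (hx : x ∈ S.X) (h : x * S.z * x⁻¹ = S.z ∨ x * S.z * x⁻¹ = S.z⁻¹) :
    Commute x S.z := by
  obtain ⟨i, π, e⟩ := S.norm x h
  obtain ⟨h1, h2⟩ := S.commute_of_X hx e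
  rw [e]
  exact ((Commute.refl S.z).pow_left _).mul_left
    (S.commute_even (centralizes_V_odd π h1 h2)).symm

theorem exists_W : ∃ W : Subgroup G, (∀ x, x ∈ W ↔ x ∈ S.X ∧ ¬ 3 ∣ orderOf x) ∧
    Nat.card W * 3 = Nat.card S.X := by
  haveI := Fact.mk Nat.prime_three
  set z' : S.X := ⟨S.z, S.z_mem_X⟩ with hz'
  have hzo : orderOf z' = 3 := by
    rw [← Subgroup.orderOf_coe]; exact orderOf_eq_prime S.hz S.z_ne
  have hzp : IsPGroup 3 (Subgroup.zpowers z') :=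
    IsPGroup.of_card (n := 1) (by rw [Nat.card_zpowers, hzo, pow_one])
  obtain ⟨P, hP⟩ := hzp.exists_le_sylow
  have hzP : z' ∈ (P : Subgroup S.X) := hP (Subgroup.mem_zpowers _)
  have hPle : (P : Subgroup S.X) ≤ Subgroup.zpowers z' := by
    intro p hp
    have hQ : IsPGroup 3 ((P : Subgroup S.X).map S.X.subtype) := P.2.map _
    have h9 := S.three _ hQ
    rw [Subgroup.card_map_of_injective S.X.subtype_injective] at h9
    obtain ⟨n, hn⟩ := IsPGroup.iff_card.mp P.2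
    have hn2 : n ≤ 2 := by
      rw [hn] at h9
      exact (Nat.pow_le_pow_iff_right (by norm_num : 1 < 3)).mp h9
    have hcomm : IsMulCommutative (P : Subgroup S.X) := by
      rcases (show n = 0 ∨ n = 1 ∨ n = 2 by omega) with rfl | rfl | rfl
      · haveI : Subsingleton (P : Subgroup S.X) := (Nat.card_eq_one_iff_unique.mp hn).1
        exact ⟨⟨fun a b => Subsingleton.elim _ _⟩⟩
      · haveI := isCyclic_of_prime_card (α := (P : Subgroup S.X)) (p := 3) (by rw [hn, pow_one])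
        exact ⟨⟨fun a b => (IsCyclic.commGroup (α := (P : Subgroup S.X))).mul_comm a b⟩⟩
      · exact IsPGroup.isMulCommutative_of_card_eq_prime_sq hn
    have hc : Commute (p : G) S.z := congrArg (fun u : (P : Subgroup S.X) => ((u : S.X) : G))
      (hcomm.is_comm.comm ⟨p, hp⟩ ⟨z', hzP⟩)
    obtain ⟨i, σ, hσ, e⟩ := S.cent_X_z p.2 hc
    have h1 : (p : G) ^ 9 = 1 := by
      rw [← SubgroupClass.coe_pow, show (p : S.X) ^ 9 = 1 from orderOf_dvd_iff_pow_eq_one.mp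
        ((Subgroup.orderOf_dvd_natCard _ hp).trans (by rw [hn]; exact pow_dvd_pow 3 hn2)),
        OneMemClass.coe_one]
    rw [e, ((S.commute_even hσ.2.2).pow_left _).mul_pow, ← pow_mul, mul_comm, pow_mul,
      show S.z ^ 9 = 1 by rw [show 9 = 3 * 3 from rfl, pow_mul, S.hz, one_pow], one_pow, one_mul,
      ← map_pow] at h1
    have h2 : σ ^ 9 = 1 := S.Ω_inj (h1.trans (map_one _).symm)
    have h3 : σ ^ 2 = 1 := by rw [pow_two]; exact hσ.1
    rw [show 9 = 2 * 4 + 1 from rfl, pow_succ, pow_mul, h3, one_pow, one_mul] at h2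
    refine Subgroup.mem_zpowers_iff.mpr ⟨(i : ℕ), Subtype.ext ?_⟩
    rw [zpow_natCast, SubgroupClass.coe_pow, e, h2, map_one, mul_one]
  have hPeq : (P : Subgroup S.X) = Subgroup.zpowers z' := le_antisymm hPle hP
  have hN : Subgroup.normalizer ((P : Subgroup S.X) : Set S.X) ≤
      Subgroup.centralizer ((P : Subgroup S.X) : Set S.X) := by
    intro x hx p hp
    have h1 : x * z' * x⁻¹ ∈ Subgroup.zpowers z' := hPle ((Subgroup.mem_normalizer_iff.mp hx z').mp hzP)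
    obtain ⟨k, hk⟩ := Subgroup.mem_zpowers_iff.mp h1
    have h2 : (x : G) * S.z * (x : G)⁻¹ = S.z ^ k := by
      simpa [hz'] using (congrArg Subtype.val hk).symm
    have h3 : Commute (x : G) S.z := by
      refine S.norm_X_z x.2 ?_
      have h3 : S.z ^ (3 : ℤ) = 1 := by exact_mod_cast S.hz
      rw [zpow_eq_zpow_emod k h3] at h2
      rcases (show k % 3 = 0 ∨ k % 3 = 1 ∨ k % 3 = 2 by omega) with e | e | e <;> rw [e] at h2
      · rw [zpow_zero, conj_eq_one_iff] at h2; exact absurd h2 S.z_ne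
      · rw [zpow_one] at h2; exact Or.inl h2
      · refine Or.inr (h2.trans (eq_inv_of_mul_eq_one_left ?_))
        rw [← zpow_add_one]; exact h3
    obtain ⟨l, rfl⟩ := Subgroup.mem_zpowers_iff.mp (hPle hp)
    have h4 : Commute x z' := Subtype.ext h3.eq
    exact ((h4.zpow_right l).eq).symm
  set K := (MonoidHom.transferSylow P hN).ker with hK
  have hK3 : ¬ 3 ∣ Nat.card K := MonoidHom.not_dvd_card_ker_transferSylow P hN
  have hidx : K.index = 3 := by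
    rw [(MonoidHom.ker_transferSylow_isComplement' P hN).symm.index_eq_card, hPeq, Nat.card_zpowers, hzo]
  have hcard : Nat.card (K.map S.X.subtype) = Nat.card K :=
    Subgroup.card_map_of_injective S.X.subtype_injective
  refine ⟨K.map S.X.subtype, fun x => ⟨?_, ?_⟩, ?_⟩
  · rintro ⟨k, hk, rfl⟩
    refine ⟨k.2, fun hd => hK3 (hd.trans ?_)⟩
    show orderOf (k : G) ∣ _
    rw [Subgroup.orderOf_coe]
    exact Subgroup.orderOf_dvd_natCard K hk
  · rintro ⟨hx, h3⟩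
    refine ⟨⟨x, hx⟩, ?_, rfl⟩
    rw [SetLike.mem_coe, ← QuotientGroup.eq_one_iff, ← orderOf_eq_one_iff]
    have h1 := orderOf_dvd_natCard (((⟨x, hx⟩ : S.X)) : S.X ⧸ K)
    have h2 : orderOf (((⟨x, hx⟩ : S.X)) : S.X ⧸ K) ∣ orderOf x :=
      (orderOf_map_dvd (QuotientGroup.mk' K) _).trans (by rw [Subgroup.orderOf_mk])
    rw [← Subgroup.index_eq_card, hidx, Nat.dvd_prime Nat.prime_three] at h1
    rcases h1 with h1 | h1
    · exact h1
    · rw [h1] at h2; exact absurd h2 h3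
  · rw [hcard, ← hidx, Subgroup.card_mul_index]

/-- The normal `3`-complement of the centralizer of the Klein four group. -/
noncomputable def W : Subgroup G := Classical.choose S.exists_W

theorem mem_W {x : G} : x ∈ S.W ↔ x ∈ S.X ∧ ¬ 3 ∣ orderOf x :=
  (Classical.choose_spec S.exists_W).1 x

theorem card_W : Nat.card S.W * 3 = Nat.card S.X := (Classical.choose_spec S.exists_W).2

theorem three_W : ¬ 3 ∣ Nat.card S.W := by
  intro h
  haveI := Fact.mk Nat.prime_three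
  obtain ⟨x, hx⟩ := exists_prime_orderOf_dvd_card' (G := S.W) 3 h
  exact (S.mem_W.mp x.2).2 (by rw [Subgroup.orderOf_coe, hx])

theorem V4_le_W : S.V4 ≤ S.W := by
  rintro _ ⟨σ, hσ, rfl⟩
  have hsq : S.Ω σ ^ 2 = 1 := by rw [pow_two, ← map_mul, hσ.1, map_one]
  refine S.mem_W.mpr ⟨S.mem_X.mpr ⟨?_, ?_⟩, fun h => ?_⟩
  · exact congrArg S.Ω (inV_four_mul σ vOne hσ (by decide)).2 |> fun e => by
      rw [map_mul, map_mul] at e; exact e
  · exact congrArg S.Ω (inV_four_mul σ vTwo hσ (by decide)).2 |> fun e => by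
      rw [map_mul, map_mul] at e; exact e
  · exact absurd (h.trans (orderOf_dvd_of_pow_eq_one hsq)) (by decide)

theorem W_commute_V4 {w v : G} (hw : w ∈ S.W) (hv : v ∈ S.V4) : Commute w v := by
  obtain ⟨σ, hσ, rfl⟩ := hv
  exact S.X_commute (S.mem_W.mp hw).1 hσ

theorem W_cent_z {w : G} (hw : w ∈ S.W) (h : Commute w S.z) : w ∈ S.V4 := by
  obtain ⟨i, σ, hσ, e⟩ := S.cent_X_z (S.mem_W.mp hw).1 h
  refine ⟨σ, hσ, ?_⟩
  have h1 : w ^ 2 = 1 := by
    refine three_free S.three_W (pow_mem hw 2) ?_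
    rw [e, ← pow_mul, ((S.commute_even hσ.2.2).pow_left _).mul_pow, ← pow_mul, ← map_pow,
      show (i : ℕ) * (2 * 3) = 3 * (2 * i) by ring, pow_mul, S.hz, one_pow, one_mul, pow_mul σ 2 3,
      pow_two, hσ.1, one_pow, map_one]
  rw [e, ((S.commute_even hσ.2.2).pow_left _).mul_pow, pow_two (S.Ω σ), ← map_mul, hσ.1, map_one,
    mul_one, ← pow_mul] at h1
  rw [S.pow_z_eq (n := ⟨((i : ℕ) * 2) % 3, Nat.mod_lt _ (by norm_num)⟩) rfl] at h1
  have h2 := (S.uniq _ 1 (by rw [h1, map_one, mul_one])).1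
  have h3 : ((i : ℕ) * 2) % 3 = 0 := congrArg Fin.val h2
  have h4 : i = 0 := Fin.ext (by have := i.2; simp only [Fin.val_zero]; omega)
  rw [e, h4, Fin.val_zero, pow_zero, one_mul]

/-- Permutations fixing the last point normalize the complement. -/
theorem Ω_mem_normalizer {π : Perm (Fin 5)} (hπ : π 4 = 4) :
    S.Ω π ∈ Subgroup.normalizer (S.W : Set G) := by
  have key : ∀ ρ : Perm (Fin 5), ρ 4 = 4 → ∀ x ∈ S.W, S.Ω ρ * x * (S.Ω ρ)⁻¹ ∈ S.W := by
    intro ρ hρ x hx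
    have hρ' : ρ⁻¹ 4 = 4 := by rw [Perm.inv_eq_iff_eq, hρ]
    have hcom : ∀ v, InV 4 v → Commute (S.Ω ρ * x * (S.Ω ρ)⁻¹) (S.Ω v) := by
      intro v hv
      have h1 := (S.X_commute (S.mem_W.mp hx).1 (conj_inV_four ρ⁻¹ hρ' v hv)).map
        (MulAut.conj (S.Ω ρ)).toMonoidHom
      simp only [MulEquiv.coe_toMonoidHom, MulAut.conj_apply, map_mul, map_inv] at h1
      simpa [mul_assoc] using h1
    refine S.mem_W.mpr ⟨S.mem_X.mpr ⟨hcom _ (by decide), hcom _ (by decide)⟩, ?_⟩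
    rw [show S.Ω ρ * x * (S.Ω ρ)⁻¹ = MulAut.conj (S.Ω ρ) x from rfl, MulEquiv.orderOf_eq]
    exact (S.mem_W.mp hx).2
  refine Subgroup.mem_normalizer_iff.mpr fun x => ⟨key π hπ x, fun h => ?_⟩
  have := key π⁻¹ (by rw [Perm.inv_eq_iff_eq, hπ]) _ h
  rwa [map_inv, inv_inv, show (S.Ω π)⁻¹ * (S.Ω π * x * (S.Ω π)⁻¹) * S.Ω π = x by group] at this

theorem a_normalizer : S.a ∈ Subgroup.normalizer (S.W : Set G) :=
  S.ha ▸ S.Ω_mem_normalizer (by decide)

theorem z_normalizer : S.z ∈ Subgroup.normalizer (S.W : Set G) := by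
  have key : ∀ u, u ∈ S.X → ∀ x ∈ S.W, u * x * u⁻¹ ∈ S.W := fun u hu x hx => by
    refine S.mem_W.mpr ⟨mul_mem (mul_mem hu (S.mem_W.mp hx).1) (inv_mem hu), ?_⟩
    rw [show u * x * u⁻¹ = MulAut.conj u x from rfl, MulEquiv.orderOf_eq]
    exact (S.mem_W.mp hx).2
  refine Subgroup.mem_normalizer_iff.mpr fun x => ⟨key _ S.z_mem_X x, fun h => ?_⟩
  have := key _ (inv_mem S.z_mem_X) _ h
  rwa [inv_inv, show S.z⁻¹ * (S.z * x * S.z⁻¹) * S.z = x by group] at this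

/-- The part centralized by `a`. -/
noncomputable def U : Subgroup G := S.W ⊓ Subgroup.centralizer ({S.a} : Set G)

theorem mem_U {x : G} : x ∈ S.U ↔ x ∈ S.W ∧ Commute x S.a :=
  Subgroup.mem_inf.trans (and_congr Iff.rfl Subgroup.mem_centralizer_singleton_iff)

theorem z_conj_U {x : G} (hx : x ∈ S.U) : S.z * x * S.z⁻¹ ∈ S.U := by
  obtain ⟨h1, h2⟩ := S.mem_U.mp hx
  refine S.mem_U.mpr ⟨(Subgroup.mem_normalizer_iff.mp S.z_normalizer x).mp h1, ?_⟩
  exact (S.za_comm.mul_left h2).mul_left S.za_comm.inv_left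

theorem inV_mul_self {q : Fin 5} {σ : Perm (Fin 5)} (h : InV q σ) : S.τ (S.Ω σ) * S.τ (S.Ω σ) = 1 := by
  rw [← map_mul, ← map_mul, h.1, map_one, map_one]

theorem U_cases : (∀ u ∈ S.U, u = 1) ∨
    ∃ q : Fin 5, (q = 3 ∨ q = 4) ∧ ∀ u, u ∈ S.U ↔ ∃ σ, InV q σ ∧ u = S.τ (S.Ω σ) := by
  rw [or_iff_not_imp_left]
  intro h
  push Not at h
  obtain ⟨u, hu, hu1⟩ := h
  set W' := S.W.map S.τ.toMonoidHom with hW'
  have h3 : ¬ 3 ∣ Nat.card W' := by
    rw [hW', Subgroup.card_map_of_injective S.τ.injective]; exact S.three_W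
  have ha' : S.a ∈ Subgroup.normalizer (W' : Set G) :=
    Subgroup.le_normalizer_map _ ⟨S.z, S.z_normalizer, S.τ_z⟩
  have part : ∀ x ∈ S.U, ∃ σ, x = S.τ (S.Ω σ) ∧ (InV 3 σ ∨ InV 4 σ) := by
    intro x hx
    obtain ⟨h1, h2⟩ := S.mem_U.mp hx
    have hc : Commute (S.τ x) S.z := S.τ_a ▸ h2.map S.τ.toMonoidHom
    obtain ⟨σ, e, h⟩ := S.cent_z_part h3 ha' ⟨x, h1, rfl⟩ hc
    exact ⟨σ, by rw [← e]; exact (S.τ_τ x).symm, h⟩
  have inj : ∀ {σ ρ : Perm (Fin 5)}, S.τ (S.Ω σ) = S.τ (S.Ω ρ) → σ = ρ := fun e =>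
    S.Ω_inj (S.τ.injective e)
  obtain ⟨σ, rfl, hσ⟩ := part u hu
  have hσ1 : σ ≠ 1 := fun e => hu1 (by rw [e, map_one, map_one])
  obtain ⟨q, hq, hσq⟩ : ∃ q : Fin 5, (q = 3 ∨ q = 4) ∧ InV q σ := by
    rcases hσ with h | h
    · exact ⟨3, Or.inl rfl, h⟩
    · exact ⟨4, Or.inr rfl, h⟩
  refine ⟨q, hq, fun x => ⟨fun hx => ?_, ?_⟩⟩
  · obtain ⟨ρ, rfl, hρ⟩ := part x hx
    refine ⟨ρ, ?_, rfl⟩
    by_contra hne
    have hρ1 : ρ ≠ 1 := fun e => hne (e ▸ ⟨one_mul 1, rfl, map_one _⟩)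
    obtain ⟨π, hπ, hπ'⟩ := part _ (mul_mem hu hx)
    rw [← map_mul, ← map_mul] at hπ
    obtain rfl := inj hπ
    obtain ⟨π2, hπ2, hπ2'⟩ := part _ (mul_mem hx hu)
    rw [← map_mul, ← map_mul] at hπ2
    obtain rfl := inj hπ2
    rcases hq with rfl | rfl
    · have h4 : InV 4 ρ := hρ.resolve_left hne
      exact (mix_outside σ ρ hσq h4 hσ1 hρ1).elim fun a b => hπ'.elim a b
    · have h4 : InV 3 ρ := hρ.resolve_right hne
      exact (mix_outside ρ σ h4 hσq hρ1 hσ1).elim fun a b => hπ2'.elim a b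
  · rintro ⟨ρ, hρ, rfl⟩
    have hconj : ∀ π : Perm (Fin 5), S.τ (S.Ω π) ∈ S.U →
        S.τ (S.Ω (cA * π * cA⁻¹)) ∈ S.U := fun π hπ => by
      rw [map_mul, map_mul, map_inv, map_mul, map_mul, map_inv, ← S.ha, S.τ_a]
      exact S.z_conj_U hπ
    rcases eq_or_ne ρ 1 with rfl | hρ1
    · rw [map_one, map_one]; exact one_mem _
    rcases orbit_inV q hq σ ρ hσq hσ1 hρ hρ1 with rfl | rfl | rfl
    · exact hu
    · exact hconj _ hu
    · have h2 := hconj _ (hconj _ hu)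
      rwa [show cA * (cA * σ * cA⁻¹) * cA⁻¹ = cA⁻¹ * σ * cA by
        rw [show cA⁻¹ = cA * cA by decide +kernel]
        calc cA * (cA * σ * (cA * cA)) * (cA * cA) = cA * cA * σ * (cA * cA * cA) * cA := by group
          _ = cA * cA * σ * cA := by rw [show cA * cA * cA = 1 by decide +kernel, mul_one]] at h2

theorem U_sq {u : G} (hu : u ∈ S.U) : u * u = 1 := by
  rcases S.U_cases with h | ⟨q, -, h⟩
  · rw [h u hu, one_mul]
  · obtain ⟨σ, hσ, rfl⟩ := (h u).mp hu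
    exact S.inV_mul_self hσ

theorem U_comm {u v : G} (hu : u ∈ S.U) (hv : v ∈ S.U) : Commute u v := by
  have h := S.U_sq (mul_mem hu hv)
  have e1 : u⁻¹ = u := inv_eq_of_mul_eq_one_right (S.U_sq hu)
  have e2 : v⁻¹ = v := inv_eq_of_mul_eq_one_right (S.U_sq hv)
  have e3 : (u * v)⁻¹ = u * v := inv_eq_of_mul_eq_one_right h
  rw [mul_inv_rev, e1, e2] at e3
  exact e3.symm

theorem V4_inf_U {x : G} (hx : x ∈ S.V4) (hx' : x ∈ S.U) : x = 1 := by
  obtain ⟨σ, hσ, rfl⟩ := hx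
  have h : S.Ω (σ * cA) = S.Ω (cA * σ) := by
    rw [map_mul, map_mul, ← S.ha]; exact (S.mem_U.mp hx').2.eq
  rw [inV_sq_cube σ hσ.1 (only_one_fixed σ hσ.2.2 (S.Ω_inj h)), map_one]

theorem exists_mul {w : G} (hw : w ∈ S.W) : ∃ v ∈ S.V4, ∃ u ∈ S.U, w = v * u := by
  have hle : S.W ≤ S.V4 ⊔ S.U := by
    refine S.signalizer_le S.three_W S.z_normalizer S.a_normalizer
      (fun w hw h => Subgroup.mem_sup_left (S.W_cent_z hw h))
      (fun w hw h => Subgroup.mem_sup_right (S.mem_U.mpr ⟨hw, h⟩))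
  have h := hle hw
  clear hw
  rw [Subgroup.sup_eq_closure] at h
  induction h using Subgroup.closure_induction with
  | mem x hx =>
    rcases hx with hx | hx
    · exact ⟨x, hx, 1, one_mem _, (mul_one x).symm⟩
    · exact ⟨1, one_mem _, x, hx, (one_mul x).symm⟩
  | one => exact ⟨1, one_mem _, 1, one_mem _, (mul_one 1).symm⟩
  | mul x y _ _ hx hy =>
    obtain ⟨v, hv, u, hu, rfl⟩ := hx
    obtain ⟨v', hv', u', hu', rfl⟩ := hy
    exact ⟨v * v', mul_mem hv hv', u * u', mul_mem hu hu',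
      (S.W_commute_V4 (S.mem_U.mp hu).1 hv').mul_mul_mul_comm v u'⟩
  | inv x _ hx =>
    obtain ⟨v, hv, u, hu, rfl⟩ := hx
    exact ⟨v⁻¹, inv_mem hv, u⁻¹, inv_mem hu,
      ((S.W_commute_V4 (S.mem_U.mp hu).1 hv).symm.mul_inv)⟩

theorem W_sq {w : G} (hw : w ∈ S.W) : w * w = 1 := by
  obtain ⟨v, hv, u, hu, rfl⟩ := S.exists_mul hw
  rw [(S.W_commute_V4 (S.mem_U.mp hu).1 hv).mul_mul_mul_comm v u, S.U_sq hu, mul_one]
  obtain ⟨σ, hσ, rfl⟩ := hv
  rw [← map_mul, hσ.1, map_one]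

theorem W_commute {w w' : G} (hw : w ∈ S.W) (hw' : w' ∈ S.W) : Commute w w' := by
  have e1 : w⁻¹ = w := inv_eq_of_mul_eq_one_right (S.W_sq hw)
  have e2 : w'⁻¹ = w' := inv_eq_of_mul_eq_one_right (S.W_sq hw')
  have e3 : (w * w')⁻¹ = w * w' := inv_eq_of_mul_eq_one_right (S.W_sq (mul_mem hw hw'))
  rw [mul_inv_rev, e1, e2] at e3
  exact e3.symm

end CfsgLib.AltEightThree.Setup
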