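import Cfsg.Agent.Lib.AltEightThree.TwoNontriv
import Cfsg.Agent.Lib.AltPres.Carmichael
import Cfsg.Agent.Lib.SpinAlt.Cover

/-!
# The involutions attached to the five points and the homomorphism from the alternating group
-/

set_option autoImplicit false
set_option linter.unusedSectionVars false
set_option maxHeartbeats 1000000
set_option maxRecDepth 10000
set_option synthInstance.maxSize 4000
set_option synthInstance.maxHeartbeats 400000

open Equiv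

namespace CfsgLib.AltEightThree

/-- An even involution inverting the three-cycle. -/
abbrev EpsOK (ε : Perm (Fin 5)) : Prop := Perm.sign ε = 1 ∧ ε * ε = 1 ∧ ε * cA * ε = cA⁻¹

/-- An odd involution inverting the three-cycle. -/
abbrev PhiOK (φ : Perm (Fin 5)) : Prop := Perm.sign φ = -1 ∧ φ * φ = 1 ∧ φ * cA * φ = cA⁻¹

theorem exists_sigma : ∀ ε : Perm (Fin 5), EpsOK ε → ∀ φ : Perm (Fin 5), PhiOK φ → φ * ε = ε * φ →
    ∀ q : Fin 5, (q = 3 ∨ q = 4) → ∃ σ : Perm (Fin 5), InV q σ ∧ σ ≠ 1 ∧ φ * σ = σ * φ ∧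
      (σ * (ε * σ * ε)) ^ 3 = 1 ∧ σ * (ε * σ * ε) * σ = ε := by decide +kernel

theorem stab_four : ∀ π : Perm (Fin 5), π 4 = 4 → ∃ σ : Perm (Fin 5), InV 4 σ ∧ ∃ k : Fin 3,
    π = σ * cA ^ (k : ℕ) ∨ π = σ * cA ^ (k : ℕ) * swap 0 1 := by decide +kernel

theorem exists_even_to : ∀ p : Fin 5, ∃ π : Perm (Fin 5), Perm.sign π = 1 ∧ π 4 = p := by decide +kernel

theorem exists_pair_to : ∀ p q : Fin 5, p ≠ q →
    ∃ π : Perm (Fin 5), π 4 = p ∧ π 3 = q ∧ π * swap 3 4 * π⁻¹ = swap p q := by decide +kernel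

/-- Points of the five in the eight. -/
def pt (p : Fin 5) : Fin 8 := finSumFinEquiv (Sum.inr p : Fin 3 ⊕ Fin 5)

/-- The three-cycles `(0 1 i)`. -/
def xA : Option (Fin 5) → alternatingGroup (Fin 8)
  | none => ⟨swap 0 2 * swap 0 1, Perm.mem_alternatingGroup.mpr (by decide)⟩
  | some p => ⟨swap 0 (pt p) * swap 0 1, Perm.mem_alternatingGroup.mpr (by revert p; decide)⟩

theorem xA_three : ∀ i, xA i * xA i * xA i = 1 := by decide +kernel

theorem xA_pair : ∀ i j, i ≠ j → xA i * xA j * (xA i * xA j) = 1 := by decide +kernel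

/-- The involutions `(0 1)(2 p)`. -/
def uA (p : Fin 5) : alternatingGroup (Fin 8) := ⟨swap 0 1 * swap 2 (pt p), Perm.mem_alternatingGroup.mpr (by revert p; decide)⟩

theorem uA_eq : ∀ p, uA p = xA none * (xA none * xA (some p)) * (xA none)⁻¹ := by decide +kernel

/-- The embedding of the five points. -/
def ιA : Perm (Fin 5) →* alternatingGroup (Fin 8) where
  toFun π := ⟨finSumFinEquiv.permCongr (Perm.sumCongr (sgnS π) π), by
    rw [Perm.mem_alternatingGroup, Perm.sign_permCongr, Perm.sign_sumCongr, sign_sgnS]⟩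
  map_one' := by decide +kernel
  map_mul' π ρ := Subtype.ext (by
    show _ = finSumFinEquiv.permCongr _ * finSumFinEquiv.permCongr _
    rw [sgnS_mul, ← Perm.sumCongr_mul]
    ext x
    simp [Equiv.permCongr_apply])

theorem ιA_swap : ∀ p q, p ≠ q → ιA (swap p q) = uA p * uA q * uA p := by decide +kernel

theorem alt_generated : Subgroup.closure (Set.range xA) = ⊤ := by
  apply Subgroup.map_injective (alternatingGroup (Fin 8)).subtype_injective
  rw [← MonoidHom.range_eq_map, Subgroup.range_subtype]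
  refine le_antisymm ?_ ((SpinAlt.alt_le_closure (a := (0 : Fin 8)) (b := 1) (by decide)).trans ?_)
  · rintro _ ⟨x, -, rfl⟩; exact x.2
  · rw [Subgroup.closure_le]
    rintro _ ⟨i, hi0, hi1, rfl⟩
    have : i = 2 ∨ ∃ p, i = pt p := by revert i; decide
    rcases this with rfl | ⟨p, rfl⟩
    · exact ⟨xA none, Subgroup.subset_closure ⟨none, rfl⟩, rfl⟩
    · exact ⟨xA (some p), Subgroup.subset_closure ⟨some p, rfl⟩, rfl⟩

end CfsgLib.AltEightThree

namespace CfsgLib.AltEightThree.Setup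

variable {G : Type*} [Group G] [Finite G] (S : Setup G)

theorem swap_coords {π : Perm (Fin 5)} (hπ : π * π = 1) (ha : π * cA * π = cA ∨ π * cA * π = cA⁻¹) :
    ∃ (i : Fin 3) (φ : Perm (Fin 5)), S.τ (S.Ω π) = S.z ^ (i : ℕ) * S.Ω φ ∧
      (Perm.sign π = 1 → φ * cA * φ⁻¹ = cA) ∧ (Perm.sign π ≠ 1 → φ * cA * φ⁻¹ = cA⁻¹) ∧
      (π * cA * π = cA → Perm.sign φ = 1) ∧ (π * cA * π = cA⁻¹ → Perm.sign φ = -1) := by
  have hinv : π⁻¹ = π := inv_eq_of_mul_eq_one_right hπ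
  have h2 : S.τ (S.Ω π) * S.z * (S.τ (S.Ω π))⁻¹ = S.τ (S.Ω (π * cA * π)) := by
    rw [← S.τ_a, ← map_inv S.τ, ← map_mul, ← map_mul, S.ha, ← map_inv, ← map_mul, ← map_mul, hinv]
  have hz : S.τ (S.Ω π) * S.z * (S.τ (S.Ω π))⁻¹ = S.z ∨
      S.τ (S.Ω π) * S.z * (S.τ (S.Ω π))⁻¹ = S.z⁻¹ := by
    rcases ha with e | e
    · left; rw [h2, e, ← S.ha, S.τ_a]
    · right; rw [h2, e, map_inv, ← S.ha, map_inv, S.τ_a]
  obtain ⟨i, φ, e⟩ := S.norm _ hz
  refine ⟨i, φ, e, ?_⟩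
  have hza : S.τ (S.Ω π) * S.a * (S.τ (S.Ω π))⁻¹ = S.Ω (φ * cA * φ⁻¹) := by
    rw [e, S.ha, map_mul, map_mul, map_inv, mul_inv_rev]
    have : Commute (S.z ^ (i : ℕ)) (S.Ω φ * S.Ω cA * (S.Ω φ)⁻¹) := by
      rw [← map_inv, ← map_mul, ← map_mul]
      exact (S.commute_even (by simp [show Perm.sign cA = 1 by decide +kernel])).pow_left _
    calc S.z ^ (i : ℕ) * S.Ω φ * S.Ω cA * ((S.Ω φ)⁻¹ * (S.z ^ (i : ℕ))⁻¹)
        = S.z ^ (i : ℕ) * (S.Ω φ * S.Ω cA * (S.Ω φ)⁻¹) * (S.z ^ (i : ℕ))⁻¹ := by group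
      _ = _ := by rw [this.eq, mul_inv_cancel_right]
  have hc := S.conj_z π
  have h4 : S.τ (S.Ω π) * S.a * (S.τ (S.Ω π))⁻¹ = S.τ (if Perm.sign π = 1 then S.z else S.z⁻¹) := by
    rw [← hc, ← S.τ_z, map_mul, map_mul, map_inv]
  rw [hza] at h4
  have h5 : S.τ (S.Ω π) * S.z * (S.τ (S.Ω π))⁻¹ = if Perm.sign φ = 1 then S.z else S.z⁻¹ := by
    rw [e, mul_inv_rev, ← S.conj_z φ]
    calc S.z ^ (i : ℕ) * S.Ω φ * S.z * ((S.Ω φ)⁻¹ * (S.z ^ (i : ℕ))⁻¹)
        = S.z ^ (i : ℕ) * (S.Ω φ * S.z * (S.Ω φ)⁻¹) * (S.z ^ (i : ℕ))⁻¹ := by group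
      _ = _ := by
        rw [S.conj_z φ]
        split_ifs
        · rw [((Commute.refl S.z).pow_left _).eq, mul_inv_cancel_right]
        · rw [((Commute.refl S.z).inv_right.pow_left _).eq, mul_inv_cancel_right]
  rw [h2] at h5
  refine ⟨fun hs => ?_, fun hs => ?_, fun he => ?_, fun he => ?_⟩
  · rw [if_pos hs, S.τ_z, S.ha] at h4; exact S.Ω_inj h4
  · rw [if_neg hs, map_inv, S.τ_z, S.ha, ← map_inv] at h4; exact S.Ω_inj h4
  · rw [he, ← S.ha, S.τ_a] at h5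
    by_contra hs
    rw [if_neg hs] at h5
    exact S.z_inv_ne h5.symm
  · rw [he, map_inv, ← S.ha, map_inv, S.τ_a] at h5
    rcases Int.units_eq_one_or (Perm.sign φ) with hs | hs
    · rw [if_pos hs] at h5; exact absurd h5 S.z_inv_ne
    · exact hs

theorem invol_coord {i : Fin 3} {φ : Perm (Fin 5)} (h : Perm.sign φ = 1) {x : G}
    (hx : x = S.z ^ (i : ℕ) * S.Ω φ) (h2 : x * x = 1) : i = 0 ∧ φ * φ = 1 := by
  rw [hx, ((S.commute_even h).pow_left (i : ℕ)).symm.mul_mul_mul_comm, ← pow_add, ← map_mul,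
    S.pow_z_eq (n := ⟨((i : ℕ) + i) % 3, Nat.mod_lt _ (by norm_num)⟩) rfl] at h2
  obtain ⟨hi, hσ2⟩ := S.uniq _ _ h2
  have hi' : ((i : ℕ) + i) % 3 = 0 := congrArg Fin.val hi
  exact ⟨Fin.ext (by have := i.2; simp only [Fin.val_zero]; omega), hσ2⟩

theorem invol_odd {i : Fin 3} {φ : Perm (Fin 5)} (h : Perm.sign φ = -1) {x : G}
    (hx : x = S.z ^ (i : ℕ) * S.Ω φ) (h2 : x * x = 1) : φ * φ = 1 := by
  have hc := (S.conj_z φ).trans (if_neg (by rw [h]; decide))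
  have hp : S.Ω φ * S.z ^ (i : ℕ) * (S.Ω φ)⁻¹ = (S.z ^ (i : ℕ))⁻¹ := by
    rw [← conj_pow, hc, inv_pow]
  rw [hx, show S.z ^ (i : ℕ) * S.Ω φ * (S.z ^ (i : ℕ) * S.Ω φ)
    = S.z ^ (i : ℕ) * (S.Ω φ * S.z ^ (i : ℕ) * (S.Ω φ)⁻¹) * (S.Ω φ * S.Ω φ) by group, hp,
    mul_inv_cancel, one_mul, ← map_mul] at h2
  exact S.Ω_inj (h2.trans (map_one _).symm)

theorem exists_base : ∃ u : G, u ∈ S.U ∧ u ≠ 1 ∧ (∀ π : Perm (Fin 5), π 4 = 4 → Commute (S.Ω π) u) ∧
    (u * (S.Ω (swap 3 4) * u * S.Ω (swap 3 4))) ^ 3 = 1 ∧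
    u * (S.Ω (swap 3 4) * u * S.Ω (swap 3 4)) * u = S.Ω (swap 3 4) := by
  obtain ⟨q, hq, hU⟩ := S.exists_q
  obtain ⟨i, ε, he, -, heA, heS, -⟩ := S.swap_coords (π := swap 3 4) (swap_mul_self _ _)
    (Or.inl (by decide +kernel))
  have hεs := heS (by decide +kernel)
  have he2 : S.τ (S.Ω (swap 3 4)) * S.τ (S.Ω (swap 3 4)) = 1 := by
    rw [← map_mul, ← map_mul, swap_mul_self, map_one, map_one]
  obtain ⟨rfl, hεε⟩ := S.invol_coord hεs he he2
  rw [Fin.val_zero, pow_zero, one_mul] at he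
  have hεA : ε * cA * ε = cA⁻¹ := by
    have := heA (by decide +kernel)
    rwa [inv_eq_of_mul_eq_one_right hεε] at this
  obtain ⟨j, φ, hf, -, hfA, -, hfS⟩ := S.swap_coords (π := swap 0 1) (swap_mul_self _ _)
    (Or.inr (by decide +kernel))
  have hφs := hfS (by decide +kernel)
  have hφφ : φ * φ = 1 := S.invol_odd hφs hf (by
    rw [← map_mul, ← map_mul, swap_mul_self, map_one, map_one])
  have hφA : φ * cA * φ = cA⁻¹ := by
    have := hfA (by decide +kernel)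
    rwa [inv_eq_of_mul_eq_one_right hφφ] at this
  have hzε : Commute S.z (S.Ω ε) := S.commute_even hεs
  have hcomm : φ * ε = ε * φ := by
    refine S.Ω_inj ?_
    have h1 : S.τ (S.Ω (swap 0 1)) * S.τ (S.Ω (swap 3 4)) = S.τ (S.Ω (swap 3 4)) * S.τ (S.Ω (swap 0 1)) := by
      rw [← map_mul, ← map_mul, ← map_mul, ← map_mul,
        show swap (0 : Fin 5) 1 * swap 3 4 = swap 3 4 * swap 0 1 by decide +kernel]
    rw [he, hf, mul_assoc, ← mul_assoc (S.Ω ε), ← ((hzε.pow_left (j : ℕ))).eq, mul_assoc,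
      mul_right_inj] at h1
    rw [map_mul, map_mul]; exact h1
  obtain ⟨σ, hσ, hσ1, hφσ, h3, hbr⟩ := exists_sigma ε ⟨hεs, hεε, hεA⟩ φ ⟨hφs, hφφ, hφA⟩ hcomm q hq
  have hu : S.τ (S.Ω σ) ∈ S.U := (hU _).mpr ⟨σ, hσ, rfl⟩
  obtain ⟨hW, hua⟩ := S.mem_U.mp hu
  have hsw : Commute (S.Ω (swap 0 1)) (S.τ (S.Ω σ)) := by
    have h1 : Commute (S.τ (S.Ω (swap 0 1))) (S.Ω σ) := by
      rw [hf]
      exact ((S.commute_even hσ.2.2).pow_left _).mul_left (show Commute (S.Ω φ) (S.Ω σ) by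
        show _ = _; rw [← map_mul, ← map_mul, hφσ])
    have := h1.map S.τ.toMonoidHom
    simp only [MulEquiv.coe_toMonoidHom] at this
    rwa [S.τ_τ] at this
  have e34 : S.Ω (swap 3 4) * S.τ (S.Ω σ) * S.Ω (swap 3 4) = S.τ (S.Ω (ε * σ * ε)) := by
    apply S.τ.injective
    rw [S.τ_τ, map_mul, map_mul, S.τ_τ, he, ← map_mul, ← map_mul]
  refine ⟨_, hu, fun h => hσ1 (S.Ω_inj ((MulEquiv.map_eq_one_iff S.τ).mp h |>.trans (map_one _).symm)),
    fun π hπ => ?_, ?_, ?_⟩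
  · obtain ⟨v, hv, k, hk⟩ := stab_four π hπ
    have c1 : Commute (S.Ω v) (S.τ (S.Ω σ)) := (S.W_commute_V4 hW ⟨v, hv, rfl⟩).symm
    have c2 : Commute (S.Ω v * S.Ω cA ^ (k : ℕ)) (S.τ (S.Ω σ)) :=
      c1.mul_left ((S.ha ▸ hua.symm).pow_left _)
    rcases hk with rfl | rfl
    · rw [map_mul, map_pow]; exact c2
    · rw [map_mul, map_mul, map_pow]; exact c2.mul_left hsw
  · rw [e34, ← map_mul, ← map_mul, ← map_pow, ← map_pow, h3, map_one, map_one]
  · rw [e34, ← map_mul, ← map_mul, ← map_mul, ← map_mul, hbr, ← he, S.τ_τ]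

/-- The involution of the last point. -/
noncomputable def base : G := Classical.choose S.exists_base

theorem base_spec : S.base ∈ S.U ∧ S.base ≠ 1 ∧ (∀ π : Perm (Fin 5), π 4 = 4 → Commute (S.Ω π) S.base) ∧
    (S.base * (S.Ω (swap 3 4) * S.base * S.Ω (swap 3 4))) ^ 3 = 1 ∧
    S.base * (S.Ω (swap 3 4) * S.base * S.Ω (swap 3 4)) * S.base = S.Ω (swap 3 4) :=
  Classical.choose_spec S.exists_base

/-- The involution of a point. -/
noncomputable def u (p : Fin 5) : G := S.Ω (swap 4 p) * S.base * S.Ω (swap 4 p)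

theorem u_eq {π : Perm (Fin 5)} {p : Fin 5} (h : π 4 = p) : S.u p = S.Ω π * S.base * (S.Ω π)⁻¹ := by
  have hc := S.base_spec.2.2.1 (swap 4 p * π) (by rw [Perm.mul_apply, h, swap_apply_right])
  have e : S.Ω π = S.Ω (swap 4 p) * S.Ω (swap 4 p * π) := by
    rw [← map_mul, ← mul_assoc, swap_mul_self, one_mul]
  have hi : (S.Ω (swap 4 p))⁻¹ = S.Ω (swap 4 p) := by rw [← map_inv, swap_inv]
  rw [e, mul_inv_rev, hi, u, show S.Ω (swap 4 p) * S.Ω (swap 4 p * π) * S.base *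
    ((S.Ω (swap 4 p * π))⁻¹ * S.Ω (swap 4 p)) = S.Ω (swap 4 p) * (S.Ω (swap 4 p * π) * S.base *
      (S.Ω (swap 4 p * π))⁻¹) * S.Ω (swap 4 p) by group, hc.eq, mul_inv_cancel_right]

theorem u_conj (π : Perm (Fin 5)) (p : Fin 5) : S.Ω π * S.u p * (S.Ω π)⁻¹ = S.u (π p) := by
  rw [S.u_eq (π := swap 4 p) (swap_apply_left 4 p),
    S.u_eq (π := π * swap 4 p) (by rw [Perm.mul_apply, swap_apply_left]), map_mul, mul_inv_rev]
  group

theorem u_four : S.u 4 = S.base := by rw [u, swap_self, show (Equiv.refl (Fin 5)) = (1 : Perm (Fin 5)) from rfl, map_one, one_mul, mul_one]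

theorem u_sq (p : Fin 5) : S.u p * S.u p = 1 := by
  rw [S.u_eq (π := swap 4 p) (swap_apply_left 4 p)]
  rw [show ∀ x y : G, x * y * x⁻¹ * (x * y * x⁻¹) = x * (y * y) * x⁻¹ from fun x y => by group,
    S.U_sq S.base_spec.1, mul_one, mul_inv_cancel]

theorem orbit_prod {x : G} (hx : x ∈ S.U) :
    S.z * (S.z * x * S.z⁻¹ * x) * S.z⁻¹ = x := by
  have h1 := S.z_conj_U hx
  have h2 := S.z_conj_U h1
  set w := S.z * x * S.z⁻¹ with hw
  set w2 := S.z * w * S.z⁻¹ with hw2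
  have h3 : S.z * w2 * S.z⁻¹ = x := by
    rw [hw2, hw, show S.z * (S.z * (S.z * x * S.z⁻¹) * S.z⁻¹) * S.z⁻¹ = S.z ^ 3 * x * (S.z ^ 3)⁻¹ by
      simp only [pow_succ, pow_zero, one_mul]; group, S.hz, inv_one, one_mul, mul_one]
  have hP : w2 * (w * x) ∈ S.U := mul_mem h2 (mul_mem h1 hx)
  have hPz : Commute (w2 * (w * x)) S.z := by
    refine Commute.symm (mul_inv_eq_iff_eq_mul.mp ?_)
    rw [show S.z * (w2 * (w * x)) * S.z⁻¹ = (S.z * w2 * S.z⁻¹) * ((S.z * w * S.z⁻¹) * (S.z * x * S.z⁻¹)) by group,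
      h3, ← hw2, ← hw, ← mul_assoc, (S.U_comm hx h2).eq, mul_assoc, (S.U_comm hx h1).eq]
  have h1P : w2 * (w * x) = 1 := S.V4_inf_U (S.W_cent_z (S.mem_U.mp hP).1 hPz) hP
  rw [show S.z * (w * x) * S.z⁻¹ = S.z * w * S.z⁻¹ * (S.z * x * S.z⁻¹) by group, ← hw2, ← hw]
  calc w2 * w = w2 * (w * x) * x := by rw [mul_assoc w2 (w * x) x, mul_assoc w x x, S.U_sq hx, mul_one]
    _ = x := by rw [h1P, one_mul]

theorem comm_sq (p : Fin 5) : (S.z * S.u p * S.z⁻¹ * S.u p) * (S.z * S.u p * S.z⁻¹ * S.u p) = 1 ∧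
    S.z * (S.z * S.u p * S.z⁻¹ * S.u p) * S.z⁻¹ = S.u p := by
  obtain ⟨π, hπ, hp⟩ := exists_even_to p
  rw [S.u_eq hp]
  set P := S.Ω π with hP
  have hc : Commute S.z P := S.commute_even hπ
  have hu := S.base_spec.1
  have e : S.z * (P * S.base * P⁻¹) * S.z⁻¹ * (P * S.base * P⁻¹) =
      P * (S.z * S.base * S.z⁻¹ * S.base) * P⁻¹ := by
    calc S.z * (P * S.base * P⁻¹) * S.z⁻¹ * (P * S.base * P⁻¹)
        = (S.z * P) * S.base * (P⁻¹ * S.z⁻¹) * (P * S.base * P⁻¹) := by group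
      _ = (P * S.z) * S.base * (S.z⁻¹ * P⁻¹) * (P * S.base * P⁻¹) := by
          rw [hc.eq, ← mul_inv_rev, hc.eq, mul_inv_rev]
      _ = _ := by group
  have h1 := S.U_sq (mul_mem (S.z_conj_U hu) hu)
  refine ⟨by rw [e, show ∀ x y : G, x * y * x⁻¹ * (x * y * x⁻¹) = x * (y * y) * x⁻¹ from
    fun x y => by group, h1, mul_one, mul_inv_cancel], ?_⟩
  rw [e]
  calc S.z * (P * (S.z * S.base * S.z⁻¹ * S.base) * P⁻¹) * S.z⁻¹
      = (S.z * P) * (S.z * S.base * S.z⁻¹ * S.base) * (S.z * P)⁻¹ := by group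
    _ = P * (S.z * (S.z * S.base * S.z⁻¹ * S.base) * S.z⁻¹) * P⁻¹ := by rw [hc.eq]; group
    _ = _ := by rw [S.orbit_prod hu]

theorem u_pair {p q : Fin 5} (h : p ≠ q) :
    (S.u p * S.u q) ^ 3 = 1 ∧ S.u p * S.u q * S.u p = S.Ω (swap p q) := by
  obtain ⟨π, hp, hq, hs⟩ := exists_pair_to p q h
  obtain ⟨-, -, -, h3, hbr⟩ := S.base_spec
  set P := S.Ω π with hP
  set w := S.Ω (swap 3 4) * S.base * S.Ω (swap 3 4) with hw
  have e4 : S.u p = P * S.base * P⁻¹ := S.u_eq hp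
  have e3 : S.u q = P * w * P⁻¹ := by
    rw [← hq, ← S.u_conj π 3, S.u_eq (π := swap 3 4) (p := 3) (swap_apply_right 3 4), hw]
    rw [show (S.Ω (swap 3 4))⁻¹ = S.Ω (swap 3 4) by rw [← map_inv, swap_inv]]
  constructor
  · rw [e4, e3, show P * S.base * P⁻¹ * (P * w * P⁻¹) = P * (S.base * w) * P⁻¹ by group, conj_pow, h3,
      mul_one, mul_inv_cancel]
  · rw [e4, e3, show P * S.base * P⁻¹ * (P * w * P⁻¹) * (P * S.base * P⁻¹) = P * (S.base * w * S.base) * P⁻¹ by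
      group, hbr, hP, ← map_inv, ← map_mul, ← map_mul, hs]

/-- The generators. -/
noncomputable def yG : Option (Fin 5) → G
  | none => S.z
  | some p => S.u p * S.z⁻¹ * S.u p

theorem yG_three (i : Option (Fin 5)) : S.yG i * S.yG i * S.yG i = 1 := by
  have hz : S.z * S.z * S.z = 1 := by rw [← pow_two, ← pow_succ, S.hz]
  match i with
  | none => exact hz
  | some p =>
    have := S.u_sq p
    show S.u p * S.z⁻¹ * S.u p * (S.u p * S.z⁻¹ * S.u p) * (S.u p * S.z⁻¹ * S.u p) = 1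
    calc _ = S.u p * S.z⁻¹ * (S.u p * S.u p) * S.z⁻¹ * (S.u p * S.u p) * S.z⁻¹ * S.u p := by group
      _ = S.u p * (S.z * S.z * S.z)⁻¹ * S.u p := by rw [this]; group
      _ = 1 := by rw [hz, inv_one, mul_one, this]

theorem yG_pair : ∀ i j, i ≠ j → S.yG i * S.yG j * (S.yG i * S.yG j) = 1 := by
  have hp : ∀ p, S.z * (S.u p * S.z⁻¹ * S.u p) * (S.z * (S.u p * S.z⁻¹ * S.u p)) = 1 := fun p => by
    rw [← (S.comm_sq p).1]; group
  have hflip : ∀ x y : G, x * y * (x * y) = 1 → y * x * (y * x) = 1 := fun x y h => by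
    calc y * x * (y * x) = x⁻¹ * (x * y * (x * y)) * x := by group
      _ = 1 := by rw [h, mul_one, inv_mul_cancel]
  rintro (_ | p) (_ | q) h
  · exact absurd rfl h
  · exact hp q
  · exact hflip _ _ (hp p)
  · have hne : p ≠ q := fun e => h (e ▸ rfl)
    obtain ⟨-, hs⟩ := S.u_pair hne
    set s := S.Ω (swap p q) with hsd
    have hss : s * s = 1 := by rw [hsd, ← map_mul, swap_mul_self, map_one]
    have hsz : s * S.z * s⁻¹ = S.z⁻¹ := (S.conj_z _).trans (if_neg (by rw [Perm.sign_swap hne]; decide))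
    have hr : S.u p * S.u q = s * S.u p := by rw [← hs, mul_assoc _ (S.u p), S.u_sq, mul_one]
    have hq : S.u q = S.u p * s * S.u p := by
      rw [← hs, show S.u p * (S.u p * S.u q * S.u p) * S.u p = (S.u p * S.u p) * S.u q * (S.u p * S.u p) by group,
        S.u_sq, one_mul, mul_one]
    show S.u p * S.z⁻¹ * S.u p * (S.u q * S.z⁻¹ * S.u q) * (S.u p * S.z⁻¹ * S.u p * (S.u q * S.z⁻¹ * S.u q)) = 1
    have hb : S.u p * S.z⁻¹ * S.u p * (S.u q * S.z⁻¹ * S.u q) =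
        (S.u p * s) * (S.z * S.u p * S.z⁻¹ * S.u p) * (S.u p * s)⁻¹ := by
      have hsi : s⁻¹ = s := inv_eq_of_mul_eq_one_right hss
      have hui : (S.u p)⁻¹ = S.u p := inv_eq_of_mul_eq_one_right (S.u_sq p)
      calc S.u p * S.z⁻¹ * S.u p * (S.u q * S.z⁻¹ * S.u q)
          = S.u p * S.z⁻¹ * (S.u p * S.u q) * S.z⁻¹ * S.u q := by group
        _ = S.u p * (s * S.z * s⁻¹) * (s * S.u p) * S.z⁻¹ * (S.u p * s * S.u p) := by rw [hsz, hr, hq]
        _ = S.u p * s * (S.z * S.u p * S.z⁻¹ * S.u p) * (s * S.u p) := by group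
        _ = _ := by rw [mul_inv_rev, hsi, hui]
    rw [hb, show ∀ x y : G, x * y * x⁻¹ * (x * y * x⁻¹) = x * (y * y) * x⁻¹ from fun x y => by group,
      (S.comm_sq p).1, mul_one, mul_inv_cancel]

theorem exists_hom : ∃ f : alternatingGroup (Fin 8) →* G, ∀ i, f (xA i) = S.yG i := by
  set K := Subgroup.closure ((fun i => (xA i, S.yG i)) '' ((Finset.univ : Finset (Option (Fin 5))) : Set (Option (Fin 5))))
    with hK
  have hcard := (CfsgLib.AltPres.carmichael_card (y := fun i => (xA i, S.yG i))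
    (fun i => Prod.ext (xA_three i) (S.yG_three i))
    (fun i j h => Prod.ext (xA_pair i j h) (S.yG_pair i j h)) Finset.univ).2
  set π1 : K →* alternatingGroup (Fin 8) := (MonoidHom.fst _ G).comp K.subtype with hπ1
  have hsurj : Function.Surjective π1 := by
    intro x
    have hx : x ∈ K.map (MonoidHom.fst _ G) := by
      rw [hK, MonoidHom.map_closure, ← Set.image_comp, Finset.coe_univ, Set.image_univ]
      show x ∈ Subgroup.closure (Set.range xA)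
      rw [alt_generated]; exact Subgroup.mem_top x
    obtain ⟨k, hk, e⟩ := hx
    exact ⟨⟨k, hk⟩, e⟩
  have hA8 : 2 * Nat.card (alternatingGroup (Fin 8)) = (8).factorial := by
    rw [two_mul_nat_card_alternatingGroup, Nat.card_perm, Nat.card_fin]
  have hbij : Function.Bijective π1 := by
    rw [Nat.bijective_iff_surjective_and_card]
    refine ⟨hsurj, le_antisymm ?_ (Nat.card_le_card_of_surjective _ hsurj)⟩
    have h8 : (Finset.univ : Finset (Option (Fin 5))).card + 2 = 8 := rfl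
    rw [h8, ← hA8] at hcard
    exact Nat.le_of_mul_le_mul_left hcard (by norm_num)
  refine ⟨((MonoidHom.snd _ G).comp K.subtype).comp (MulEquiv.ofBijective π1 hbij).symm.toMonoidHom,
    fun i => ?_⟩
  have hk : (xA i, S.yG i) ∈ K := Subgroup.subset_closure ⟨i, by simp, rfl⟩
  have e : (MulEquiv.ofBijective π1 hbij).symm (xA i) = ⟨_, hk⟩ := by
    rw [MulEquiv.symm_apply_eq]; rfl
  simp [e]

/-- The homomorphism. -/
noncomputable def Φ : alternatingGroup (Fin 8) →* G := Classical.choose S.exists_hom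

theorem Φ_xA (i : Option (Fin 5)) : S.Φ (xA i) = S.yG i := Classical.choose_spec S.exists_hom i

theorem Φ_inj : Function.Injective S.Φ := by
  haveI : IsSimpleGroup (alternatingGroup (Fin 8)) := alternatingGroup.isSimpleGroup (by simp)
  rcases (inferInstance : S.Φ.ker.Normal).eq_bot_or_eq_top with h | h
  · exact (MonoidHom.ker_eq_bot_iff _).mp h
  · exfalso
    have : xA none ∈ S.Φ.ker := h ▸ Subgroup.mem_top _
    rw [MonoidHom.mem_ker, S.Φ_xA] at this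
    exact S.z_ne this

theorem Φ_uA (p : Fin 5) : S.Φ (uA p) = S.u p := by
  rw [uA_eq, map_mul, map_mul, map_mul, map_inv, S.Φ_xA, S.Φ_xA]
  show S.z * (S.z * (S.u p * S.z⁻¹ * S.u p)) * S.z⁻¹ = S.u p
  rw [show S.z * (S.u p * S.z⁻¹ * S.u p) = S.z * S.u p * S.z⁻¹ * S.u p by group]
  exact (S.comm_sq p).2

theorem Φ_ι : S.Φ.comp ιA = S.Ω := by
  refine MonoidHom.eq_of_eqOn_dense Equiv.Perm.closure_isSwap ?_
  rintro _ ⟨p, q, h, rfl⟩
  show S.Φ (ιA (swap p q)) = S.Ω (swap p q)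
  rw [ιA_swap p q h, map_mul, map_mul, S.Φ_uA, S.Φ_uA, (S.u_pair h).2]

theorem Φ_ι_apply (π : Perm (Fin 5)) : S.Φ (ιA π) = S.Ω π := DFunLike.congr_fun S.Φ_ι π

end CfsgLib.AltEightThree.Setup
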