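import Cfsg.Agent.Lib.AltEightThree.Data
import Cfsg.Agent.Lib.AltEightThree.Five
import Cfsg.Agent.Lib.Coprime.Generation
import Cfsg.Agent.Lib.Coprime.Action

/-!
# The centralizer of a four group of the alternating component
-/

set_option autoImplicit false

open Equiv

namespace CfsgLib.AltEightThree.Setup

variable {G : Type*} [Group G] [Finite G] (S : Setup G)

theorem commute_even {π : Perm (Fin 5)} (h : Perm.sign π = 1) : Commute S.z (S.Ω π) :=
  (mul_inv_eq_iff_eq_mul.mp ((S.conj_z π).trans (if_pos h))).symm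

theorem z_ne : S.z ≠ 1 := by
  intro h
  have := (S.uniq 1 1 (by simp [h])).1
  exact absurd this (by decide)

theorem z_inv_ne : S.z⁻¹ ≠ S.z := by
  intro h
  refine S.z_ne ?_
  have h2 : S.z * S.z = 1 := by
    rw [inv_eq_iff_mul_eq_one] at h; exact h
  have := S.hz
  rwa [pow_succ, pow_two, h2, one_mul] at this

/-- The centralizer of `z`. -/
theorem cent_z {x : G} (h : Commute x S.z) :
    ∃ (i : Fin 3) (π : Perm (Fin 5)), Perm.sign π = 1 ∧ x = S.z ^ (i : ℕ) * S.Ω π := by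
  obtain ⟨i, π, rfl⟩ := S.norm x (Or.inl (by rw [h.eq, mul_inv_cancel_right]))
  refine ⟨i, π, ?_, rfl⟩
  by_contra hs
  refine S.z_inv_ne ?_
  have h2 : Commute (S.Ω π) S.z := by
    have := ((Commute.refl S.z).pow_left (i : ℕ)).inv_left.mul_left h
    rwa [inv_mul_cancel_left] at this
  have h3 := (S.conj_z π).trans (if_neg hs)
  rw [h2.eq, mul_inv_cancel_right] at h3
  exact h3.symm

theorem Ω_inj {π ρ : Perm (Fin 5)} (h : S.Ω π = S.Ω ρ) : π = ρ := by
  have := (S.uniq 0 (π * ρ⁻¹) (by simp [map_mul, h])).2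
  exact mul_inv_eq_one.mp this

theorem a_cube : S.a ^ 3 = 1 := by
  rw [S.ha, ← map_pow, show cA ^ 3 = 1 by decide +kernel, map_one]

theorem za_comm : Commute S.z S.a := S.ha ▸ S.commute_even (by decide)

theorem g_inv : S.g⁻¹ = S.g := inv_eq_of_mul_eq_one_left S.gg

theorem gag : S.g * S.a * S.g = S.z := by
  rw [← S.gz]
  calc S.g * (S.g * S.z * S.g) * S.g = (S.g * S.g) * S.z * (S.g * S.g) := by group
    _ = S.z := by rw [S.gg, one_mul, mul_one]

/-- Conjugation by `g`. -/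
def τ : MulAut G := MulAut.conj S.g

theorem τ_apply (x : G) : S.τ x = S.g * x * S.g := by simp [τ, S.g_inv]

theorem τ_τ (x : G) : S.τ (S.τ x) = x := by
  rw [S.τ_apply, S.τ_apply]
  calc S.g * (S.g * x * S.g) * S.g = (S.g * S.g) * x * (S.g * S.g) := by group
    _ = x := by rw [S.gg, one_mul, mul_one]

theorem τ_z : S.τ S.z = S.a := (S.τ_apply _).trans S.gz

theorem τ_a : S.τ S.a = S.z := (S.τ_apply _).trans S.gag

/-- The centralizer of `a`. -/
theorem cent_a {x : G} (h : Commute x S.a) :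
    ∃ (i : Fin 3) (π : Perm (Fin 5)), Perm.sign π = 1 ∧ x = S.a ^ (i : ℕ) * S.τ (S.Ω π) := by
  have h2 : Commute (S.τ x) S.z := S.τ_a ▸ h.map S.τ.toMonoidHom
  obtain ⟨i, π, hπ, e⟩ := S.cent_z h2
  refine ⟨i, π, hπ, ?_⟩
  rw [← S.τ_τ x, e, map_mul, map_pow, S.τ_z]

section Signalizer

variable {W : Subgroup G}

theorem three_free (h3 : ¬ 3 ∣ Nat.card W) {w : G} (hw : w ∈ W) (h : w ^ 3 = 1) : w = 1 := by
  by_contra h1
  haveI := Fact.mk Nat.prime_three
  exact h3 ((orderOf_eq_prime h h1) ▸ Subgroup.orderOf_dvd_natCard W hw)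

theorem cent_za_trivial (h3 : ¬ 3 ∣ Nat.card W) (hz : S.z ∈ Subgroup.normalizer (W : Set G)) {w : G}
    (hw : w ∈ W) (h : Commute (S.z * S.a) w) : w = 1 := by
  rcases S.cent_za w h with ⟨i, j, e⟩ | ⟨i, j, e⟩
  · refine three_free h3 hw ?_
    rw [e, (S.za_comm.pow_pow _ _).mul_pow, ← pow_mul, ← pow_mul, mul_comm (i : ℕ), mul_comm (j : ℕ),
      pow_mul, pow_mul, S.hz, S.a_cube, one_pow, one_pow, one_mul]
  · exfalso
    have h1 : w * S.z * w⁻¹ * S.z⁻¹ ∈ W := by
      have h2 := (Subgroup.mem_normalizer_iff.mp hz w⁻¹).mp (inv_mem hw)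
      rw [show w * S.z * w⁻¹ * S.z⁻¹ = w * (S.z * w⁻¹ * S.z⁻¹) by group]
      exact mul_mem hw h2
    have h2 : w * S.z * w⁻¹ * S.z⁻¹ = S.a * S.z⁻¹ := by
      have hd : Commute (S.z ^ (i : ℕ) * S.a ^ (j : ℕ)) S.a :=
        (S.za_comm.pow_left _).mul_left ((Commute.refl S.a).pow_left _)
      rw [e, mul_inv_rev, S.g_inv,
        show S.z ^ (i : ℕ) * S.a ^ (j : ℕ) * S.g * S.z * (S.g * (S.z ^ (i : ℕ) * S.a ^ (j : ℕ))⁻¹) * S.z⁻¹
          = S.z ^ (i : ℕ) * S.a ^ (j : ℕ) * (S.g * S.z * S.g) * (S.z ^ (i : ℕ) * S.a ^ (j : ℕ))⁻¹ * S.z⁻¹ by group,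
        S.gz, hd.eq, mul_inv_cancel_right]
    rw [h2] at h1
    have hc : Commute S.a S.z⁻¹ := S.za_comm.symm.inv_right
    have h4 := three_free h3 h1 (by rw [hc.mul_pow, S.a_cube, inv_pow, S.hz, inv_one, one_mul])
    rw [mul_inv_eq_one, S.ha] at h4
    have := S.uniq 1 cA⁻¹ (by rw [map_inv, h4]; simp)
    exact absurd this.1 (by decide)

/-- A `3'`-subgroup normalized by `⟨z, a⟩` is generated by its centralizers of `z` and `a`. -/
theorem signalizer_le (h3 : ¬ 3 ∣ Nat.card W) (hz : S.z ∈ Subgroup.normalizer (W : Set G))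
    (ha : S.a ∈ Subgroup.normalizer (W : Set G)) {Y : Subgroup G}
    (h1 : ∀ w ∈ W, Commute w S.z → w ∈ Y) (h2 : ∀ w ∈ W, Commute w S.a → w ∈ Y) : W ≤ Y := by
  haveI := Fact.mk Nat.prime_three
  set A := Subgroup.closure ({S.z, S.a} : Set G) with hA
  haveI : IsMulCommutative A := by
    refine ⟨⟨fun p q => Subtype.ext (show (p : G) * q = q * p from ?_)⟩⟩
    have hp := p.2; have hq := q.2
    have key : ∀ x ∈ A, ∀ y ∈ ({S.z, S.a} : Set G), Commute x y := by
      intro x hx y hy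
      induction hx using Subgroup.closure_induction with
      | mem u hu =>
        rcases hu with rfl | rfl <;> rcases hy with rfl | rfl
        · exact Commute.refl _
        · exact S.za_comm
        · exact S.za_comm.symm
        · exact Commute.refl _
      | one => exact Commute.one_left _
      | mul u v _ _ hu hv => exact hu.mul_left hv
      | inv u _ hu => exact hu.inv_left
    suffices ∀ y ∈ A, Commute (p : G) y from (this _ hq).eq
    intro y hy
    induction hy using Subgroup.closure_induction with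
    | mem u hu => exact key _ hp u hu
    | one => exact Commute.one_right _
    | mul u v _ _ hu hv => exact Commute.mul_right hu hv
    | inv u _ hu => exact Commute.inv_right hu
  have hmem : ∀ x ∈ A, ∃ i j : Fin 3, x = S.z ^ (i : ℕ) * S.a ^ (j : ℕ) := by
    have hp3 : ∀ (u : G), u ^ 3 = 1 → ∀ n : ℕ, ∃ i : Fin 3, u ^ n = u ^ (i : ℕ) := fun u hu n =>
      ⟨⟨n % 3, Nat.mod_lt _ (by norm_num)⟩, pow_eq_pow_mod n hu⟩
    intro x hx
    induction hx using Subgroup.closure_induction with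
    | mem u hu =>
      rcases hu with rfl | rfl
      · exact ⟨1, 0, by simp⟩
      · exact ⟨0, 1, by simp⟩
    | one => exact ⟨0, 0, by simp⟩
    | mul u v _ _ hu hv =>
      obtain ⟨i, j, rfl⟩ := hu; obtain ⟨k, l, rfl⟩ := hv
      rw [(S.za_comm.pow_pow (k : ℕ) (j : ℕ)).symm.mul_mul_mul_comm, ← pow_add, ← pow_add]
      obtain ⟨m, em⟩ := hp3 _ S.hz ((i : ℕ) + k)
      obtain ⟨n, en⟩ := hp3 _ S.a_cube ((j : ℕ) + l)
      exact ⟨m, n, by rw [em, en]⟩
    | inv u _ hu =>
      obtain ⟨i, j, rfl⟩ := hu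
      refine ⟨-i, -j, ?_⟩
      refine inv_eq_of_mul_eq_one_right ?_
      rw [(S.za_comm.pow_pow ((-i : Fin 3) : ℕ) (j : ℕ)).symm.mul_mul_mul_comm, ← pow_add, ← pow_add,
        pow_eq_pow_mod _ S.hz, pow_eq_pow_mod _ S.a_cube]
      rw [fin3_neg i,
        fin3_neg j, pow_zero, pow_zero, one_mul]
  have hexp : ∀ x ∈ A, x ^ 3 = 1 := by
    intro x hx
    obtain ⟨i, j, rfl⟩ := hmem x hx
    rw [(S.za_comm.pow_pow _ _).mul_pow, ← pow_mul, ← pow_mul, mul_comm (i : ℕ), mul_comm (j : ℕ),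
      pow_mul, pow_mul, S.hz, S.a_cube, one_pow, one_pow, one_mul]
  have hncyc : ¬ IsCyclic A := by
    intro hc
    obtain ⟨⟨u, hu⟩, hgen⟩ := hc.exists_generator
    obtain ⟨i, hi⟩ := hgen ⟨S.z, Subgroup.subset_closure (by simp)⟩
    obtain ⟨j, hj⟩ := hgen ⟨S.a, Subgroup.subset_closure (by simp)⟩
    have hi' : u ^ i = S.z := by simpa using congrArg Subtype.val hi
    have hj' : u ^ j = S.a := by simpa using congrArg Subtype.val hj
    obtain ⟨k, l, hkl⟩ := hmem u hu
    have hcard : orderOf u ∣ 3 := orderOf_dvd_of_pow_eq_one (hexp u hu)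
    have hzin : S.a ∈ Subgroup.zpowers S.z := by
      have hle : Subgroup.zpowers S.z = Subgroup.zpowers u := by
        refine Subgroup.eq_of_le_of_card_ge (Subgroup.zpowers_le.mpr ⟨i, hi'⟩) ?_
        rw [Nat.card_zpowers, Nat.card_zpowers, orderOf_eq_prime S.hz S.z_ne]
        exact Nat.le_of_dvd (by norm_num) hcard
      rw [hle]; exact ⟨j, hj'⟩
    obtain ⟨m, hm⟩ := hzin
    obtain ⟨n, hn⟩ : ∃ n : Fin 3, S.z ^ m = S.z ^ (n : ℕ) := by
      refine ⟨⟨(m % 3).toNat, by omega⟩, ?_⟩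
      show S.z ^ m = S.z ^ ((m % 3).toNat)
      rw [← zpow_natCast, Int.toNat_of_nonneg (Int.emod_nonneg _ (by norm_num))]
      exact zpow_eq_zpow_emod m (by exact_mod_cast S.hz)
    have h5 : S.z ^ (n : ℕ) * S.Ω cA⁻¹ = 1 := by
      simp only at hm
      rw [← hn, hm, map_inv, S.ha, mul_inv_cancel]
    exact absurd (S.uniq _ _ h5).2 (by decide +kernel)
  have hAN : A ≤ Subgroup.normalizer (W : Set G) := (Subgroup.closure_le _).mpr fun x hx => by
    rcases hx with rfl | rfl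
    · exact hz
    · exact ha
  have hcop : (Nat.card A).Coprime (Nat.card W) := by
    refine Nat.Coprime.coprime_dvd_left ?_
      ((Nat.prime_three.coprime_iff_not_dvd.mpr h3).pow_left 2)
    obtain ⟨n, hn⟩ := IsPGroup.iff_card.mp (fun x : A => ⟨1, Subtype.ext (by simpa using hexp x x.2)⟩)
    rw [hn]
    refine pow_dvd_pow 3 ?_
    have := S.three A (fun x : A => ⟨1, Subtype.ext (by simpa using hexp x x.2)⟩)
    rw [hn] at this
    exact (Nat.pow_le_pow_iff_right (by norm_num : 1 < 3)).mp this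
  refine CfsgLib.Coprime.le_of_centralizer_le hncyc hAN hcop fun d hd hd1 => ?_
  rintro w ⟨hw, hwd⟩
  have hcd : Commute d w := (Subgroup.mem_centralizer_singleton_iff.mp hwd).symm
  obtain ⟨i, j, rfl⟩ := hmem d hd
  have hsq : ∀ (u : G) (k : Fin 3), u ^ 3 = 1 → k ≠ 0 → ∀ v : G, Commute (u ^ (k : ℕ)) v → Commute u v := by
    intro u k hu hk v hc
    have : u = (u ^ (k : ℕ)) ^ (k : ℕ) := by
      rw [← pow_mul, pow_eq_pow_mod _ hu, show ((k : ℕ) * k) % 3 = 1 by rcases fin3_ne k hk with rfl | rfl <;> rfl, pow_one]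
    rw [this]; exact hc.pow_left _
  rcases eq_or_ne i 0 with rfl | hi
  · rw [Fin.val_zero, pow_zero, one_mul] at hcd hd1
    rcases eq_or_ne j 0 with rfl | hj
    · simp at hd1
    · exact h2 w hw (hsq _ j S.a_cube hj w hcd).symm
  · rcases eq_or_ne j 0 with rfl | hj
    · rw [Fin.val_zero, pow_zero, mul_one] at hcd
      exact h1 w hw (hsq _ i S.hz hi w hcd).symm
    · have key : Commute (S.z * S.a) w ∨ Commute (S.z⁻¹ * S.a) w := by
        rcases And.intro (fin3_ne i hi) (fin3_ne j hj) with ⟨rfl | rfl, rfl | rfl⟩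
        · exact Or.inl (by simpa using hcd)
        · right
          have := hcd.inv_left
          rw [show (S.z ^ ((1 : Fin 3) : ℕ) * S.a ^ ((2 : Fin 3) : ℕ))⁻¹ = S.z⁻¹ * S.a by
            show (S.z ^ 1 * S.a ^ 2)⁻¹ = _
            rw [(S.za_comm.pow_pow 1 2).eq, mul_inv_rev, pow_one,
              show (S.a ^ 2)⁻¹ = S.a from inv_eq_of_mul_eq_one_left (by rw [← pow_succ', S.a_cube])]] at this
          exact this
        · right
          rw [show S.z ^ ((2 : Fin 3) : ℕ) * S.a ^ ((1 : Fin 3) : ℕ) = S.z⁻¹ * S.a by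
            show S.z ^ 2 * S.a ^ 1 = _
            rw [pow_one, show S.z ^ 2 = S.z⁻¹ from eq_inv_of_mul_eq_one_left (by rw [← pow_succ, S.hz])]] at hcd
          exact hcd
        · left
          have := hcd.inv_left
          rw [show (S.z ^ ((2 : Fin 3) : ℕ) * S.a ^ ((2 : Fin 3) : ℕ))⁻¹ = S.z * S.a by
            show (S.z ^ 2 * S.a ^ 2)⁻¹ = _
            rw [← S.za_comm.mul_pow]
            exact inv_eq_of_mul_eq_one_left (by rw [← pow_succ', S.za_comm.mul_pow, S.hz, S.a_cube, one_mul])] at this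
          exact this
      rcases key with k1 | k1
      · rw [S.cent_za_trivial h3 hz hw k1]; exact one_mem _
      · -- conjugate by a reflection
        set r := S.Ω (swap 3 4) with hr
        set W' := W.map (MulAut.conj r).toMonoidHom with hW'
        have hrz : r * S.z * r⁻¹ = S.z⁻¹ := (S.conj_z _).trans (if_neg (by decide))
        have hra : r * S.a * r⁻¹ = S.a := by
          rw [hr, S.ha, ← map_inv, ← map_mul, ← map_mul]; congr 1; decide +kernel
        have hN : S.z ∈ Subgroup.normalizer (W' : Set G) := by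
          rw [hW', ← inv_inv S.z, inv_mem_iff, ← hrz]
          refine Subgroup.le_normalizer_map _ ⟨S.z, hz, rfl⟩
        have h3' : ¬ 3 ∣ Nat.card W' := by
          rw [hW', Subgroup.card_map_of_injective (MulAut.conj r).injective]; exact h3
        have hc' : Commute (S.z * S.a) (r * w * r⁻¹) := by
          have hm := k1.map (MulAut.conj r).toMonoidHom
          simp only [MulEquiv.coe_toMonoidHom, MulAut.conj_apply] at hm
          rwa [show r * (S.z⁻¹ * S.a) * r⁻¹ = S.z * S.a by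
            rw [show r * (S.z⁻¹ * S.a) * r⁻¹ = (r * S.z * r⁻¹)⁻¹ * (r * S.a * r⁻¹) by group, hrz, hra,
              inv_inv]] at hm
        have := S.cent_za_trivial h3' hN (⟨w, hw, rfl⟩) hc'
        simp only [MulEquiv.coe_toMonoidHom, MulAut.conj_apply, conj_eq_one_iff] at this
        rw [this]; exact one_mem _

theorem pow_z_eq {m : ℕ} {n : Fin 3} (h : m % 3 = n) : S.z ^ m = S.z ^ (n : ℕ) := by
  rw [pow_eq_pow_mod _ S.hz, h]

/-- The part commuting with `z` lies in a Klein four group. -/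
theorem cent_z_part (h3 : ¬ 3 ∣ Nat.card W) (ha : S.a ∈ Subgroup.normalizer (W : Set G)) {w : G}
    (hw : w ∈ W) (h : Commute w S.z) :
    ∃ σ : Perm (Fin 5), w = S.Ω σ ∧ (InV 3 σ ∨ InV 4 σ) := by
  obtain ⟨i, σ, hσ, e⟩ := S.cent_z h
  have hi : i = 0 := by
    have h1 : w ^ Nat.card W = 1 := by
      exact orderOf_dvd_iff_pow_eq_one.mp (Subgroup.orderOf_dvd_natCard W hw)
    rw [e, ((S.commute_even hσ).pow_left _).mul_pow, ← pow_mul, ← map_pow,
      S.pow_z_eq (n := ⟨((i : ℕ) * Nat.card W) % 3, Nat.mod_lt _ (by norm_num)⟩) rfl] at h1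
    have h2 : ((i : ℕ) * Nat.card W) % 3 = 0 := congrArg Fin.val (S.uniq _ _ h1).1
    rcases Nat.prime_three.dvd_mul.mp (Nat.dvd_of_mod_eq_zero h2) with h4 | h4
    · exact Fin.ext (Nat.eq_zero_of_dvd_of_lt h4 i.2)
    · exact absurd h4 h3
  subst hi
  rw [Fin.val_zero, pow_zero, one_mul] at e
  refine ⟨σ, e, ?_⟩
  by_contra hV
  rw [not_or] at hV
  have hb : ∀ ρ, S.Ω ρ ∈ W → S.Ω (cA * ρ * cA⁻¹) ∈ W ∧ S.Ω (cA⁻¹ * ρ * cA) ∈ W := fun ρ hρ => by
    constructor
    · rw [map_mul, map_mul, map_inv, ← S.ha]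
      exact (Subgroup.mem_normalizer_iff.mp ha _).mp hρ
    · rw [map_mul, map_mul, map_inv, ← S.ha]
      have := (Subgroup.mem_normalizer_iff.mp (inv_mem ha) _).mp hρ
      rwa [inv_inv] at this
  have hs : S.Ω σ ∈ W := e ▸ hw
  obtain ⟨h1, h2⟩ := hb σ hs
  have kill : ∀ ρ, orderOfThree ρ → S.Ω ρ ∈ W → False := fun ρ hρ hm =>
    hρ.2 (S.Ω_inj (by rw [map_one]; exact three_free h3 hm (by rw [← map_pow, hρ.1, map_one])))
  rcases word_three σ hσ hV.1 hV.2 with h4 | h4
  · refine kill _ h4 ?_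
    simp only [map_mul, map_inv] at h1 ⊢
    exact mul_mem (mul_mem (mul_mem hs h1) hs) (inv_mem h1)
  · refine kill _ h4 ?_
    simp only [map_mul, map_inv] at h1 h2 ⊢
    exact mul_mem (mul_mem (mul_mem hs h1) hs) h2

end Signalizer

end CfsgLib.AltEightThree.Setup
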