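import Cfsg.Agent.Lib.AltEightThree.Klein
import Cfsg.Agent.Lib.PGroup.SelfCentralizing
import Cfsg.Agent.Lib.PGroup.TwoMaximalClass
import Cfsg.Agent.Lib.Transfer.Thompson
import Cfsg.Agent.Lib.ZStar.Basic

/-!
# The centralizer of the Klein four group has a second Klein four group
-/

set_option autoImplicit false
set_option linter.unusedSectionVars false
set_option maxRecDepth 8000

open Equiv

namespace CfsgLib.AltEightThree

/-- A five-cycle. -/
def cFive : Perm (Fin 5) := swap 0 1 * swap 1 2 * swap 2 3 * swap 3 4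

theorem cFive_six : cFive ^ 6 ≠ 1 ∧ Perm.sign cFive = 1 := by decide +kernel

theorem even_commute_vOne : ∀ σ : Perm (Fin 5), Perm.sign σ = 1 → σ * vOne = vOne * σ → σ * σ = 1 := by
  decide +kernel

theorem invol_classes : ∀ π : Perm (Fin 5), π * π = 1 → π ≠ 1 →
    ∃ ρ : Perm (Fin 5), ρ * π * ρ⁻¹ = vOne ∨ ρ * π * ρ⁻¹ = swap 3 4 := by decide +kernel

theorem even_invol_conj : ∀ π : Perm (Fin 5), π * π = 1 → π ≠ 1 → Perm.sign π = 1 →
    ∃ ρ : Perm (Fin 5), ρ * vOne * ρ⁻¹ = π := by decide +kernel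

/-- The Sylow two-subgroup of the stabilizer of the last point. -/
def dEight : Subgroup (Perm (Fin 5)) :=
  Subgroup.centralizer {vOne} ⊓ MulAction.stabilizer (Perm (Fin 5)) (4 : Fin 5)

theorem mem_dEight {π : Perm (Fin 5)} : π ∈ dEight ↔ π * vOne = vOne * π ∧ π 4 = 4 :=
  Subgroup.mem_inf.trans (and_congr Subgroup.mem_centralizer_singleton_iff Iff.rfl)

theorem dEight_pow : ∀ π : Perm (Fin 5), π * vOne = vOne * π → π 4 = 4 → π ^ 4 = 1 := by
  decide +kernel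

theorem card_dEight : Nat.card dEight = 8 := by
  rw [Nat.card_congr (Equiv.subtypeEquivRight (fun π => mem_dEight)), Nat.card_eq_fintype_card]
  decide +kernel

theorem card_inV_four : Fintype.card {σ : Perm (Fin 5) // InV 4 σ} = 4 := by decide +kernel

theorem inV_commute_swap : ∀ σ : Perm (Fin 5), InV 4 σ → σ * swap 0 1 = swap 0 1 * σ →
    σ = 1 ∨ σ = vOne := by decide +kernel

end CfsgLib.AltEightThree

namespace CfsgLib.AltEightThree.Setup

variable {G : Type*} [Group G] [Finite G] (S : Setup G)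

/-- The class of `(01)(23)`. -/
def IsT (x : G) : Prop := IsConj (S.Ω vOne) x

theorem za_cent_pow {x : G} (h : Commute (S.z * S.a) x) : x ^ 6 = 1 := by
  rcases S.cent_za x h with ⟨i, j, rfl⟩ | ⟨i, j, rfl⟩
  · rw [(S.za_comm.pow_pow _ _).mul_pow, ← pow_mul, ← pow_mul, show (i : ℕ) * 6 = 3 * (2 * i) by ring,
      show (j : ℕ) * 6 = 3 * (2 * j) by ring, pow_mul S.z 3, pow_mul S.a 3, S.hz, S.a_cube, one_pow, one_pow, one_mul]
  · have hA : S.g * S.a ^ (j : ℕ) * S.g⁻¹ = S.z ^ (j : ℕ) := by rw [← conj_pow, S.g_inv, S.gag]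
    have hZ : S.g * S.z ^ (i : ℕ) * S.g⁻¹ = S.a ^ (i : ℕ) := by rw [← conj_pow, S.g_inv, S.gz]
    rw [S.g_inv] at hA hZ
    have h2 : (S.z ^ (i : ℕ) * S.a ^ (j : ℕ) * S.g) ^ 2 = (S.z * S.a) ^ ((i : ℕ) + j) := by
      rw [pow_two, show S.z ^ (i : ℕ) * S.a ^ (j : ℕ) * S.g * (S.z ^ (i : ℕ) * S.a ^ (j : ℕ) * S.g)
        = S.z ^ (i : ℕ) * S.a ^ (j : ℕ) * ((S.g * S.z ^ (i : ℕ) * S.g) * (S.g⁻¹ * S.a ^ (j : ℕ) * S.g)) by group,
        hZ, S.g_inv, hA, S.za_comm.mul_pow, pow_add, pow_add]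
      calc _ = S.z ^ (i : ℕ) * ((S.a ^ (j : ℕ) * S.a ^ (i : ℕ)) * S.z ^ (j : ℕ)) := by group
        _ = _ := by
          rw [← pow_add, ((S.za_comm.pow_pow (j : ℕ) ((j : ℕ) + i)).symm).eq, ← mul_assoc, ← pow_add,
            ← pow_add, Nat.add_comm (j : ℕ) i]
    rw [show 6 = 2 * 3 from rfl, pow_mul, h2, ← pow_mul, mul_comm, pow_mul, S.za_comm.mul_pow, S.hz,
      S.a_cube, one_mul, one_pow]

theorem za_not_conj (h : G) : h * (S.z * S.a) * h⁻¹ ≠ S.z ∧ h * (S.z * S.a) * h⁻¹ ≠ S.z⁻¹ := by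
  have key : ¬ Commute (h * (S.z * S.a) * h⁻¹) (S.Ω cFive) := fun hc => by
    have h2 : Commute (S.z * S.a) (h⁻¹ * S.Ω cFive * h) := by
      have := hc.map (MulAut.conj h⁻¹).toMonoidHom
      simpa [mul_assoc] using this
    have h3 := S.za_cent_pow h2
    rw [show h⁻¹ * S.Ω cFive * h = h⁻¹ * S.Ω cFive * h⁻¹⁻¹ by rw [inv_inv], conj_pow, conj_eq_one_iff,
      ← map_pow] at h3
    exact cFive_six.1 (S.Ω_inj (h3.trans (map_one _).symm))
  exact ⟨fun e => key (by rw [e]; exact S.commute_even cFive_six.2),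
    fun e => key (by rw [e]; exact (S.commute_even cFive_six.2).inv_left)⟩

theorem pgroup_three_cent_t {P : Subgroup G} (hP : IsPGroup 3 P) (hz : S.z ∈ P)
    (hPt : ∀ p ∈ P, Commute p (S.Ω vOne)) : P ≤ Subgroup.zpowers S.z := by
  haveI := Fact.mk Nat.prime_three
  obtain ⟨n, hn⟩ := IsPGroup.iff_card.mp hP
  have hn2 : n ≤ 2 := by
    have := S.three P hP
    rw [hn] at this
    exact (Nat.pow_le_pow_iff_right (by norm_num : 1 < 3)).mp this
  intro p hp
  have hcomm : IsMulCommutative P := by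
    rcases (show n = 0 ∨ n = 1 ∨ n = 2 by omega) with rfl | rfl | rfl
    · haveI : Subsingleton P := (Nat.card_eq_one_iff_unique.mp hn).1
      exact ⟨⟨fun a b => Subsingleton.elim _ _⟩⟩
    · haveI := isCyclic_of_prime_card (α := P) (p := 3) (by rw [hn, pow_one])
      exact ⟨⟨fun a b => (IsCyclic.commGroup (α := P)).mul_comm a b⟩⟩
    · exact IsPGroup.isMulCommutative_of_card_eq_prime_sq hn
  have hc : Commute p S.z := congrArg Subtype.val (hcomm.is_comm.comm ⟨p, hp⟩ ⟨S.z, hz⟩)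
  obtain ⟨i, σ, hσ, e⟩ := S.cent_z hc
  have hσt : σ * vOne = vOne * σ := by
    refine S.Ω_inj ?_
    have h1 : Commute (S.Ω σ) (S.Ω vOne) := by
      have := ((S.commute_even (π := vOne) (by decide)).pow_left (i : ℕ)).inv_left.mul_left (hPt p hp)
      rwa [e, inv_mul_cancel_left] at this
    rw [map_mul, map_mul]; exact h1.eq
  have h1 : p ^ 9 = 1 := orderOf_dvd_iff_pow_eq_one.mp
    ((Subgroup.orderOf_dvd_natCard _ hp).trans (by rw [hn]; exact pow_dvd_pow 3 hn2))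
  rw [e, ((S.commute_even hσ).pow_left _).mul_pow, ← pow_mul, mul_comm, pow_mul,
    show S.z ^ 9 = 1 by rw [show 9 = 3 * 3 from rfl, pow_mul, S.hz, one_pow], one_pow, one_mul,
    ← map_pow] at h1
  have h2 : σ ^ 9 = 1 := S.Ω_inj (h1.trans (map_one _).symm)
  rw [show 9 = 2 * 4 + 1 from rfl, pow_succ, pow_mul, pow_two, even_commute_vOne σ hσ hσt, one_pow,
    one_mul] at h2
  exact Subgroup.mem_zpowers_iff.mpr ⟨(i : ℕ), by rw [zpow_natCast, e, h2, map_one, mul_one]⟩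

theorem zpowers_z_cases {x : G} (hx : x ∈ Subgroup.zpowers S.z) : x = 1 ∨ x = S.z ∨ x = S.z⁻¹ := by
  obtain ⟨k, rfl⟩ := Subgroup.mem_zpowers_iff.mp hx
  have h3 : S.z ^ (3 : ℤ) = 1 := by exact_mod_cast S.hz
  rw [zpow_eq_zpow_emod k h3]
  rcases (show k % 3 = 0 ∨ k % 3 = 1 ∨ k % 3 = 2 by omega) with e | e | e <;> rw [e]
  · exact Or.inl (zpow_zero _)
  · exact Or.inr (Or.inl (zpow_one _))
  · exact Or.inr (Or.inr (eq_inv_of_mul_eq_one_left (by rw [← zpow_add_one]; exact h3)))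

/-- Elements of order three centralizing `(01)(23)` are conjugate to `z` there. -/
theorem three_cent_t {x : G} (hx3 : x ^ 3 = 1) (hx1 : x ≠ 1) (hxt : Commute x (S.Ω vOne)) :
    ∃ k : G, Commute k (S.Ω vOne) ∧ (k * x * k⁻¹ = S.z ∨ k * x * k⁻¹ = S.z⁻¹) := by
  haveI := Fact.mk Nat.prime_three
  set C := Subgroup.centralizer ({S.Ω vOne} : Set G) with hC
  have hzC : S.z ∈ C := Subgroup.mem_centralizer_singleton_iff.mpr (S.commute_even (by decide)).eq
  have hxC : x ∈ C := Subgroup.mem_centralizer_singleton_iff.mpr hxt.eq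
  have mk : ∀ (u : C), (u : G) ^ 3 = 1 → IsPGroup 3 (Subgroup.zpowers u) := fun u hu => by
    rintro ⟨v, hv⟩
    obtain ⟨k, rfl⟩ := Subgroup.mem_zpowers_iff.mp hv
    refine ⟨1, Subtype.ext (Subtype.ext ?_)⟩
    rw [pow_one, SubgroupClass.coe_pow, SubgroupClass.coe_pow, SubgroupClass.coe_zpow,
      ← zpow_natCast, ← zpow_mul, mul_comm, zpow_mul, zpow_natCast, hu, one_zpow]
    rfl
  obtain ⟨P, hP⟩ := (mk ⟨S.z, hzC⟩ S.hz).exists_le_sylow
  obtain ⟨Q, hQ⟩ := (mk ⟨x, hxC⟩ hx3).exists_le_sylow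
  obtain ⟨k, hk⟩ := MulAction.exists_smul_eq C Q P
  have hmem : k * ⟨x, hxC⟩ * k⁻¹ ∈ (P : Subgroup C) := by
    rw [← hk, Sylow.coe_subgroup_smul]
    exact ⟨_, hQ (Subgroup.mem_zpowers _), rfl⟩
  have hle := S.pgroup_three_cent_t (P := (P : Subgroup C).map C.subtype) (P.2.map _)
    ⟨_, hP (Subgroup.mem_zpowers _), rfl⟩
    (by rintro _ ⟨p, -, rfl⟩; exact Subgroup.mem_centralizer_singleton_iff.mp p.2)
  have := hle ⟨_, hmem, rfl⟩
  refine ⟨k, Subgroup.mem_centralizer_singleton_iff.mp k.2, ?_⟩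
  rcases S.zpowers_z_cases this with e | e | e
  · exfalso
    exact hx1 (by simpa using e)
  · exact Or.inl (by simpa using e)
  · exact Or.inr (by simpa using e)

theorem g_not_T : ¬ S.IsT S.g := by
  intro h
  obtain ⟨k, hk⟩ := isConj_iff.mp h.symm
  have hgc : Commute (S.z * S.a) S.g := by
    show S.z * S.a * S.g = S.g * (S.z * S.a)
    calc S.z * S.a * S.g = (S.g * S.a * S.g) * (S.g * S.z * S.g) * S.g := by rw [S.gag, S.gz]
      _ = S.g * (S.a * (S.g * S.g) * S.z) * (S.g * S.g) := by group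
      _ = S.g * (S.z * S.a) := by rw [S.gg, mul_one, mul_one, S.za_comm.eq]
  have hm : Commute (k * (S.z * S.a) * k⁻¹) (S.Ω vOne) := by
    have := hgc.map (MulAut.conj k).toMonoidHom
    simp only [MulEquiv.coe_toMonoidHom, MulAut.conj_apply] at this
    rwa [hk] at this
  have hne : S.z * S.a ≠ 1 := fun e => by
    have := S.uniq 1 cA (by rw [← S.ha]; simpa using e)
    exact absurd this.1 (by decide)
  obtain ⟨l, -, hl⟩ := S.three_cent_t (by
    rw [conj_pow, S.za_comm.mul_pow, S.hz, S.a_cube, one_mul, mul_one, mul_inv_cancel])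
    (fun e => hne (conj_eq_one_iff.mp e)) hm
  rw [show l * (k * (S.z * S.a) * k⁻¹) * l⁻¹ = l * k * (S.z * S.a) * (l * k)⁻¹ by group] at hl
  exact hl.elim (S.za_not_conj _).1 (S.za_not_conj _).2

theorem IsT_Ω {π : Perm (Fin 5)} (h : π * π = 1) (h1 : π ≠ 1) : S.IsT (S.Ω π) := by
  have conjΩ : ∀ (ρ σ σ' : Perm (Fin 5)), ρ * σ * ρ⁻¹ = σ' → IsConj (S.Ω σ) (S.Ω σ') := fun ρ σ σ' e =>
    isConj_iff.mpr ⟨S.Ω ρ, by rw [← e, map_mul, map_mul, map_inv]⟩
  obtain ⟨ρ, e | e⟩ := invol_classes π h h1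
  · exact (conjΩ ρ π vOne e).symm
  · refine IsConj.trans ?_ (conjΩ ρ π _ e).symm
    set s := S.Ω (swap 3 4) with hs
    have hsz : Commute (S.τ s) S.z := by
      have : Commute s S.a := by
        show s * S.a = S.a * s
        rw [hs, S.ha, ← map_mul, ← map_mul]; congr 1; decide +kernel
      exact S.τ_a ▸ this.map S.τ.toMonoidHom
    obtain ⟨i, σ, hσ, eσ⟩ := S.cent_z hsz
    have h2 : S.τ s * S.τ s = 1 := by
      rw [← map_mul, hs, ← map_mul, swap_mul_self, map_one, map_one]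
    rw [eσ, (S.commute_even hσ).pow_left (i : ℕ) |>.symm.mul_mul_mul_comm, ← pow_add, ← map_mul,
      S.pow_z_eq (n := ⟨((i : ℕ) + i) % 3, Nat.mod_lt _ (by norm_num)⟩) rfl] at h2
    obtain ⟨hi, hσ2⟩ := S.uniq _ _ h2
    have hi' : ((i : ℕ) + i) % 3 = 0 := congrArg Fin.val hi
    have hi0 : i = 0 := Fin.ext (by have := i.2; simp only [Fin.val_zero]; omega)
    rw [hi0, Fin.val_zero, pow_zero, one_mul] at eσ
    have hσ1 : σ ≠ 1 := by
      intro e1
      rw [e1, map_one, MulEquiv.map_eq_one_iff, hs] at eσ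
      exact absurd (S.Ω_inj (eσ.trans (map_one _).symm)) (by decide)
    obtain ⟨ρ', e'⟩ := even_invol_conj σ hσ2 hσ1 hσ
    refine (conjΩ ρ' vOne σ e').trans ?_
    rw [← eσ]
    exact isConj_iff.mpr ⟨S.g, by rw [S.g_inv, ← S.τ_apply, S.τ_τ]⟩

end CfsgLib.AltEightThree.Setup
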