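import Cfsg.Agent.Lib.AltEightThree.TwoLocal

/-!
# The second Klein four group is nontrivial
-/

set_option autoImplicit false
set_option linter.unusedSectionVars false
set_option maxHeartbeats 1600000
set_option maxRecDepth 8000

open Equiv

namespace CfsgLib.AltEightThree

theorem swap_mem_dEight : swap 0 1 ∈ dEight ∧ vTwo ∈ dEight ∧ vOne ∈ dEight :=
  ⟨mem_dEight.mpr (by decide +kernel), mem_dEight.mpr (by decide +kernel), mem_dEight.mpr (by decide +kernel)⟩

theorem inV_dEight : ∀ σ : Perm (Fin 5), InV 4 σ → σ * vOne = vOne * σ ∧ σ 4 = 4 := by decide +kernel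

theorem fix_four : ∀ π : Perm (Fin 5), π * vOne = vOne * π → π 4 = 4 := by
  decide +kernel

end CfsgLib.AltEightThree

namespace CfsgLib.AltEightThree.Setup

variable {G : Type*} [Group G] [Finite G] (S : Setup G)

theorem card_V4 : Nat.card S.V4 = 4 := by
  have e : {σ : Perm (Fin 5) // InV 4 σ} ≃ S.V4 := Equiv.ofBijective
    (fun σ => ⟨S.Ω σ.1, σ.1, σ.2, rfl⟩)
    ⟨fun a b h => Subtype.ext (S.Ω_inj (congrArg Subtype.val h)),
      fun ⟨x, σ, hσ, e⟩ => ⟨⟨σ, hσ⟩, Subtype.ext e.symm⟩⟩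
  rw [← Nat.card_congr e, Nat.card_eq_fintype_card, card_inV_four]

theorem U_ne : ¬ ∀ u ∈ S.U, u = 1 := by
  intro hU
  haveI := Fact.mk Nat.prime_two
  have hWV : ∀ w ∈ S.W, w ∈ S.V4 := fun w hw => by
    obtain ⟨v, hv, u, hu, rfl⟩ := S.exists_mul hw
    rwa [hU u hu, mul_one]
  -- a Sylow two-subgroup over the dihedral group
  set DG := dEight.map S.Ω with hDG
  have hDGp : IsPGroup 2 DG := by
    rintro ⟨_, π, hπ, rfl⟩
    obtain ⟨h1, h2⟩ := mem_dEight.mp hπ
    exact ⟨2, Subtype.ext (by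
      rw [SubgroupClass.coe_pow, ← map_pow, show 2 ^ 2 = 4 from rfl, dEight_pow π h1 h2, map_one]; rfl)⟩
  obtain ⟨P, hP⟩ := hDGp.exists_le_sylow
  set T : Subgroup G := (P : Subgroup G) with hT
  have hΩT : ∀ π ∈ dEight, S.Ω π ∈ T := fun π hπ => hP ⟨π, hπ, rfl⟩
  have hVT : S.V4 ≤ T := by
    rintro _ ⟨σ, hσ, rfl⟩
    exact hΩT σ (mem_dEight.mpr (inV_dEight σ hσ))
  -- the four group is self-centralizing there
  have hself : ∀ x ∈ T, (∀ v ∈ S.V4, Commute x v) → x ∈ S.V4 := by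
    intro x hx hc
    refine hWV x (S.mem_W.mpr ⟨S.mem_X.mpr ⟨hc _ ⟨vOne, by decide, rfl⟩, hc _ ⟨vTwo, by decide, rfl⟩⟩,
      fun hd => ?_⟩)
    obtain ⟨k, hk⟩ := IsPGroup.iff_orderOf.mp P.2 ⟨x, hx⟩
    rw [Subgroup.orderOf_mk] at hk
    rw [hk] at hd
    exact absurd (Nat.prime_three.dvd_of_dvd_pow hd) (by decide)
  obtain ⟨n, hn⟩ := IsPGroup.iff_card.mp P.2
  set A := S.V4.subgroupOf T with hA
  have hAc : Nat.card A = 2 ^ 2 := by
    rw [hA, Nat.card_congr (Subgroup.subgroupOfEquivOfLe hVT).toEquiv, S.card_V4]; rfl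
  have hAself : Subgroup.centralizer (A : Set T) = A := by
    refine le_antisymm (fun (x : T) hx => Subgroup.mem_subgroupOf.mpr (hself x x.2 fun v hv => ?_)) ?_
    · exact (congrArg Subtype.val (hx ⟨v, hVT hv⟩ (Subgroup.mem_subgroupOf.mpr hv))).symm
    · intro x hx y hy
      obtain ⟨σ, hσ, eσ⟩ := Subgroup.mem_subgroupOf.mp hx
      obtain ⟨ρ, hρ, eρ⟩ := Subgroup.mem_subgroupOf.mp hy
      refine Subtype.ext ?_
      show (y : G) * x = x * y
      rw [eσ, eρ, ← map_mul, ← map_mul, (inV_four_mul ρ σ hρ hσ).2]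
  have hg2 : orderOf S.g = 2 := orderOf_eq_prime (by rw [pow_two, S.gg]) (fun e => by
    have h := S.gz
    rw [e, one_mul, mul_one] at h
    have := S.uniq 1 cA⁻¹ (by rw [map_inv, ← S.ha, ← h]; simp)
    exact absurd this.1 (by decide))
  obtain ⟨h, hgT⟩ : ∃ h : G, h * S.g * h⁻¹ ∈ T := by
    obtain ⟨Q, hQ⟩ := (IsPGroup.of_card (G := Subgroup.zpowers S.g) (p := 2) (n := 1)
      (by rw [Nat.card_zpowers, hg2, pow_one])).exists_le_sylow
    obtain ⟨h, hh⟩ := MulAction.exists_smul_eq G Q P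
    refine ⟨h, ?_⟩
    rw [hT, ← hh, Sylow.coe_subgroup_smul]
    exact ⟨_, hQ (Subgroup.mem_zpowers _), rfl⟩
  set g' := h * S.g * h⁻¹ with hg'
  have hg'T : ¬ S.IsT g' := fun e => S.g_not_T (e.trans (isConj_iff.mpr ⟨h, rfl⟩).symm)
  have hg'2 : g' * g' = 1 := by
    rw [hg', show h * S.g * h⁻¹ * (h * S.g * h⁻¹) = h * (S.g * S.g) * h⁻¹ by group, S.gg, mul_one,
      mul_inv_cancel]
  have hg'1 : g' ≠ 1 := fun e => by
    rw [hg', conj_eq_one_iff] at e
    rw [e, orderOf_one] at hg2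
    omega
  have hDcard : Nat.card DG = 8 := by
    rw [hDG, Subgroup.card_map_of_injective (fun a b => S.Ω_inj), card_dEight]
  have hn4 : 4 ≤ n := by
    by_contra hn4
    have hle : Nat.card T ≤ Nat.card DG := by
      rw [hDcard, hn]
      exact (Nat.pow_le_pow_right (by norm_num) (by omega : n ≤ 3)).trans_eq rfl
    have heq := Subgroup.eq_of_le_of_card_ge hP hle
    obtain ⟨π, -, hπ⟩ : g' ∈ DG := heq ▸ hgT
    refine hg'T (hπ ▸ S.IsT_Ω (S.Ω_inj ?_) fun e => hg'1 ?_)
    · rw [map_mul, hπ, hg'2, map_one]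
    · rw [← hπ, e, map_one]
  have hcl := CfsgLib.PGroup.nilpotencyClass_of_self_centralizing n T hn A hAc hAself
  obtain ⟨-, C, hCcyc, hCi⟩ := CfsgLib.MaxClass.taussky n T (by omega) hn
    (CfsgLib.MaxClass.card_commutator_of_maximal (by omega) hn hcl)
  set t : T := ⟨S.Ω vOne, hΩT _ swap_mem_dEight.2.2⟩ with ht
  set v : T := ⟨S.Ω vTwo, hΩT _ swap_mem_dEight.2.1⟩ with hv
  set s : T := ⟨S.Ω (swap 0 1), hΩT _ swap_mem_dEight.1⟩ with hs
  have hΩne : ∀ {σ ρ : Perm (Fin 5)}, σ ≠ ρ → S.Ω σ ≠ S.Ω ρ := fun hne e => hne (S.Ω_inj e)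
  have ht1 : t ≠ 1 := fun e => hΩne (σ := vOne) (ρ := 1) (by decide)
    ((congrArg Subtype.val e).trans (map_one _).symm)
  -- `t` is central
  haveI : Nontrivial T := ⟨⟨t, 1, ht1⟩⟩
  have htZ : t ∈ Subgroup.center T := by
    haveI : Nontrivial (Subgroup.center T) := P.2.center_nontrivial
    obtain ⟨⟨c, hcz⟩, hc1⟩ := exists_ne (1 : Subgroup.center T)
    have hcV : (c : G) ∈ S.V4 := hself c c.2 fun w hw =>
      (congrArg Subtype.val (Subgroup.mem_center_iff.mp hcz ⟨w, hVT hw⟩)).symm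
    obtain ⟨σ, hσ, eσ⟩ := hcV
    have hcs : σ * swap 0 1 = swap 0 1 * σ := by
      refine S.Ω_inj ?_
      rw [map_mul, map_mul, ← eσ]
      exact (congrArg Subtype.val (Subgroup.mem_center_iff.mp hcz s)).symm
    rcases inV_commute_swap σ hσ hcs with rfl | rfl
    · exact absurd (Subtype.ext (Subtype.ext (eσ.trans (map_one _)))) hc1
    · rwa [show t = c from Subtype.ext eσ.symm]
  have hCc : ∀ x ∈ C, ∀ y ∈ C, x * y = y * x := fun x hx y hy =>
    congrArg Subtype.val ((IsCyclic.commGroup (α := C)).mul_comm ⟨x, hx⟩ ⟨y, hy⟩)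
  haveI hCn : C.Normal := Subgroup.normal_of_index_eq_two hCi
  have htC : t ∈ C := by
    by_contra htC
    refine hΩne (σ := vTwo * swap 0 1) (ρ := swap 0 1 * vTwo) (by decide +kernel) ?_
    have key : ∀ u : T, ∃ c ∈ C, u = c ∨ u = c * t := fun u => by
      by_cases hu : u ∈ C
      · exact ⟨u, hu, Or.inl rfl⟩
      · exact ⟨u * t⁻¹, (Subgroup.mul_mem_iff_of_index_two hCi).mpr (by rw [inv_mem_iff]; tauto),
          Or.inr (inv_mul_cancel_right u t).symm⟩
    have ct : ∀ u : T, Commute u t := fun u => Subgroup.mem_center_iff.mp htZ u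
    have all : ∀ a b : T, Commute a b := fun a b => by
      obtain ⟨c, hc, rfl | rfl⟩ := key a <;> obtain ⟨d, hd, rfl | rfl⟩ := key b
      · exact hCc _ hc _ hd
      · exact Commute.mul_right (hCc _ hc _ hd) (ct _)
      · exact Commute.mul_left (hCc _ hc _ hd) (ct _).symm
      · exact (Commute.mul_right (hCc _ hc _ hd) (ct _)).mul_left
          ((ct _).symm.mul_right (Commute.refl t))
    rw [map_mul, map_mul]
    exact congrArg Subtype.val (all v s).eq
  have hinvol : ∀ x ∈ C, x * x = 1 → x ≠ 1 → x = t := fun x hx hx2 hx1 => by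
    have h2 : t * t = 1 := Subtype.ext (show S.Ω vOne * S.Ω vOne = 1 by
      rw [← map_mul, show vOne * vOne = 1 by decide +kernel, map_one])
    exact congrArg Subtype.val (Transfer.eq_of_sq_eq_one_of_isCyclic (A := C) ⟨x, hx⟩ ⟨t, htC⟩
      (Subtype.ext hx2) (Subtype.ext h2) (fun e => hx1 (congrArg Subtype.val e))
      (fun e => ht1 (congrArg Subtype.val e)))
  have hvv : v * v = 1 := Subtype.ext (show S.Ω vTwo * S.Ω vTwo = 1 by
      rw [← map_mul, show vTwo * vTwo = 1 by decide +kernel, map_one])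
  have hvC : v ∉ C := fun e => hΩne (σ := vTwo) (ρ := vOne) (by decide) (congrArg Subtype.val
    (hinvol v e hvv fun e1 => hΩne (σ := vTwo) (ρ := 1) (by decide)
      ((congrArg Subtype.val e1).trans (map_one _).symm)))
  have hCfix : ∀ x ∈ C, Commute x v → x = 1 ∨ x = t := by
    intro x hx hxv
    by_cases hx1 : x = 1
    · exact Or.inl hx1
    right
    have hxV : (x : G) ∈ S.V4 := hself x x.2 fun w hw => by
      obtain ⟨σ, hσ, rfl⟩ := hw
      have c1 : Commute (x : G) (S.Ω vOne) := congrArg Subtype.val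
        (Subgroup.mem_center_iff.mp htZ x)
      have c2 : Commute (x : G) (S.Ω vTwo) := congrArg Subtype.val hxv.eq
      exact S.X_commute (S.mem_X.mpr ⟨c1, c2⟩) hσ
    obtain ⟨σ, hσ, eσ⟩ := hxV
    refine hinvol x hx (Subtype.ext ?_) hx1
    show (x : G) * x = 1
    rw [eσ, ← map_mul, hσ.1, map_one]
  have hvi : v⁻¹ = v := inv_eq_of_mul_eq_one_right hvv
  have hconjC : ∀ x ∈ C, v * x * v ∈ C := fun x hx => by
    have := hCn.conj_mem x hx v; rwa [hvi] at this
  let f : C →* C :=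
    { toFun := fun x => ⟨x * (v * (x : T)⁻¹ * v), mul_mem x.2 (hconjC _ (inv_mem x.2))⟩
      map_one' := Subtype.ext (by simp [hvv])
      map_mul' := fun x y => Subtype.ext (by
        show (x : T) * y * (v * ((x : T) * y)⁻¹ * v) = x * (v * (x : T)⁻¹ * v) * (y * (v * (y : T)⁻¹ * v))
        rw [show ((x : T) * y)⁻¹ = (x : T)⁻¹ * (y : T)⁻¹ by rw [mul_inv_rev, hCc _ (inv_mem y.2) _ (inv_mem x.2)]]
        calc (x : T) * y * (v * ((x : T)⁻¹ * (y : T)⁻¹) * v)
            = x * y * ((v * (x : T)⁻¹ * v⁻¹) * (v * (y : T)⁻¹ * v)) := by group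
          _ = x * (y * (v * (x : T)⁻¹ * v)) * (v * (y : T)⁻¹ * v) := by rw [hvi]; group
          _ = _ := by rw [hCc _ y.2 _ (hconjC _ (inv_mem x.2))]; group) }
  have hker : Nat.card f.ker = 2 := by
    have h1 : ∀ x : C, x ∈ f.ker ↔ x = 1 ∨ x = ⟨t, htC⟩ := by
      intro x
      rw [MonoidHom.mem_ker]
      constructor
      · intro e
        have e' : (x : T) * (v * (x : T)⁻¹ * v) = 1 := congrArg Subtype.val e
        have hc : Commute (x : T) v := by
          show (x : T) * v = v * x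
          calc (x : T) * v = (x : T) * (v * (x : T)⁻¹ * v) * (v⁻¹ * (x : T) * (v⁻¹ * v)) := by group
            _ = v * x := by rw [e', hvi, hvv, one_mul, mul_one]
        rcases hCfix x x.2 hc with e | e
        · exact Or.inl (Subtype.ext e)
        · exact Or.inr (Subtype.ext e)
      · rintro (rfl | rfl)
        · exact map_one f
        · refine Subtype.ext ?_
          show t * (v * t⁻¹ * v) = 1
          rw [← Subgroup.mem_center_iff.mp (inv_mem htZ) v |>.symm, mul_assoc t⁻¹, hvv, mul_one,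
            mul_inv_cancel]
    rw [show (f.ker : Subgroup C) = f.ker from rfl, ← Set.ncard_pair (a := (1 : C)) (b := ⟨t, htC⟩)
      (fun e => ht1 (congrArg Subtype.val e).symm), ← Nat.card_coe_set_eq]
    exact Nat.card_congr (Equiv.setCongr (Set.ext fun x => h1 x))
  have hrange : f.range.index = 2 := by
    have h1 := f.ker.card_mul_index
    rw [Subgroup.index_ker, hker] at h1
    have h2 := f.range.card_mul_index
    have hpos : 0 < Nat.card f.range := Nat.card_pos
    refine Nat.eq_of_mul_eq_mul_left hpos ?_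
    rw [h2, ← h1, mul_comm]
  have hgC : (⟨g', hgT⟩ : T) ∉ C := fun e => hg'T (by
    have := hinvol _ e (Subtype.ext hg'2) (fun e1 => hg'1 (congrArg Subtype.val e1))
    rw [show g' = S.Ω vOne from congrArg Subtype.val this]
    exact IsConj.refl _)
  set w : T := ⟨g', hgT⟩ * v with hw
  have hwC : w ∈ C := (Subgroup.mul_mem_iff_of_index_two hCi).mpr (by tauto)
  have hwR : (⟨w, hwC⟩ : C) ∉ f.range := by
    rintro ⟨x, hx⟩
    have e : (x : T) * (v * (x : T)⁻¹ * v) = ⟨g', hgT⟩ * v := congrArg Subtype.val hx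
    have e2 : (x : T) * v * (x : T)⁻¹ = ⟨g', hgT⟩ := by
      have := congrArg (· * v) e
      simpa [mul_assoc, hvv] using this
    exact hg'T ((S.IsT_Ω (π := vTwo) (by decide +kernel) (by decide)).trans
      (isConj_iff.mpr ⟨(x : G), congrArg Subtype.val e2⟩))
  -- hence `v` inverts the cyclic group
  have hwinv : v * w * v = w⁻¹ := by
    refine eq_inv_of_mul_eq_one_right ?_
    rw [hw, show (⟨g', hgT⟩ : T) * v * (v * (⟨g', hgT⟩ * v) * v) = ⟨g', hgT⟩ * (v * v) * ⟨g', hgT⟩ * (v * v) by group,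
      hvv, mul_one, mul_one]
    exact Subtype.ext hg'2
  have hinvert : ∀ x ∈ C, v * x * v = x⁻¹ := by
    obtain ⟨⟨c, hc⟩, hgen⟩ := hCcyc.exists_generator
    have hkey : (⟨c, hc⟩ : C) ∈ Subgroup.zpowers (⟨w, hwC⟩ : C) := by
      obtain ⟨k, hk⟩ := Subgroup.mem_zpowers_iff.mp (hgen ⟨w, hwC⟩)
      have hodd : Odd k := by
        rw [← Int.not_even_iff_odd]
        rintro ⟨j, rfl⟩
        refine hwR ?_
        rw [← hk, zpow_add]
        exact Subgroup.mul_self_mem_of_index_two hrange _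
      obtain ⟨m, hm⟩ := IsPGroup.iff_orderOf.mp (P.2.to_subgroup C) ⟨c, hc⟩
      have hco : IsCoprime k ((2 ^ m : ℕ) : ℤ) := by
        push_cast
        refine IsCoprime.pow_right ?_
        obtain ⟨j, rfl⟩ := hodd
        exact ⟨1, -j, by ring⟩
      obtain ⟨a, b, hab⟩ := hco
      refine Subgroup.mem_zpowers_iff.mpr ⟨a, ?_⟩
      rw [← hk, ← zpow_mul, show k * a = 1 + ((2 ^ m : ℕ) : ℤ) * (-b) by linarith, zpow_add, zpow_one,
        zpow_mul, zpow_natCast, ← hm, pow_orderOf_eq_one, one_zpow, mul_one]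
    intro x hx
    obtain ⟨k, hk⟩ := Subgroup.mem_zpowers_iff.mp ((Subgroup.zpowers_le.mpr hkey) (hgen ⟨x, hx⟩))
    have e : w ^ k = x := by simpa using congrArg Subtype.val hk
    rw [← e, ← inv_zpow, ← hwinv]
    conv_rhs => rw [show v * w * v = v * w * v⁻¹ by rw [hvi], conj_zpow, hvi]
  have hout : ∀ x : T, x ∉ C → x * x = 1 := by
    intro x hx
    have hxv : x * v ∈ C := (Subgroup.mul_mem_iff_of_index_two hCi).mpr (by tauto)
    have := hinvert _ hxv
    rw [mul_inv_rev, hvi, show v * (x * v) * v = v * x * (v * v) by group, hvv, mul_one] at this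
    calc x * x = v * (v * x) * x := by rw [← mul_assoc v, hvv, one_mul]
      _ = 1 := by rw [this, mul_assoc v, mul_assoc v, inv_mul_cancel, mul_one, hvv]
  -- transfer in the centralizer of `t`
  set X := Subgroup.centralizer ({S.Ω vOne} : Set G) with hX
  have hTX : T ≤ X := fun x hx => Subgroup.mem_centralizer_singleton_iff.mpr
    (congrArg Subtype.val (Subgroup.mem_center_iff.mp htZ ⟨x, hx⟩))
  set PX : Sylow 2 X := P.subtype hTX with hPX
  set QX : Subgroup X := (C.map T.subtype).subgroupOf X with hQX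
  have hQle : QX ≤ (PX : Subgroup X) := fun x hx => by
    obtain ⟨c, -, e⟩ := Subgroup.mem_subgroupOf.mp hx
    rw [hPX, Sylow.coe_subtype, Subgroup.mem_subgroupOf, ← e]
    exact c.2
  have hQrel : QX.relIndex (PX : Subgroup X) = 2 := by
    rw [hPX, Sylow.coe_subtype, hQX, Subgroup.relIndex_subgroupOf hTX,
      Subgroup.relIndex, show (C.map T.subtype).subgroupOf T = C from
        Subgroup.comap_map_eq_self_of_injective T.subtype_injective C, hCi]
  have hM : ∀ x : X, x ∈ (PX : Subgroup X) → x ∉ QX → ∃ M : Subgroup X, M.index = 2 ∧ x ∉ M := by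
    intro x hx hxQ
    have hxT : (x : G) ∈ T := by
      rw [hPX, Sylow.coe_subtype, Subgroup.mem_subgroupOf] at hx; exact hx
    have hxC : (⟨(x : G), hxT⟩ : T) ∉ C := fun e => hxQ (Subgroup.mem_subgroupOf.mpr ⟨_, e, rfl⟩)
    have hx2 : x * x = 1 := Subtype.ext (show (x : G) * x = 1 from congrArg Subtype.val (hout _ hxC))
    rcases Transfer.thompson_transfer PX hQrel hx2 hx hxQ with ⟨M, -, hM, hxM⟩ | ⟨k, -, hk⟩
    · exact ⟨M, hM, hxM⟩
    exfalso
    obtain ⟨c, hcC, ec⟩ := Subgroup.mem_subgroupOf.mp hk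
    have ec' : (c : G) = (k : G) * x * (k : G)⁻¹ := ec
    have hct : c = t := by
      refine hinvol c hcC (Subtype.ext ?_) fun e => ?_
      · show (c : G) * c = 1
        rw [ec', show (k : G) * x * (k : G)⁻¹ * (k * x * (k : G)⁻¹) = k * ((x : G) * x) * (k : G)⁻¹ by group,
          show (x : G) * x = 1 from congrArg Subtype.val hx2, mul_one, mul_inv_cancel]
      · rw [e] at ec'
        refine hxC ?_
        rw [show (⟨(x : G), hxT⟩ : T) = 1 from Subtype.ext (conj_eq_one_iff.mp ec'.symm)]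
        exact one_mem _
    refine hxC ?_
    rw [show (⟨(x : G), hxT⟩ : T) = t from Subtype.ext ?_]
    · exact htC
    show (x : G) = S.Ω vOne
    have hk' := Subgroup.mem_centralizer_singleton_iff.mp k.2
    rw [hct] at ec'
    calc (x : G) = (k : G)⁻¹ * ((k : G) * x * (k : G)⁻¹) * k := by group
      _ = (k : G)⁻¹ * (S.Ω vOne * k) := by rw [← ec', mul_assoc]
      _ = _ := by rw [← hk', inv_mul_cancel_left]
  -- the intersection of the subgroups of index two
  set M0 : Subgroup X := ⨅ M : {M : Subgroup X // M.index = 2}, M.1 with hM0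
  haveI : M0.Normal := Subgroup.normal_iInf_normal fun M => Subgroup.normal_of_index_eq_two M.2
  set zX : X := ⟨S.z, Subgroup.mem_centralizer_singleton_iff.mpr (S.commute_even (by decide)).eq⟩ with hzX
  have hz3 : zX * zX * zX = 1 := Subtype.ext (show S.z * S.z * S.z = 1 by
    rw [← pow_two, ← pow_succ, S.hz])
  have hzM : zX ∈ M0 := Subgroup.mem_iInf.mpr fun M => by
    have h1 := Subgroup.mul_self_mem_of_index_two M.2 zX
    have h2 : zX * zX * zX ∈ M.1 := hz3 ▸ one_mem _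
    exact (Subgroup.mul_mem_cancel_left _ h1).mp h2
  obtain ⟨R⟩ : Nonempty (Sylow 2 M0) := inferInstance
  have hRcyc : IsCyclic (R : Subgroup M0) := by
    obtain ⟨Q, hQ⟩ := (R.2.map M0.subtype).exists_le_sylow
    obtain ⟨k, hk⟩ := MulAction.exists_smul_eq X Q PX
    have hin : ∀ r : (R : Subgroup M0), k * (((r : M0) : X)) * k⁻¹ ∈ QX := by
      intro r
      have h1 : k * ((r : M0) : X) * k⁻¹ ∈ (PX : Subgroup X) := by
        rw [← hk, Sylow.coe_subgroup_smul]
        exact ⟨_, hQ ⟨_, r.2, rfl⟩, rfl⟩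
      by_contra h2
      obtain ⟨M, hM2, hxM⟩ := hM _ h1 h2
      exact hxM (((Subgroup.normal_of_index_eq_two hM2).conj_mem _
        (Subgroup.mem_iInf.mp (r : M0).2 ⟨M, hM2⟩) k))
    haveI : IsCyclic QX := by
      haveI := hCcyc
      have e : C ≃* QX := (Subgroup.equivMapOfInjective C T.subtype T.subtype_injective).trans
        (Subgroup.subgroupOfEquivOfLe (by rintro _ ⟨c, -, rfl⟩; exact hTX c.2)).symm
      exact isCyclic_of_surjective e e.surjective
    exact isCyclic_of_injective ((((MulAut.conj k).toMonoidHom.comp M0.subtype).comp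
      (R : Subgroup M0).subtype).codRestrict QX hin) (fun a b e => by
        have := congrArg Subtype.val e
        exact Subtype.ext (Subtype.ext ((MulAut.conj k).injective this)))
  obtain ⟨R', N, hNn, hNc⟩ := ZStar.hasNormalPComplement_of_cyclic R hRcyc
  have hNodd : ¬ 2 ∣ Nat.card N := by
    rw [← hNc.index_eq_card]; exact R'.not_dvd_index
  have hNmem : ∀ x : M0, x ∈ N ↔ ¬ 2 ∣ orderOf x := by
    intro x
    constructor
    · exact fun hx hd => hNodd (hd.trans (Subgroup.orderOf_dvd_natCard N hx))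
    · intro hx
      rw [← QuotientGroup.eq_one_iff, ← orderOf_eq_one_iff]
      have h1 := orderOf_dvd_natCard ((x : M0) : M0 ⧸ N)
      rw [← Subgroup.index_eq_card, hNc.symm.index_eq_card] at h1
      obtain ⟨m, hm⟩ := IsPGroup.iff_card.mp R'.2
      rw [hm] at h1
      exact Nat.Coprime.eq_one_of_dvd (((Nat.prime_two.coprime_iff_not_dvd.mpr
        fun hd => hx (hd.trans (orderOf_map_dvd (QuotientGroup.mk' N) x)))).symm.pow_right m) h1
  set O : Subgroup X := N.map M0.subtype with hO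
  haveI hOn : O.Normal := by
    refine ⟨?_⟩
    rintro _ ⟨x, hx, rfl⟩ k
    refine ⟨⟨k * x * k⁻¹, Subgroup.Normal.conj_mem inferInstance _ x.2 k⟩, (hNmem _).mpr ?_, rfl⟩
    rw [Subgroup.orderOf_mk, show k * (x : X) * k⁻¹ = MulAut.conj k (x : X) from rfl,
      MulEquiv.orderOf_eq, Subgroup.orderOf_coe]
    exact (hNmem x).mp hx
  have hzO : zX ∈ O := ⟨⟨zX, hzM⟩, (hNmem _).mpr (by
    intro hd
    have : orderOf zX ∣ 3 := orderOf_dvd_of_pow_eq_one (by rw [pow_succ, pow_two, hz3])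
    rw [Subgroup.orderOf_mk] at hd
    exact absurd (hd.trans this) (by decide)), rfl⟩
  have hOodd : ¬ 2 ∣ Nat.card O := by
    rw [hO, Subgroup.card_map_of_injective M0.subtype_injective]; exact hNodd
  -- the quotient is covered by the normalizer of `⟨z⟩`
  set NZ : Subgroup X := Subgroup.normalizer (Subgroup.zpowers zX : Set X) with hNZ
  have hsurj : Function.Surjective ((QuotientGroup.mk' O).comp NZ.subtype) := by
    intro q
    obtain ⟨x, rfl⟩ := QuotientGroup.mk'_surjective O q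
    have hxz : x⁻¹ * zX * x⁻¹⁻¹ ∈ O := hOn.conj_mem _ hzO x⁻¹
    haveI := Fact.mk Nat.prime_three
    have hz0 : orderOf zX = 3 := by rw [← Subgroup.orderOf_coe]; exact orderOf_eq_prime S.hz S.z_ne
    have mkP : ∀ u : O, u ^ 3 = 1 → IsPGroup 3 (Subgroup.zpowers u) := fun u hu => by
      rintro ⟨_, l, rfl⟩
      refine ⟨1, Subtype.ext ?_⟩
      rw [pow_one, SubgroupClass.coe_pow]
      show (u ^ l) ^ 3 = 1
      rw [← zpow_natCast, ← zpow_mul, mul_comm, zpow_mul, zpow_natCast, hu, one_zpow]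
    set u : O := ⟨zX, hzO⟩
    set u' : O := ⟨_, hxz⟩
    have hu : u ^ 3 = 1 := Subtype.ext (by rw [SubgroupClass.coe_pow, ← hz0]; exact pow_orderOf_eq_one zX)
    have hu' : u' ^ 3 = 1 := Subtype.ext (by
      rw [SubgroupClass.coe_pow, conj_pow, ← hz0, pow_orderOf_eq_one, mul_one, mul_inv_cancel]; rfl)
    obtain ⟨A1, hA1⟩ := (mkP u hu).exists_le_sylow
    obtain ⟨A2, hA2⟩ := (mkP u' hu').exists_le_sylow
    obtain ⟨o, ho⟩ := MulAction.exists_smul_eq O A2 A1
    have hmem : o * u' * o⁻¹ ∈ (A1 : Subgroup O) := by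
      rw [← ho, Sylow.coe_subgroup_smul]
      exact ⟨_, hA2 (Subgroup.mem_zpowers _), rfl⟩
    have hle := S.pgroup_three_cent_t (P := (A1 : Subgroup O).map (X.subtype.comp O.subtype))
      (A1.2.map _) ⟨_, hA1 (Subgroup.mem_zpowers _), rfl⟩
      (by rintro _ ⟨p, -, rfl⟩; exact Subgroup.mem_centralizer_singleton_iff.mp (p : X).2)
    have h2 : ((o : X) * x⁻¹) * zX * ((o : X) * x⁻¹)⁻¹ ∈ Subgroup.zpowers zX := by
      obtain ⟨l, hl⟩ := Subgroup.mem_zpowers_iff.mp (hle ⟨_, hmem, rfl⟩)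
      refine Subgroup.mem_zpowers_iff.mpr ⟨l, Subtype.ext ?_⟩
      rw [SubgroupClass.coe_zpow]
      show S.z ^ l = _
      rw [hl]
      simp [u', mul_assoc]
    have hn : (o : X) * x⁻¹ ∈ NZ := by
      have hle2 : (Subgroup.zpowers zX).map (MulAut.conj ((o : X) * x⁻¹)).toMonoidHom = Subgroup.zpowers zX := by
        refine Subgroup.eq_of_le_of_card_ge (by rw [MonoidHom.map_zpowers, Subgroup.zpowers_le]; exact h2) ?_
        rw [Subgroup.card_map_of_injective (MulAut.conj _).injective]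
      rw [hNZ, Subgroup.mem_normalizer_iff]
      intro y
      constructor
      · intro hy
        rw [← hle2]; exact ⟨y, hy, rfl⟩
      · intro hy
        rw [← hle2] at hy
        obtain ⟨y', hy', e⟩ := hy
        rwa [← (MulAut.conj ((o : X) * x⁻¹)).injective e]
    refine ⟨⟨_, inv_mem hn⟩, ?_⟩
    show QuotientGroup.mk' O ((o : X) * x⁻¹)⁻¹ = QuotientGroup.mk' O x
    rw [mul_inv_rev, inv_inv, map_mul, (QuotientGroup.eq_one_iff _).mpr (inv_mem o.2) |>
      (fun e : QuotientGroup.mk' O (o : X)⁻¹ = 1 => e), mul_one]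
  -- so the quotient is an image of the dihedral group
  have hDX : ∀ π : dEight, S.Ω π ∈ X := fun π => hTX (hΩT π π.2)
  let Ψ : dEight →* X ⧸ O := (QuotientGroup.mk' O).comp ((S.Ω.comp dEight.subtype).codRestrict X hDX)
  have hΨ : Function.Surjective Ψ := by
    intro q
    obtain ⟨⟨x, hxn⟩, rfl⟩ := hsurj q
    have h1 := (Subgroup.mem_normalizer_iff.mp hxn zX).mp (Subgroup.mem_zpowers _)
    obtain ⟨l, hl⟩ := Subgroup.mem_zpowers_iff.mp h1
    have h2 : (x : G) * S.z * (x : G)⁻¹ ∈ Subgroup.zpowers S.z :=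
      Subgroup.mem_zpowers_iff.mpr ⟨l, by simpa [hzX] using congrArg Subtype.val hl⟩
    obtain ⟨i, π, e⟩ : ∃ (i : Fin 3) (π : Perm (Fin 5)), (x : G) = S.z ^ (i : ℕ) * S.Ω π := by
      rcases S.zpowers_z_cases h2 with e | e | e
      · exact absurd (conj_eq_one_iff.mp e) S.z_ne
      · exact S.norm _ (Or.inl e)
      · exact S.norm _ (Or.inr e)
    have hπt : π * vOne = vOne * π := by
      refine S.Ω_inj ?_
      have hx' : Commute (x : G) (S.Ω vOne) := Subgroup.mem_centralizer_singleton_iff.mp x.2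
      have := ((S.commute_even (π := vOne) (by decide)).pow_left (i : ℕ)).inv_left.mul_left hx'
      rw [e, inv_mul_cancel_left] at this
      rw [map_mul, map_mul]; exact this.eq
    have hπ : π ∈ dEight := mem_dEight.mpr ⟨hπt, fix_four π hπt⟩
    refine ⟨⟨π, hπ⟩, ?_⟩
    show QuotientGroup.mk' O _ = QuotientGroup.mk' O x
    rw [show x = zX ^ (i : ℕ) * (⟨S.Ω π, hDX ⟨π, hπ⟩⟩ : X) from Subtype.ext e, map_mul, map_pow,
      show QuotientGroup.mk' O zX = 1 from (QuotientGroup.eq_one_iff _).mpr hzO, one_pow, one_mul]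
    rfl
  have h8 : Nat.card (X ⧸ O) ≤ 8 := (Nat.card_le_card_of_surjective Ψ hΨ).trans_eq card_dEight
  have hdvd : Nat.card T ∣ Nat.card (X ⧸ O) := by
    have h1 : Nat.card T ∣ Nat.card X := Subgroup.card_dvd_of_le hTX
    rw [← O.card_mul_index, Subgroup.index_eq_card] at h1
    refine Nat.Coprime.dvd_of_dvd_mul_left ?_ h1
    rw [hn]
    exact ((Nat.prime_two.coprime_iff_not_dvd.mpr hOodd).pow_left n)
  have h16 : 2 ^ 4 ≤ 2 ^ n := Nat.pow_le_pow_right (by norm_num) hn4
  have := Nat.le_of_dvd Nat.card_pos hdvd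
  rw [hn] at this
  omega

/-- The index of the second Klein four group. -/
theorem exists_q : ∃ q : Fin 5, (q = 3 ∨ q = 4) ∧ ∀ u, u ∈ S.U ↔ ∃ σ, InV q σ ∧ u = S.τ (S.Ω σ) :=
  S.U_cases.resolve_left S.U_ne

end CfsgLib.AltEightThree.Setup
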